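import Cfsg.Agent.Mrg.Omega.TV.Basic
import Cfsg.Agent.Mrg.Omega.HOneTwo.Basic
import Cfsg.Agent.Mrg.Omega.BTwo.Split
import Cfsg.Agent.Mrg.Omega.HOne.QuadAbs

-- merged: Cfsg.Agent.Mrg.Omega.HTwo.TLin
section

/-!
# II.0h1, `q = 2`, case (α): LEMMA T, component form, linear version (#14489 (0))

On top of helper895's `TV`: `Sys ρ Om`, `Big`.  The component of `r` together with `0` is the submodule
`h.cls hc hr`; any two of its points are adjacent.

* `Sys.clo_big`, `Sys.adj_cls`;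
* `Sys.irr_cls` : the stabiliser of `r` is irreducible on `cls r / ⟨r⟩`;
* `Sys.blk_cls`, `Sys.mem_cls_of_adj`, `Sys.big_cls`.
-/

set_option autoImplicit false

namespace Cfsg.Agent.Omega.TV

open Module

variable {H : Type*} [Group H] {V : Type*} [AddCommGroup V] [Module (ZMod 2) V]
  {ρ : H →* (V ≃ₗ[ZMod 2] V)} {Om : Set V}

namespace Sys

variable [Finite V]

theorem clo_big (h : Sys ρ Om) (hb : Big ρ Om) : Clo ρ Om :=
  h.clo_of fun b hb' c hc hn hne => by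
    have := h.add_mem hb' (h.adj_of_near hb hc hb' hne.symm (h.near_symm hb' hc hn))
    exact this

theorem pt_of_mem (h : Sys ρ Om) (hc : Clo ρ Om) {r x : V} (hr : r ∈ Om) (hx : x ∈ h.cls hc hr)
    (hx0 : x ≠ 0) : x ∈ Om ∧ Near ρ Om r x := ((h.mem_cls hc hr).1 hx).resolve_left hx0

theorem self_mem_cls (h : Sys ρ Om) (hc : Clo ρ Om) {r : V} (hr : r ∈ Om) : r ∈ h.cls hc hr :=
  (h.mem_cls hc hr).2 (Or.inr ⟨hr, h.near_refl hr⟩)

/-- any two points of a component are adjacent -/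
theorem adj_cls (h : Sys ρ Om) (hb : Big ρ Om) (hc : Clo ρ Om) {r x y : V} (hr : r ∈ Om)
    (hx : x ∈ h.cls hc hr) (hx0 : x ≠ 0) (hy : y ∈ h.cls hc hr) (hy0 : y ≠ 0) (hxy : x ≠ y) :
    Adj ρ x y := by
  obtain ⟨h1, h2⟩ := h.pt_of_mem hc hr hx hx0
  obtain ⟨h3, h4⟩ := h.pt_of_mem hc hr hy hy0
  exact h.adj_of_near hb h1 h3 hxy (h.near_trans h1 hr h3 (h.near_symm hr h1 h2) h4)

/-- the component of `w` is the component of `r` -/
theorem cls_eq (h : Sys ρ Om) (hc : Clo ρ Om) {r w : V} (hr : r ∈ Om) (hw : w ∈ Om)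
    (hwr : w ∈ h.cls hc hr) {x : V} : x ∈ h.cls hc hw ↔ x ∈ h.cls hc hr := by
  obtain ⟨-, h2⟩ := h.pt_of_mem hc hr hwr (h.ne_zero hw)
  rw [h.mem_cls, h.mem_cls]
  constructor
  · rintro (h3 | ⟨h3, h4⟩)
    · exact Or.inl h3
    · exact Or.inr ⟨h3, h.near_trans hr hw h3 h2 h4⟩
  · rintro (h3 | ⟨h3, h4⟩)
    · exact Or.inl h3
    · exact Or.inr ⟨h3, h.near_trans hw hr h3 (h.near_symm hr hw h2) h4⟩

/-- the stabiliser of `r` is irreducible on `cls r / ⟨r⟩` -/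
theorem irr_cls (h : Sys ρ Om) (hb : Big ρ Om) (hc : Clo ρ Om) {r : V} (hr : r ∈ Om)
    {U : Submodule (ZMod 2) V} (hU : U ≤ h.cls hc hr) (hrU : r ∈ U)
    (hinv : ∀ g : H, ρ g r = r → ∀ u ∈ U, ρ g u ∈ U) :
    (∀ u ∈ U, u = 0 ∨ u = r) ∨ h.cls hc hr ≤ U := by
  by_contra hcon
  push Not at hcon
  obtain ⟨⟨a, ha, ha0, har⟩, hx⟩ := hcon
  obtain ⟨x, hx, hxU⟩ := Set.not_subset.1 hx
  have hac := hU ha
  have hxc : x ∈ h.cls hc hr := hx
  set c := a + x with hcdef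
  have hcc : c ∈ h.cls hc hr := (h.cls hc hr).add_mem hac hxc
  have hc0 : c ≠ 0 := by
    intro h0
    have : a = x := v_eq_of_add h0
    exact hxU (this ▸ ha)
  have hca : c ≠ a := by
    intro h0
    have h1 : x = 0 := by
      have := congrArg (a + ·) h0
      simp only [hcdef, self_add_add, v_add_self] at this
      exact this
    exact hxU (h1 ▸ U.zero_mem)
  have har' : a + r ≠ 0 := add_ne_zero_of_ne har
  have harc : a + r ∈ h.cls hc hr := (h.cls hc hr).add_mem hac (h.self_mem_cls hc hr)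
  have hcar : c ≠ a + r := by
    intro h0
    have h1 : x = r := by
      have := congrArg (a + ·) h0
      simp only [hcdef, self_add_add] at this
      exact this
    exact hxU (h1 ▸ hrU)
  obtain ⟨φ₁, f1, e1⟩ := h.adj_cls hb hc hr hcc hc0 hac ha0 hca
  obtain ⟨φ₃, f3, e3⟩ := h.adj_cls hb hc hr hcc hc0 harc har' hcar
  rw [map_add] at e3
  -- a functional of `c` with values `1` at `a` and `0` at `r`
  have key : ∃ φ, Fn ρ c φ ∧ φ a = 1 ∧ φ r = 0 := by
    rcases z2 (φ₁ r) with k | k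
    · exact ⟨φ₁, f1, e1, k⟩
    rcases z2 (φ₃ r) with l | l
    · rw [l, add_zero] at e3
      exact ⟨φ₃, f3, e3, l⟩
    · rcases z2 (φ₃ a) with m | m
      · refine ⟨φ₁ + φ₃, f1.add f3, ?_, ?_⟩
        · rw [LinearMap.add_apply, e1, m, add_zero]
        · rw [LinearMap.add_apply, k, l]; exact z2_add_self 1
      · rw [m, l, z2_add_self] at e3
        exact absurd e3 zero_ne_one
  obtain ⟨φ, ⟨-, g, hg⟩, p1, p2⟩ := key
  have h1 : ρ g r = r := by rw [hg, p2, zero_smul, add_zero]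
  have h2 : ρ g a = x := by rw [hg, p1, one_smul, hcdef, self_add_add]
  exact hxU (h2 ▸ hinv g h1 a ha)

/-- components are blocks -/
theorem blk_cls (h : Sys ρ Om) (hc : Clo ρ Om) {r w : V} (hr : r ∈ Om) (hw : w ∈ h.cls hc hr)
    (hw0 : w ≠ 0) {g : H} (hg : ρ g w ∈ h.cls hc hr) {x : V} (hx : x ∈ h.cls hc hr) :
    ρ g x ∈ h.cls hc hr := by
  rcases (h.mem_cls hc hr).1 hx with rfl | ⟨hxO, hrx⟩
  · rw [map_zero]; exact Submodule.zero_mem _
  obtain ⟨h1, h2⟩ := h.pt_of_mem hc hr hw hw0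
  have hgw0 : ρ g w ≠ 0 := fun e => hw0 ((ρ g).map_eq_zero_iff.1 e)
  obtain ⟨h3, h4⟩ := h.pt_of_mem hc hr hg hgw0
  refine (h.mem_cls hc hr).2 (Or.inr ⟨h.inv g x hxO, ?_⟩)
  have h5 : Near ρ Om w x := h.near_trans h1 hr hxO (h.near_symm hr h1 h2) hrx
  exact h.near_trans hr h3 (h.inv g x hxO) h4 (Near.conj h h5 g)

/-- a neighbour of a point of the component lies in the component -/
theorem mem_cls_of_adj (h : Sys ρ Om) (hc : Clo ρ Om) {r w x : V} (hr : r ∈ Om)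
    (hw : w ∈ h.cls hc hr) (hw0 : w ≠ 0) (hx : x ∈ Om) (ha : Adj ρ w x) : x ∈ h.cls hc hr := by
  obtain ⟨h1, h2⟩ := h.pt_of_mem hc hr hw hw0
  exact (h.mem_cls hc hr).2 (Or.inr ⟨hx, h.near_trans hr h1 hx h2 (h.near_of_adj h1 hx ha)⟩)

/-- the component of `r` is not covered by two elements, if there are two functionals at `r` -/
theorem big_cls (h : Sys ρ Om) (hc : Clo ρ Om) {r : V} (hr : r ∈ Om) {φ ψ : Dual (ZMod 2) V}
    (hφ : Fn ρ r φ) (hψ : Fn ρ r ψ) (h1 : φ ≠ 0) (h2 : ψ ≠ 0) (h3 : φ ≠ ψ) (a b : V) :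
    ∃ c ∈ h.cls hc hr, c ≠ 0 ∧ c ≠ a ∧ c ≠ b ∧ c ≠ a + b := by
  classical
  have h4 : φ + ψ ≠ 0 := by
    intro h0
    refine h3 (LinearMap.ext fun x => ?_)
    have := LinearMap.congr_fun h0 x
    rw [LinearMap.add_apply, LinearMap.zero_apply] at this
    exact v_eq_of_add this
  obtain ⟨s₁, m1, e1⟩ := h.exists_one h1
  obtain ⟨s₂, m2, e2⟩ := h.exists_one h2
  obtain ⟨s₃, m3, e3⟩ := h.exists_one h4
  have k1 : s₁ ∈ h.cls hc hr := h.mem_cls_of_adj hc hr (h.self_mem_cls hc hr) (h.ne_zero hr) m1 ⟨φ, hφ, e1⟩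
  have k2 : s₂ ∈ h.cls hc hr := h.mem_cls_of_adj hc hr (h.self_mem_cls hc hr) (h.ne_zero hr) m2 ⟨ψ, hψ, e2⟩
  have k3 : s₃ ∈ h.cls hc hr := h.mem_cls_of_adj hc hr (h.self_mem_cls hc hr) (h.ne_zero hr) m3
    ⟨φ + ψ, hφ.add hψ, e3⟩
  rw [LinearMap.add_apply] at e3
  have key : ∃ u ∈ h.cls hc hr, ∃ v ∈ h.cls hc hr, φ u = 1 ∧ ψ u = 0 ∧ φ v = 0 ∧ ψ v = 1 := by
    rcases z2 (φ s₃) with l | l
    · rw [l, zero_add] at e3
      rcases z2 (ψ s₁) with m | m
      · exact ⟨s₁, k1, s₃, k3, e1, m, l, e3⟩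
      · refine ⟨s₁ + s₃, Submodule.add_mem _ k1 k3, s₃, k3, ?_, ?_, l, e3⟩
        · rw [map_add, e1, l, add_zero]
        · rw [map_add, m, e3, z2_add_self]
    · have l' : ψ s₃ = 0 := by
        rcases z2 (ψ s₃) with m | m
        · exact m
        · rw [l, m, z2_add_self] at e3
          exact absurd e3 zero_ne_one
      rcases z2 (φ s₂) with m | m
      · exact ⟨s₃, k3, s₂, k2, l, l', m, e2⟩
      · refine ⟨s₃, k3, s₂ + s₃, Submodule.add_mem _ k2 k3, l, l', ?_, ?_⟩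
        · rw [map_add, m, l, z2_add_self]
        · rw [map_add, e2, l', add_zero]
  obtain ⟨u, hu, v, hv, u1, u2, v1, v2⟩ := key
  have hr0 := h.ne_zero hr
  have one0 : (1 : ZMod 2) ≠ 0 := one_ne_zero
  have q1 : φ r = 0 := hφ.1
  have q2 : ψ r = 0 := hψ.1
  by_contra hcon
  push Not at hcon
  have hsub : ({r, u, v, u + v} : Finset V) ⊆ ({a, b, a + b} : Finset V) := by
    intro c hcm
    have hcc : c ∈ h.cls hc hr ∧ c ≠ 0 := by
      simp only [Finset.mem_insert, Finset.mem_singleton] at hcm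
      rcases hcm with rfl | rfl | rfl | rfl
      · exact ⟨h.self_mem_cls hc hr, hr0⟩
      · refine ⟨hu, ?_⟩
        rintro rfl
        rw [map_zero] at u1
        exact one0 u1.symm
      · refine ⟨hv, ?_⟩
        rintro rfl
        rw [map_zero] at v2
        exact one0 v2.symm
      · refine ⟨Submodule.add_mem _ hu hv, fun h0 => ?_⟩
        have := congrArg φ h0
        rw [map_add, u1, v1, map_zero, add_zero] at this
        exact one0 this
    have := hcon c hcc.1 hcc.2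
    simp only [Finset.mem_insert, Finset.mem_singleton]
    by_cases ha : c = a
    · exact Or.inl ha
    by_cases hb : c = b
    · exact Or.inr (Or.inl hb)
    · exact Or.inr (Or.inr (this ha hb))
  have hcard4 : ({r, u, v, u + v} : Finset V).card = 4 := by
    rw [Finset.card_insert_of_notMem, Finset.card_insert_of_notMem, Finset.card_insert_of_notMem,
      Finset.card_singleton]
    · rw [Finset.mem_singleton]
      intro h0
      have := congrArg φ h0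
      rw [map_add, u1, v1, add_zero] at this
      exact one0 this.symm
    · simp only [Finset.mem_insert, Finset.mem_singleton, not_or]
      refine ⟨fun h0 => ?_, fun h0 => ?_⟩
      · rw [h0, v1] at u1
        exact one0 u1.symm
      · have := congrArg ψ h0
        rw [map_add, u2, v2, zero_add] at this
        exact one0 this.symm
    · simp only [Finset.mem_insert, Finset.mem_singleton, not_or]
      refine ⟨fun h0 => ?_, fun h0 => ?_, fun h0 => ?_⟩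
      · rw [h0, u1] at q1
        exact one0 q1
      · rw [h0, v2] at q2
        exact one0 q2
      · rw [h0, map_add, u1, v1, add_zero] at q1
        exact one0 q1
  have hcard3 : ({a, b, a + b} : Finset V).card ≤ 3 := Finset.card_le_three
  have := Finset.card_le_card hsub
  omega

end Sys

end Cfsg.Agent.Omega.TV

end

-- merged: Cfsg.Agent.Mrg.Omega.HTwo.TComp
section

section


/-!
# II.0h1, `q = 2`, case (α): LEMMA T, component form, inside a group (#14489 (0))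

`C` acts on the elementary abelian group `N = ⟨r^C⟩`; `a, b ∈ C` are transvections on `N` with centre `r`; `a`, `b`,
`a b` are not trivial on `N`.  Then the component `W` of `r` is `NatC C N W r`:

* `pt` : all elements `≠ 1` of `W` are conjugates of `r`; `blk` : `W` is a block; `irr` : the stabiliser of `w ∈ W` is
  irreducible on `W / ⟨w⟩`; `adj` : neighbours of elements of `W` are in `W`; `big` : `|W| > 4`.

`natC_of` : `GSys` version; `chain_of_sylow` : the field `chain`; `natC_of_sylow`.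
-/

set_option autoImplicit false

namespace Cfsg.Agent.Omega.HTwo.TComp

open Subgroup Cfsg.Agent.Omega.TV Cfsg.Agent.Omega.HOneTwo Cfsg.Agent.MinSimple.VModule

variable {G : Type*} [Group G]

/-- `W` is the (natural) component of `r` in `N = ⟨r^C⟩` -/
structure NatC (C N W : Subgroup G) (r : G) : Prop where
  W_le : W ≤ N
  sq : ∀ x ∈ W, x * x = 1
  mem : r ∈ W
  ne : r ≠ 1
  pt : ∀ w ∈ W, w ≠ 1 → ∃ c ∈ C, c * r * c⁻¹ = w
  blk : ∀ c ∈ C, ∀ w ∈ W, w ≠ 1 → c * w * c⁻¹ ∈ W → ∀ x ∈ W, c * x * c⁻¹ ∈ W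
  irr : ∀ w ∈ W, w ≠ 1 → ∀ A : Subgroup G, A ≤ W → w ∈ A →
    (∀ c ∈ C, c * w = w * c → ∀ a ∈ A, c * a * c⁻¹ ∈ A) → (∀ a ∈ A, a = 1 ∨ a = w) ∨ W ≤ A
  adj : ∀ w ∈ W, w ≠ 1 → ∀ t ∈ C, (∀ n ∈ N, t * n * t⁻¹ = n ∨ t * n * t⁻¹ = n * w) →
    ∀ c ∈ C, t * (c * r * c⁻¹) * t⁻¹ ≠ c * r * c⁻¹ → c * r * c⁻¹ ∈ W
  big : ∀ a ∈ W, ∀ b ∈ W, ∃ c ∈ W, c ≠ 1 ∧ c ≠ a ∧ c ≠ b ∧ c ≠ a * b

/-- the submodule of a subgroup -/
def ofSub {N : Subgroup G} (h : ∀ x ∈ N, x * x = 1) (A : Subgroup G) : Submodule (ZMod 2) (EA N h) where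
  carrier := {x | x.val ∈ A}
  zero_mem' := A.one_mem
  add_mem' := by
    intro a b ha hb
    exact A.mul_mem ha hb
  smul_mem' := by
    intro c x hx
    rcases EA.val_smul c x with e | e
    · show (c • x).val ∈ A
      rw [e]; exact A.one_mem
    · show (c • x).val ∈ A
      rw [e]; exact hx

theorem mem_ofSub {N : Subgroup G} {h : ∀ x ∈ N, x * x = 1} {A : Subgroup G} {x : EA N h} :
    x ∈ ofSub h A ↔ x.val ∈ A := Iff.rfl

theorem natC_of [Finite G] {C N : Subgroup G} {r : G} (h : GSys C N r) {a b : G} (ha : a ∈ C) (hb : b ∈ C)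
    (hta : ∀ n ∈ N, a * n * a⁻¹ = n ∨ a * n * a⁻¹ = n * r)
    (htb : ∀ n ∈ N, b * n * b⁻¹ = n ∨ b * n * b⁻¹ = n * r)
    (hna : ∃ n ∈ N, a * n * a⁻¹ ≠ n) (hnb : ∃ n ∈ N, b * n * b⁻¹ ≠ n)
    (hnab : ∃ n ∈ N, a * b * n * (a * b)⁻¹ ≠ n) : ∃ W, NatC C N W r := by
  classical
  have hs := h.toSys ha hta hna
  have hrO := h.mem_pts_r
  set r₀ : EA N h.sq := EA.mk h.sq r h.mem with hr₀
  obtain ⟨φ, hφ, fφ⟩ := h.exists_fn h.mem h.ne ha hta
  obtain ⟨ψ, hψ, fψ⟩ := h.exists_fn h.mem h.ne hb htb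
  have hφ0 : φ ≠ 0 := by
    rintro rfl
    obtain ⟨n, hn, e⟩ := hna
    apply e
    have h1 := hφ (EA.mk h.sq n hn)
    rw [LinearMap.zero_apply, zero_smul, add_zero] at h1
    exact congrArg EA.val h1
  have hψ0 : ψ ≠ 0 := by
    rintro rfl
    obtain ⟨n, hn, e⟩ := hnb
    apply e
    have h1 := hψ (EA.mk h.sq n hn)
    rw [LinearMap.zero_apply, zero_smul, add_zero] at h1
    exact congrArg EA.val h1
  have hne : φ ≠ ψ := by
    rintro rfl
    obtain ⟨n, hn, e⟩ := hnab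
    apply e
    set v : EA N h.sq := EA.mk h.sq n hn
    have h1 : h.rep (⟨a, ha⟩ * ⟨b, hb⟩) v = v := by
      rw [rmul, hψ v, hφ (v + φ v • r₀), map_add, map_smul, fφ.1, smul_zero, add_zero, add_assoc,
        v_add_self, add_zero]
    have h2 := congrArg EA.val h1
    rw [h.val_rep] at h2
    exact h2
  have hB := hs.big_of hrO fφ fψ hφ0 hψ0 hne
  have hc := hs.clo_big hB
  set K := hs.cls hc hrO with hK
  have hv : ∀ x : EA N h.sq, x.val ∈ EA.toSub K ↔ x ∈ K := fun x => EA.val_mem_toSub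
  -- elements of the component as vectors
  have lift : ∀ w ∈ EA.toSub K, ∃ x ∈ K, EA.val x = w := fun w hw => hw
  have hpt : ∀ x ∈ K, x ≠ 0 → ∃ c ∈ C, c * r * c⁻¹ = x.val := by
    intro x hx hx0
    obtain ⟨⟨c, hc', e⟩, -⟩ := hs.pt_of_mem hc hrO hx hx0
    exact ⟨c, hc', e.symm⟩
  refine ⟨EA.toSub K, ?_, ?_, ⟨r₀, hs.self_mem_cls hc hrO, rfl⟩, h.ne, ?_, ?_, ?_, ?_, ?_⟩
  · rintro _ ⟨x, -, rfl⟩
    exact x.val_mem
  · rintro _ ⟨x, -, rfl⟩
    exact h.sq _ x.val_mem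
  · rintro _ ⟨x, hx, rfl⟩ hx1
    exact hpt x hx fun e => hx1 (EA.val_eq_one.2 e)
  · rintro c hcC _ ⟨w, hw, rfl⟩ hw1 hcw _ ⟨x, hx, rfl⟩
    have h1 : h.rep ⟨c, hcC⟩ w ∈ K := (hv _).1 hcw
    have h2 := hs.blk_cls hc hrO hw (fun e => hw1 (EA.val_eq_one.2 e)) h1 hx
    exact ⟨_, h2, rfl⟩
  · rintro _ ⟨w, hw, rfl⟩ hw1 A hA hwA hinv
    have hw0 : w ≠ 0 := fun e => hw1 (EA.val_eq_one.2 e)
    obtain ⟨hwO, -⟩ := hs.pt_of_mem hc hrO hw hw0
    have hirr := hs.irr_cls hB hc hwO (U := ofSub h.sq A) ?_ hwA ?_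
    · rcases hirr with h1 | h1
      · left
        intro x hx
        obtain ⟨y, hy, rfl⟩ := hA hx
        rcases h1 y hx with rfl | rfl
        · exact Or.inl rfl
        · exact Or.inr rfl
      · right
        rintro _ ⟨x, hx, rfl⟩
        exact h1 ((hs.cls_eq hc hrO hwO hw).2 hx)
    · intro x hx
      exact (hs.cls_eq hc hrO hwO hw).2 ((hv x).1 (hA hx))
    · rintro ⟨g, hg⟩ hgw u hu
      have h1 : g * w.val * g⁻¹ = w.val := congrArg EA.val hgw
      exact hinv g hg (mul_inv_eq_iff_eq_mul.1 h1) u.val hu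
  · rintro _ ⟨w, hw, rfl⟩ hw1 t ht htn c hcC hne'
    have hw0 : w ≠ 0 := fun e => hw1 (EA.val_eq_one.2 e)
    obtain ⟨χ, hχ, fχ⟩ := h.exists_fn (s := w.val) w.val_mem hw1 ht htn
    set x : EA N h.sq := EA.mk h.sq (c * r * c⁻¹) (h.nor c hcC r h.mem) with hx
    have hxO : x ∈ h.pts := ⟨c, hcC, rfl⟩
    have h1 : χ x = 1 := by
      refine z2_ne_zero fun e => hne' ?_
      have h2 := hχ x
      rw [e, zero_smul, add_zero] at h2
      exact congrArg EA.val h2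
    have h2 := hs.mem_cls_of_adj hc hrO hw hw0 hxO ⟨χ, fχ, h1⟩
    exact ⟨x, h2, rfl⟩
  · rintro _ ⟨a', -, rfl⟩ _ ⟨b', -, rfl⟩
    obtain ⟨c, hcK, h1, h2, h3, h4⟩ := hs.big_cls hc hrO fφ fψ hφ0 hψ0 hne a' b'
    refine ⟨c.val, ⟨c, hcK, rfl⟩, fun e => h1 (EA.val_eq_one.1 e), fun e => h2 (EA.ext e),
      fun e => h3 (EA.ext e), fun e => h4 (EA.ext e)⟩

end Cfsg.Agent.Omega.HTwo.TComp

end

section


/-!
# `O₂(X / C_X(U)) = 1` for `U = ⟨A^X⟩`, `A ≤ Z(S)`-like (`A` centralised by the Sylow group `S` of `X`)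

* `le_cen_cl`, `le_cen_cl_of_pow` (as `MinSimple.Basic.le_centralizer_zl`, with `cl A X` for `zl S X`);
* `gsys_of_sylow` : the structure `TV.GSys`; `natC_of_sylow`.
-/

set_option autoImplicit false

namespace Cfsg.Agent.Omega.HTwo.TComp

open Subgroup Cfsg.Agent.Omega.TV Cfsg.Agent.Omega.HOneTwo Cfsg.Agent.MinSimple.VModule
open Cfsg.Agent Cfsg.Agent.MinSimple.Basic Cfsg.Agent.Omega.BTwo

universe u

variable {G : Type u} [Group G]

theorem le_cen_cl [Finite G] {X S D A : Subgroup G} (hSX : S ≤ X) (hS : IsPGroup 2 S)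
    (hSs : ¬ 2 ∣ S.relIndex X) (hA : S ≤ centralizer (A : Set G)) (hD : X ≤ normalizer (D : Set G))
    (h : D ≤ centralizer (cl A X : Set G) ⊔ (S ⊓ D)) : D ≤ centralizer (cl A X : Set G) := by
  set V := cl A X with hV
  have hXV : X ≤ normalizer (V : Set G) := le_normalizer_cl A X
  have hC : A ≤ V ⊓ centralizer ((S ⊓ D : Subgroup G) : Set G) :=
    le_inf (le_cl A X) (le_centralizer_iff.1 (inf_le_left.trans hA))
  have hn : X ≤ normalizer ((V ⊓ centralizer ((S ⊓ D : Subgroup G) : Set G) : Subgroup G) :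
      Set G) := by
    refine (frattini hSX hS hSs hD).trans (sup_le (h.trans (sup_le ?_ ?_)) ?_)
    · intro c hc
      refine mem_normalizer_of_map_le ?_
      rintro _ ⟨v, ⟨hv1, hv2⟩, rfl⟩
      have e : c * v * c⁻¹ = v := by
        rw [← mem_centralizer_iff.mp hc v hv1]
        group
      change c * v * c⁻¹ ∈ _
      rw [e]
      exact ⟨hv1, hv2⟩
    · intro c hc
      refine mem_normalizer_of_map_le ?_
      rintro _ ⟨v, ⟨hv1, hv2⟩, rfl⟩
      have e : c * v * c⁻¹ = v := by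
        rw [mem_centralizer_iff.mp hv2 c hc]
        group
      change c * v * c⁻¹ ∈ _
      rw [e]
      exact ⟨hv1, hv2⟩
    · rintro c ⟨hcX, hcN⟩
      refine mem_normalizer_of_map_le ?_
      rintro _ ⟨v, ⟨hv1, hv2⟩, rfl⟩
      refine ⟨(mem_normalizer_iff.mp (hXV hcX) v).mp hv1, ?_⟩
      change c * v * c⁻¹ ∈ centralizer ((S ⊓ D : Subgroup G) : Set G)
      rw [mem_centralizer_iff]
      intro t ht
      have h4 : c⁻¹ * t * c ∈ S ⊓ D := by
        have := (mem_normalizer_iff.mp (inv_mem hcN) t).mp ht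
        rwa [inv_inv] at this
      have h5 := mem_centralizer_iff.mp hv2 _ h4
      calc t * (c * v * c⁻¹) = c * ((c⁻¹ * t * c) * v) * c⁻¹ := by group
        _ = c * (v * (c⁻¹ * t * c)) * c⁻¹ := by rw [h5]
        _ = c * v * c⁻¹ * t := by group
  have hle : V ≤ V ⊓ centralizer ((S ⊓ D : Subgroup G) : Set G) := cl_le hC hn
  refine h.trans (sup_le le_rfl ?_)
  exact le_centralizer_iff.mp (hle.trans inf_le_right)

theorem le_cen_cl_of_pow [Finite G] {X S D A : Subgroup G} (hSX : S ≤ X) (hS : IsPGroup 2 S)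
    (hSs : ¬ 2 ∣ S.relIndex X) (hA : S ≤ centralizer (A : Set G)) (hDX : D ≤ X)
    (hD : X ≤ normalizer (D : Set G))
    (h : ∀ x ∈ D, ∃ k : ℕ, x ^ 2 ^ k ∈ centralizer (cl A X : Set G)) :
    D ≤ centralizer (cl A X : Set G) := by
  have hf : Fact (Nat.Prime 2) := ⟨Nat.prime_two⟩
  refine le_cen_cl hSX hS hSs hA hD ?_
  have h1 : IsPGroup 2 (S.subgroupOf X) := hS.comap_of_injective _ X.subtype_injective
  have hn : (D.subgroupOf X).Normal := normal_subgroupOf_of_le_normalizer hD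
  have hn2 : ((X ⊓ centralizer (cl A X : Set G)).subgroupOf X).Normal := by
    refine normal_subgroupOf_of_le_normalizer ?_
    intro x hx
    have h3 := normalizer_le_normalizer_centralizer _ (le_normalizer_cl A X hx)
    rw [← cj_eq_self_iff, cj_inf, cj_eq_self_iff.2 h3, cj_eq_self_iff.2 (le_normalizer hx)]
  have h2 := Lib.SylowNormalInf.le_sup_inf (h1.toSylow hSs : Sylow 2 X)
    (D.subgroupOf X) ((X ⊓ centralizer (cl A X : Set G)).subgroupOf X) (fun x hx => by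
      obtain ⟨k, hk⟩ := h x hx
      exact ⟨k, (x ^ 2 ^ k).2, hk⟩)
  have h3 := Subgroup.map_mono (f := X.subtype) h2
  rw [subgroupOf_map_subtype, inf_eq_left.mpr hDX, Subgroup.map_sup, subgroupOf_map_subtype] at h3
  refine h3.trans (sup_le_sup (inf_le_left.trans inf_le_right) ?_)
  rintro _ ⟨x, hx, rfl⟩
  exact hx

/-- the group acting trivially on `U` and `N / U` acts trivially on `N = ⟨A^C⟩` -/
theorem chain_of_sylow [Finite G] (T : Sylow 2 G) {C A : Subgroup G} (hTC : (T : Subgroup G) ≤ C)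
    (hA : (T : Subgroup G) ≤ centralizer (A : Set G)) (sq : ∀ x ∈ cl A C, x * x = 1) {U : Subgroup G}
    (hU : U ≤ cl A C) (hCU : ∀ c ∈ C, ∀ u ∈ U, c * u * c⁻¹ ∈ U) {c : G} (hc : c ∈ C)
    (h1 : ∀ u ∈ U, c * u * c⁻¹ = u) (h2 : ∀ n ∈ cl A C, c * n * c⁻¹ * n⁻¹ ∈ U) :
    ∀ n ∈ cl A C, c * n * c⁻¹ = n := by
  set N := cl A C with hN
  have hNC : ∀ c ∈ C, ∀ n ∈ N, c * n * c⁻¹ ∈ N := fun c hc n hn =>
    conj_mem_of_normalizer (le_normalizer_cl A C hc) hn
  let K : Subgroup G :=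
    { carrier := {c | c ∈ C ∧ (∀ u ∈ U, c * u * c⁻¹ = u) ∧ ∀ n ∈ N, c * n * c⁻¹ * n⁻¹ ∈ U}
      one_mem' := ⟨C.one_mem, fun u _ => by group, fun n _ => by
        have : (1 : G) * n * 1⁻¹ * n⁻¹ = 1 := by group
        rw [this]; exact U.one_mem⟩
      mul_mem' := by
        rintro x y ⟨hx, hx1, hx2⟩ ⟨hy, hy1, hy2⟩
        refine ⟨C.mul_mem hx hy, fun u hu => ?_, fun n hn => ?_⟩
        · have e : x * y * u * (x * y)⁻¹ = x * (y * u * y⁻¹) * x⁻¹ := by group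
          rw [e, hy1 u hu, hx1 u hu]
        · have e : x * y * n * (x * y)⁻¹ * n⁻¹ =
              (x * (y * n * y⁻¹) * x⁻¹ * (y * n * y⁻¹)⁻¹) * (y * n * y⁻¹ * n⁻¹) := by group
          rw [e]
          exact U.mul_mem (hx2 _ (hNC y hy n hn)) (hy2 n hn)
      inv_mem' := by
        rintro x ⟨hx, hx1, hx2⟩
        refine ⟨C.inv_mem hx, fun u hu => ?_, fun n hn => ?_⟩
        · nth_rewrite 1 [← hx1 u hu]
          group
        · have h3 := hx2 _ (hNC _ (C.inv_mem hx) n hn)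
          have e : x⁻¹ * n * x⁻¹⁻¹ * n⁻¹ =
              (x * (x⁻¹ * n * x⁻¹⁻¹) * x⁻¹ * (x⁻¹ * n * x⁻¹⁻¹)⁻¹)⁻¹ := by group
          rw [e]
          exact U.inv_mem h3 }
  have hKC : K ≤ C := fun x hx => hx.1
  have hKn : C ≤ normalizer (K : Set G) := by
    have key : ∀ g ∈ C, ∀ x ∈ K, g * x * g⁻¹ ∈ K := by
      rintro g hg x ⟨hx, hx1, hx2⟩
      refine ⟨C.mul_mem (C.mul_mem hg hx) (C.inv_mem hg), fun u hu => ?_, fun n hn => ?_⟩
      · have h3 := hx1 _ (hCU _ (C.inv_mem hg) u hu)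
        have e : g * x * g⁻¹ * u * (g * x * g⁻¹)⁻¹ = g * (x * (g⁻¹ * u * g⁻¹⁻¹) * x⁻¹) * g⁻¹ := by group
        rw [e, h3]; group
      · have h3 := hCU g hg _ (hx2 _ (hNC _ (C.inv_mem hg) n hn))
        have e : g * x * g⁻¹ * n * (g * x * g⁻¹)⁻¹ * n⁻¹ =
            g * (x * (g⁻¹ * n * g⁻¹⁻¹) * x⁻¹ * (g⁻¹ * n * g⁻¹⁻¹)⁻¹) * g⁻¹ := by group
        rw [e]; exact h3
    intro g hg
    rw [mem_normalizer_iff]
    intro x
    refine ⟨fun hx => key g hg x hx, fun hx => ?_⟩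
    have h3 := key _ (C.inv_mem hg) _ hx
    have e : g⁻¹ * (g * x * g⁻¹) * g⁻¹⁻¹ = x := by group
    rwa [e] at h3
  have hsyl := not_dvd_relIndex T hTC
  have h5 : K ≤ centralizer (N : Set G) := by
    refine le_cen_cl_of_pow hTC T.isPGroup' hsyl hA hKC hKn ?_
    rintro x ⟨hx, hx1, hx2⟩
    refine ⟨1, ?_⟩
    rw [pow_one, mem_centralizer_iff]
    intro n hn
    have h3 := hx2 n hn
    set d := x * n * x⁻¹ * n⁻¹ with hd
    have h4 : x * n = d * n * x := by rw [hd]; group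
    have h6 : x * d = d * x := mul_inv_eq_iff_eq_mul.1 (hx1 d h3)
    calc n * x ^ 2 = (d * d) * n * x ^ 2 := by rw [sq d (hU h3)]; group
      _ = d * (d * n * x) * x := by rw [pow_two]; group
      _ = (d * x) * n * x := by rw [← h4]; group
      _ = x * (d * n * x) := by rw [← h6]; group
      _ = x ^ 2 * n := by rw [← h4, pow_two]; group
  intro n hn
  have h6 : c ∈ K := ⟨hc, h1, h2⟩
  have h7 := mem_centralizer_iff.1 (h5 h6) n hn
  rw [← h7]; group

theorem zpowers_two {r : G} (h : r * r = 1) {x : G} (hx : x ∈ zpowers r) : x = 1 ∨ x = r := by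
  obtain ⟨k, rfl⟩ := hx
  rcases Int.even_or_odd' k with ⟨m, rfl | rfl⟩
  · left
    change r ^ (2 * m) = 1
    rw [zpow_mul]
    have : r ^ (2 : ℤ) = 1 := by rw [zpow_two]; exact h
    rw [this, one_zpow]
  · right
    change r ^ (2 * m + 1) = r
    rw [zpow_add, zpow_mul]
    have : r ^ (2 : ℤ) = 1 := by rw [zpow_two]; exact h
    rw [this, one_zpow, one_mul, zpow_one]

/-- `C ≥ T` Sylow, `r ∈ Z(T)`, `N = ⟨r^C⟩` elementary -/
theorem gsys_of_sylow [Finite G] (T : Sylow 2 G) {C A : Subgroup G} {r : G}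
    (hTC : (T : Subgroup G) ≤ C) (hT : ∀ t ∈ (T : Subgroup G), t * r = r * t)
    (hA : ∀ x, x ∈ A ↔ x = 1 ∨ x = r) (hr : r ≠ 1)
    (sq : ∀ x ∈ cl A C, x * x = 1) : GSys C (cl A C) r where
  sq := sq
  nor := fun _ hc _ hn => conj_mem_of_normalizer (le_normalizer_cl A C hc) hn
  mem := le_cl A C ((hA r).2 (Or.inr rfl))
  ne := hr
  gen := by
    refine iSup_le fun m => ?_
    rintro _ ⟨x, hx, rfl⟩
    change (m : G) * x * (m : G)⁻¹ ∈ _
    rcases (hA x).1 hx with rfl | rfl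
    · rw [mul_one, mul_inv_cancel]; exact one_mem _
    · exact subset_closure ⟨m, m.2, rfl⟩
  chain := by
    intro U hU hCU c hc h1 h2
    refine chain_of_sylow T hTC ?_ sq hU hCU hc h1 h2
    intro t ht
    rw [mem_centralizer_iff]
    intro x hx
    rcases (hA x).1 hx with rfl | rfl
    · rw [one_mul, mul_one]
    · exact (hT t ht).symm

/-- **LEMMA T**, component form, inside a group -/
theorem natC_of_sylow [Finite G] (T : Sylow 2 G) {C A : Subgroup G} {r : G}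
    (hTC : (T : Subgroup G) ≤ C) (hT : ∀ t ∈ (T : Subgroup G), t * r = r * t)
    (hA : ∀ x, x ∈ A ↔ x = 1 ∨ x = r) (hr : r ≠ 1)
    (sq : ∀ x ∈ cl A C, x * x = 1) {a b : G} (ha : a ∈ C) (hb : b ∈ C)
    (hta : ∀ n ∈ cl A C, a * n * a⁻¹ = n ∨ a * n * a⁻¹ = n * r)
    (htb : ∀ n ∈ cl A C, b * n * b⁻¹ = n ∨ b * n * b⁻¹ = n * r)
    (hna : ∃ n ∈ cl A C, a * n * a⁻¹ ≠ n) (hnb : ∃ n ∈ cl A C, b * n * b⁻¹ ≠ n)
    (hnab : ∃ n ∈ cl A C, a * b * n * (a * b)⁻¹ ≠ n) : ∃ W, NatC C (cl A C) W r :=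
  natC_of (gsys_of_sylow T hTC hT hA hr sq) ha hb hta htb hna hnb hnab

end Cfsg.Agent.Omega.HTwo.TComp

end

section


/-!
# II.0h1, `q = 2`, over `T`: LEMMA T, component form, inside a group

`GSysW C N r` : `C` acts on the elementary abelian group `N`, `r ∈ N`; `N` need not be generated by the conjugates of
`r`; `chain` : `O₂(C / C_C(N)) = 1` in elementary form.

* `natC_of'` : `a, b ∈ C` transvections on `N` with centre `r`, `a`, `b`, `a b` not trivial on `N`: the component `W` of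
  `r` is `NatC C N W r`, `W ≤ ⟨r^C⟩`;
* `chain_of_core` : `chain` from "every normal `B ≤ C` whose squares centralise `N` centralises `N`";
* `chain_of_T` : `chain` for `N = ⟨A^C⟩`, `A` centralised by a Sylow group `T` of `C`;
* `natC_of_core`, `natC_of_T`.
-/

set_option autoImplicit false

namespace Cfsg.Agent.Omega.HT.TComp

open Subgroup Cfsg.Agent.Omega.TV Cfsg.Agent.Omega.HOneTwo Cfsg.Agent.MinSimple.VModule
open Cfsg.Agent Cfsg.Agent.MinSimple.Basic Cfsg.Agent.Omega.BTwo Cfsg.Agent.Omega.HTwo.TComp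

open Module

variable {G : Type*} [Group G]

/-- `C` acts on the elementary abelian group `N ∋ r` -/
structure GSysW (C N : Subgroup G) (r : G) : Prop where
  sq : ∀ x ∈ N, x * x = 1
  nor : ∀ c ∈ C, ∀ n ∈ N, c * n * c⁻¹ ∈ N
  mem : r ∈ N
  ne : r ≠ 1
  chain : ∀ U : Subgroup G, U ≤ N → (∀ c ∈ C, ∀ u ∈ U, c * u * c⁻¹ ∈ U) →
    ∀ c ∈ C, (∀ u ∈ U, c * u * c⁻¹ = u) → (∀ n ∈ N, c * n * c⁻¹ * n⁻¹ ∈ U) →
      ∀ n ∈ N, c * n * c⁻¹ = n

namespace GSysW

variable {C N : Subgroup G} {r : G} (h : GSysW C N r)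

include h

/-- The representation. -/
noncomputable def rep : C →* (EA N h.sq ≃ₗ[ZMod 2] EA N h.sq) := EA.crep h.sq C h.nor

/-- The points. -/
def pts : Set (EA N h.sq) := {a | ∃ c ∈ C, a.val = c * r * c⁻¹}

@[simp] theorem val_rep (g : C) (a : EA N h.sq) :
    (h.rep g a).val = (g : G) * a.val * (g : G)⁻¹ := rfl

theorem inv_eq {x : G} (hx : x ∈ N) : x⁻¹ = x := inv_eq_of_mul_eq_one_left (h.sq x hx)

theorem mem_pts_r : EA.mk h.sq r h.mem ∈ h.pts := ⟨1, C.one_mem, by simp⟩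

/-- A nontrivial transvection `t` with centre `r` gives a functional. -/
theorem exists_fn {s t : G} (hs : s ∈ N) (hs1 : s ≠ 1) (ht : t ∈ C)
    (htn : ∀ n ∈ N, t * n * t⁻¹ = n ∨ t * n * t⁻¹ = n * s) :
    ∃ φ : Dual (ZMod 2) (EA N h.sq), (∀ a, h.rep ⟨t, ht⟩ a = a + φ a • EA.mk h.sq s hs) ∧
      Fn h.rep (EA.mk h.sq s hs) φ := by
  have hr : EA.mk h.sq s hs ≠ 0 := fun e => hs1 (EA.val_eq_one.2 e)
  obtain ⟨φ, hφ⟩ := exists_functional (h.rep ⟨t, ht⟩) hr (fun a => by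
    rcases htn a.val a.val_mem with e | e
    · exact Or.inl (EA.ext e)
    · exact Or.inr (EA.ext e))
  refine ⟨φ, hφ, ?_, ⟨t, ht⟩, hφ⟩
  by_contra hne
  have h1 := hφ (EA.mk h.sq s hs)
  rw [z2_ne_zero hne, one_smul, v_add_self] at h1
  have h2 : (h.rep ⟨t, ht⟩).toLinearMap (EA.mk h.sq s hs) = 0 := h1
  exact hr ((h.rep ⟨t, ht⟩).map_eq_zero_iff.1 h2)

theorem toSysW {t : G} (ht : t ∈ C) (htn : ∀ n ∈ N, t * n * t⁻¹ = n ∨ t * n * t⁻¹ = n * r)
    (hne : ∃ n ∈ N, t * n * t⁻¹ ≠ n) : SysW h.rep h.pts where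
  zero := by
    rintro ⟨c, _, e⟩
    have e' : (1 : G) = c * r * c⁻¹ := e
    exact h.ne (conj_eq_one_iff.1 e'.symm)
  inv := by
    rintro g a ⟨c, hc, e⟩
    refine ⟨g * c, C.mul_mem g.2 hc, ?_⟩
    rw [h.val_rep, e]
    group
  trans := by
    rintro a ⟨c, hc, e⟩ b ⟨d, hd, e'⟩
    refine ⟨⟨d * c⁻¹, C.mul_mem hd (C.inv_mem hc)⟩, EA.ext ?_⟩
    rw [h.val_rep, e, e']
    group
  ex := by
    obtain ⟨φ, hφ, hfn⟩ := h.exists_fn h.mem h.ne ht htn
    refine ⟨_, h.mem_pts_r, φ, ?_, hfn⟩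
    rintro rfl
    obtain ⟨n, hn, e⟩ := hne
    apply e
    have h1 := hφ (EA.mk h.sq n hn)
    rw [LinearMap.zero_apply, zero_smul, add_zero] at h1
    exact congrArg EA.val h1
  chain := by
    intro U hU g h1 h2 v
    apply EA.ext
    rw [h.val_rep]
    refine h.chain (EA.toSub U) ?_ ?_ g g.2 ?_ ?_ v.val v.val_mem
    · rintro _ ⟨a, _, rfl⟩
      exact a.val_mem
    · rintro c hc _ ⟨a, ha, rfl⟩
      exact ⟨_, hU ⟨c, hc⟩ a ha, rfl⟩
    · rintro _ ⟨a, ha, rfl⟩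
      exact congrArg EA.val (h1 a ha)
    · intro n hn
      have h3 := h2 (EA.mk h.sq n hn)
      refine ⟨_, h3, ?_⟩
      rw [EA.val_add, h.val_rep, EA.val_mk, h.inv_eq hn]

end GSysW

/-- **LEMMA T**, component form, `N` not necessarily generated by the conjugates of `r` -/
theorem natC_of' [Finite G] {C N : Subgroup G} {r : G} (h : GSysW C N r) {a b : G} (ha : a ∈ C) (hb : b ∈ C)
    (hta : ∀ n ∈ N, a * n * a⁻¹ = n ∨ a * n * a⁻¹ = n * r)
    (htb : ∀ n ∈ N, b * n * b⁻¹ = n ∨ b * n * b⁻¹ = n * r)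
    (hna : ∃ n ∈ N, a * n * a⁻¹ ≠ n) (hnb : ∃ n ∈ N, b * n * b⁻¹ ≠ n)
    (hnab : ∃ n ∈ N, a * b * n * (a * b)⁻¹ ≠ n) : ∃ W, NatC C N W r ∧ W ≤ Subgroup.closure {x | ∃ c ∈ C, x = c * r * c⁻¹} := by
  classical
  have hs := h.toSysW ha hta hna
  have hrO := h.mem_pts_r
  set r₀ : EA N h.sq := EA.mk h.sq r h.mem with hr₀
  obtain ⟨φ, hφ, fφ⟩ := h.exists_fn h.mem h.ne ha hta
  obtain ⟨ψ, hψ, fψ⟩ := h.exists_fn h.mem h.ne hb htb
  have hφ0 : φ ≠ 0 := by
    rintro rfl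
    obtain ⟨n, hn, e⟩ := hna
    apply e
    have h1 := hφ (EA.mk h.sq n hn)
    rw [LinearMap.zero_apply, zero_smul, add_zero] at h1
    exact congrArg EA.val h1
  have hψ0 : ψ ≠ 0 := by
    rintro rfl
    obtain ⟨n, hn, e⟩ := hnb
    apply e
    have h1 := hψ (EA.mk h.sq n hn)
    rw [LinearMap.zero_apply, zero_smul, add_zero] at h1
    exact congrArg EA.val h1
  have hne : φ ≠ ψ := by
    rintro rfl
    obtain ⟨n, hn, e⟩ := hnab
    apply e
    set v : EA N h.sq := EA.mk h.sq n hn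
    have h1 : h.rep (⟨a, ha⟩ * ⟨b, hb⟩) v = v := by
      rw [rmul, hψ v, hφ (v + φ v • r₀), map_add, map_smul, fφ.1, smul_zero, add_zero, add_assoc,
        v_add_self, add_zero]
    have h2 := congrArg EA.val h1
    rw [h.val_rep] at h2
    exact h2
  have hB := hs.big_of hrO fφ fψ hφ0 hψ0 hne
  have hc := hs.clo_big hB
  set K := hs.cls hc hrO with hK
  have hv : ∀ x : EA N h.sq, x.val ∈ EA.toSub K ↔ x ∈ K := fun x => EA.val_mem_toSub
  -- elements of the component as vectors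
  have lift : ∀ w ∈ EA.toSub K, ∃ x ∈ K, EA.val x = w := fun w hw => hw
  have hpt : ∀ x ∈ K, x ≠ 0 → ∃ c ∈ C, c * r * c⁻¹ = x.val := by
    intro x hx hx0
    obtain ⟨⟨c, hc', e⟩, -⟩ := hs.pt_of_mem hc hrO hx hx0
    exact ⟨c, hc', e.symm⟩
  refine ⟨EA.toSub K, ⟨?_, ?_, ⟨r₀, hs.self_mem_cls hc hrO, rfl⟩, h.ne, ?_, ?_, ?_, ?_, ?_⟩, ?_⟩
  · rintro _ ⟨x, -, rfl⟩
    exact x.val_mem
  · rintro _ ⟨x, -, rfl⟩
    exact h.sq _ x.val_mem
  · rintro _ ⟨x, hx, rfl⟩ hx1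
    exact hpt x hx fun e => hx1 (EA.val_eq_one.2 e)
  · rintro c hcC _ ⟨w, hw, rfl⟩ hw1 hcw _ ⟨x, hx, rfl⟩
    have h1 : h.rep ⟨c, hcC⟩ w ∈ K := (hv _).1 hcw
    have h2 := hs.blk_cls hc hrO hw (fun e => hw1 (EA.val_eq_one.2 e)) h1 hx
    exact ⟨_, h2, rfl⟩
  · rintro _ ⟨w, hw, rfl⟩ hw1 A hA hwA hinv
    have hw0 : w ≠ 0 := fun e => hw1 (EA.val_eq_one.2 e)
    obtain ⟨hwO, -⟩ := hs.pt_of_mem hc hrO hw hw0
    have hirr := hs.irr_cls hB hc hwO (U := ofSub h.sq A) ?_ hwA ?_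
    · rcases hirr with h1 | h1
      · left
        intro x hx
        obtain ⟨y, hy, rfl⟩ := hA hx
        rcases h1 y hx with rfl | rfl
        · exact Or.inl rfl
        · exact Or.inr rfl
      · right
        rintro _ ⟨x, hx, rfl⟩
        exact h1 ((hs.cls_eq hc hrO hwO hw).2 hx)
    · intro x hx
      exact (hs.cls_eq hc hrO hwO hw).2 ((hv x).1 (hA hx))
    · rintro ⟨g, hg⟩ hgw u hu
      have h1 : g * w.val * g⁻¹ = w.val := congrArg EA.val hgw
      exact hinv g hg (mul_inv_eq_iff_eq_mul.1 h1) u.val hu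
  · rintro _ ⟨w, hw, rfl⟩ hw1 t ht htn c hcC hne'
    have hw0 : w ≠ 0 := fun e => hw1 (EA.val_eq_one.2 e)
    obtain ⟨χ, hχ, fχ⟩ := h.exists_fn (s := w.val) w.val_mem hw1 ht htn
    set x : EA N h.sq := EA.mk h.sq (c * r * c⁻¹) (h.nor c hcC r h.mem) with hx
    have hxO : x ∈ h.pts := ⟨c, hcC, rfl⟩
    have h1 : χ x = 1 := by
      refine z2_ne_zero fun e => hne' ?_
      have h2 := hχ x
      rw [e, zero_smul, add_zero] at h2
      exact congrArg EA.val h2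
    have h2 := hs.mem_cls_of_adj hc hrO hw hw0 hxO ⟨χ, fχ, h1⟩
    exact ⟨x, h2, rfl⟩
  · rintro _ ⟨a', -, rfl⟩ _ ⟨b', -, rfl⟩
    obtain ⟨c, hcK, h1, h2, h3, h4⟩ := hs.big_cls hc hrO fφ fψ hφ0 hψ0 hne a' b'
    refine ⟨c.val, ⟨c, hcK, rfl⟩, fun e => h1 (EA.val_eq_one.1 e), fun e => h2 (EA.ext e),
      fun e => h3 (EA.ext e), fun e => h4 (EA.ext e)⟩
  · rintro _ ⟨x, hx, rfl⟩
    by_cases hx0 : x = 0
    · rw [hx0]; exact Subgroup.one_mem _
    · obtain ⟨c, hc', e⟩ := hpt x hx hx0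
      exact Subgroup.subset_closure ⟨c, hc', e.symm⟩

/-- `chain` from the core statement -/
theorem chain_of_core {C N : Subgroup G} (sq : ∀ x ∈ N, x * x = 1) (nor : ∀ c ∈ C, ∀ n ∈ N, c * n * c⁻¹ ∈ N)
    (core : ∀ B : Subgroup G, B ≤ C → (∀ c ∈ C, ∀ b ∈ B, c * b * c⁻¹ ∈ B) →
      (∀ b ∈ B, ∀ n ∈ N, b * b * n = n * (b * b)) → ∀ b ∈ B, ∀ n ∈ N, b * n = n * b) {U : Subgroup G}
    (hU : U ≤ N) (hCU : ∀ c ∈ C, ∀ u ∈ U, c * u * c⁻¹ ∈ U) {c : G} (hc : c ∈ C)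
    (h1 : ∀ u ∈ U, c * u * c⁻¹ = u) (h2 : ∀ n ∈ N, c * n * c⁻¹ * n⁻¹ ∈ U) :
    ∀ n ∈ N, c * n * c⁻¹ = n := by
  let K : Subgroup G :=
    { carrier := {c | c ∈ C ∧ (∀ u ∈ U, c * u * c⁻¹ = u) ∧ ∀ n ∈ N, c * n * c⁻¹ * n⁻¹ ∈ U}
      one_mem' := ⟨C.one_mem, fun u _ => by group, fun n _ => by
        have : (1 : G) * n * 1⁻¹ * n⁻¹ = 1 := by group
        rw [this]; exact U.one_mem⟩
      mul_mem' := by
        rintro x y ⟨hx, hx1, hx2⟩ ⟨hy, hy1, hy2⟩
        refine ⟨C.mul_mem hx hy, fun u hu => ?_, fun n hn => ?_⟩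
        · have e : x * y * u * (x * y)⁻¹ = x * (y * u * y⁻¹) * x⁻¹ := by group
          rw [e, hy1 u hu, hx1 u hu]
        · have e : x * y * n * (x * y)⁻¹ * n⁻¹ =
              (x * (y * n * y⁻¹) * x⁻¹ * (y * n * y⁻¹)⁻¹) * (y * n * y⁻¹ * n⁻¹) := by group
          rw [e]
          exact U.mul_mem (hx2 _ (nor y hy n hn)) (hy2 n hn)
      inv_mem' := by
        rintro x ⟨hx, hx1, hx2⟩
        refine ⟨C.inv_mem hx, fun u hu => ?_, fun n hn => ?_⟩
        · nth_rewrite 1 [← hx1 u hu]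
          group
        · have h3 := hx2 _ (nor _ (C.inv_mem hx) n hn)
          have e : x⁻¹ * n * x⁻¹⁻¹ * n⁻¹ =
              (x * (x⁻¹ * n * x⁻¹⁻¹) * x⁻¹ * (x⁻¹ * n * x⁻¹⁻¹)⁻¹)⁻¹ := by group
          rw [e]
          exact U.inv_mem h3 }
  have key : ∀ g ∈ C, ∀ x ∈ K, g * x * g⁻¹ ∈ K := by
    rintro g hg x ⟨hx, hx1, hx2⟩
    refine ⟨C.mul_mem (C.mul_mem hg hx) (C.inv_mem hg), fun u hu => ?_, fun n hn => ?_⟩
    · have h3 := hx1 _ (hCU _ (C.inv_mem hg) u hu)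
      have e : g * x * g⁻¹ * u * (g * x * g⁻¹)⁻¹ = g * (x * (g⁻¹ * u * g⁻¹⁻¹) * x⁻¹) * g⁻¹ := by group
      rw [e, h3]; group
    · have h3 := hCU g hg _ (hx2 _ (nor _ (C.inv_mem hg) n hn))
      have e : g * x * g⁻¹ * n * (g * x * g⁻¹)⁻¹ * n⁻¹ =
          g * (x * (g⁻¹ * n * g⁻¹⁻¹) * x⁻¹ * (g⁻¹ * n * g⁻¹⁻¹)⁻¹) * g⁻¹ := by group
      rw [e]; exact h3
  intro n hn
  have h6 := core K (fun x hx => hx.1) key (fun x hx n hn => ?_) c ⟨hc, h1, h2⟩ n hn
  · rw [h6]; group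
  · obtain ⟨-, hx1, hx2⟩ := hx
    have h3 := hx2 n hn
    set d := x * n * x⁻¹ * n⁻¹ with hd
    have h4 : x * n = d * n * x := by rw [hd]; group
    have h6 : x * d = d * x := mul_inv_eq_iff_eq_mul.1 (hx1 d h3)
    symm
    calc n * (x * x) = (d * d) * n * (x * x) := by rw [sq d (hU h3)]; group
      _ = d * (d * n * x) * x := by group
      _ = (d * x) * n * x := by rw [← h4]; group
      _ = x * (d * n * x) := by rw [← h6]; group
      _ = x * x * n := by rw [← h4]; group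

/-- the core statement for `N = ⟨A^C⟩`, `A` centralised by the Sylow group `T` of `C` -/
theorem core_of_T [Finite G] {T C A : Subgroup G} (hTC : T ≤ C) (hT : IsPGroup 2 T) (hTs : ¬ 2 ∣ T.relIndex C)
    (hA : T ≤ centralizer (A : Set G)) (B : Subgroup G) (hB : B ≤ C) (hn : ∀ c ∈ C, ∀ b ∈ B, c * b * c⁻¹ ∈ B)
    (h2 : ∀ b ∈ B, ∀ n ∈ cl A C, b * b * n = n * (b * b)) : ∀ b ∈ B, ∀ n ∈ cl A C, b * n = n * b := by
  have hCn : C ≤ normalizer (B : Set G) := fun c hc => by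
    rw [mem_normalizer_iff]
    intro x
    refine ⟨fun hx => hn c hc x hx, fun hx => ?_⟩
    have h3 := hn _ (C.inv_mem hc) _ hx
    have e : c⁻¹ * (c * x * c⁻¹) * c⁻¹⁻¹ = x := by group
    rwa [e] at h3
  have h5 : B ≤ centralizer (cl A C : Set G) := by
    refine le_cen_cl_of_pow hTC hT hTs hA hB hCn ?_
    intro x hx
    refine ⟨1, ?_⟩
    rw [pow_one, mem_centralizer_iff]
    intro n hn'
    rw [pow_two]
    exact (h2 x hx n hn').symm
  exact fun b hb n hn' => (mem_centralizer_iff.1 (h5 hb) n hn').symm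

/-- **LEMMA T** from the core statement `O₂(C / C_C(N)) = 1` -/
theorem natC_of_core [Finite G] {C N : Subgroup G} {r : G} (sq : ∀ x ∈ N, x * x = 1)
    (nor : ∀ c ∈ C, ∀ n ∈ N, c * n * c⁻¹ ∈ N) (hrN : r ∈ N) (hr : r ≠ 1)
    (core : ∀ B : Subgroup G, B ≤ C → (∀ c ∈ C, ∀ b ∈ B, c * b * c⁻¹ ∈ B) →
      (∀ b ∈ B, ∀ n ∈ N, b * b * n = n * (b * b)) → ∀ b ∈ B, ∀ n ∈ N, b * n = n * b)
    {a b : G} (ha : a ∈ C) (hb : b ∈ C)
    (hta : ∀ n ∈ N, a * n * a⁻¹ = n ∨ a * n * a⁻¹ = n * r)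
    (htb : ∀ n ∈ N, b * n * b⁻¹ = n ∨ b * n * b⁻¹ = n * r)
    (hna : ∃ n ∈ N, a * n * a⁻¹ ≠ n) (hnb : ∃ n ∈ N, b * n * b⁻¹ ≠ n)
    (hnab : ∃ n ∈ N, a * b * n * (a * b)⁻¹ ≠ n) :
    ∃ W, NatC C N W r ∧ W ≤ Subgroup.closure {x | ∃ c ∈ C, x = c * r * c⁻¹} :=
  natC_of' ⟨sq, nor, hrN, hr, fun _ hU hCU _ hc h1 h2 => chain_of_core sq nor core hU hCU hc h1 h2⟩
    ha hb hta htb hna hnb hnab

/-- **LEMMA T** for `N = ⟨A^C⟩`, `A ∋ r` centralised by the Sylow group `T` of `C` -/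
theorem natC_of_T [Finite G] {T C A : Subgroup G} {r : G} (hTC : T ≤ C) (hT : IsPGroup 2 T)
    (hTs : ¬ 2 ∣ T.relIndex C) (hA : T ≤ centralizer (A : Set G)) (hrA : r ∈ A) (hr : r ≠ 1)
    (sq : ∀ x ∈ cl A C, x * x = 1) {a b : G} (ha : a ∈ C) (hb : b ∈ C)
    (hta : ∀ n ∈ cl A C, a * n * a⁻¹ = n ∨ a * n * a⁻¹ = n * r)
    (htb : ∀ n ∈ cl A C, b * n * b⁻¹ = n ∨ b * n * b⁻¹ = n * r)
    (hna : ∃ n ∈ cl A C, a * n * a⁻¹ ≠ n) (hnb : ∃ n ∈ cl A C, b * n * b⁻¹ ≠ n)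
    (hnab : ∃ n ∈ cl A C, a * b * n * (a * b)⁻¹ ≠ n) :
    ∃ W, NatC C (cl A C) W r ∧ W ≤ Subgroup.closure {x | ∃ c ∈ C, x = c * r * c⁻¹} :=
  natC_of_core sq (fun _ hc _ hn => conj_mem_of_normalizer (le_normalizer_cl A C hc) hn) (le_cl A C hrA) hr
    (core_of_T hTC hT hTs hA) ha hb hta htb hna hnb hnab

end Cfsg.Agent.Omega.HT.TComp

end

section


/-!
# II.0h1, `q = 2`, case (α), (4) of #14489: non-diagonal pairs do not exist

`Good R o r y W`: `y` is an involution of `Z(Q o)`, a Sylow 2-subgroup of `G` centralises `y` and `r`, the component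
`W` of `r` in `⟨(R o)^{C(y)}⟩` is natural and `W ≤ Q o`.

* `HT.le_all` : THEOREM A holds in the situation `HT`;
* `alpha_four` : `W ≤ C(V)` or `y ∈ R o × C_X`.
-/

set_option autoImplicit false

namespace Cfsg.Agent.Omega.HTwo.Alpha

open Subgroup Cfsg Cfsg.Agent.ZN Cfsg.Agent.MinSimple.VModule Cfsg.Agent.Omega.BTwo
open Cfsg.Agent.Omega.MinPar Cfsg.Agent.Omega.HOneTwo Cfsg.Agent.Omega.HTwo.TComp
open Cfsg.Agent.Omega.HTwo.Hat Cfsg.Agent.Omega.HTwo.ThmA Cfsg.Agent.Omega.HTwo.Comm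
open scoped Pointwise

universe u

variable {G : Type u} [Group G] {ι : Type*}

/-- the elements `y` of (4) -/
structure Good (R : ι → Subgroup G) (o : ι) (r y : G) (W : Subgroup G) : Prop where
  sq : y * y = 1
  ne : y ≠ 1
  z : y ∈ ZQ R o
  syl : ∃ T : Sylow 2 G, ∀ t ∈ (T : Subgroup G), t * y = y * t ∧ t * r = r * t
  nat : NatC (centralizer ({y} : Set G)) (cl (R o) (centralizer ({y} : Set G))) W r
  W_Q : W ≤ QQ (R o)

section

variable {S : Sylow 2 G} {P V : Subgroup G} {R : ι → Subgroup G} {o : ι}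

/-- THEOREM A holds for `HT` -/
theorem HT.le_all [Finite G] (b : HT S P V R o) : ∀ i, ThmA.LE V R i := by
  obtain ⟨r, hr1, hrr, hr⟩ := b.exists_gen o
  intro i
  refine le_of b.toBTS (i := o) (r := r) (fun x hx => (hr x).1 hx) ((hr r).2 (Or.inr rfl)) S b.S_V b.S_R
    ?_ ?_ i
  · intro e he1 hee hs
    exact (isLoc_centralizer S (by rw [pow_two]; exact hee) he1 (fun s hs' => by
      rw [mem_centralizer_singleton_iff]
      exact (hs s hs').symm)).char2 S b.char2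
  · obtain ⟨j, k, hj, hk, hjk⟩ := b.one_lt
    obtain ⟨w, hw, e⟩ := b.trans o hj hk
    obtain ⟨s, hs, hs1⟩ := b.exists_ne j
    refine ⟨w, hw, s, V_le_WW V (R o) (b.R_le j hs), fun h => hs1 ?_⟩
    have h1 : w * s * w⁻¹ = s := by rw [h]; group
    have h2 : s ∈ R k := by
      rw [← e, ← h1]
      exact conj_mem_cj hs
    exact b.eq_one hjk hs h2

theorem comm_of_sq {N : Subgroup G} (h : ∀ x ∈ N, x * x = 1) {a c : G} (ha : a ∈ N) (hc : c ∈ N) :
    a * c = c * a := Omega.TV.EA.comm_of h ha hc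

/-- `W ≤ C(y)` -/
theorem Good.W_cen [Finite G] {r y : G} {W : Subgroup G} (g : Good R o r y W) (b : BT V R) :
    W ≤ centralizer ({y} : Set G) := by
  refine g.nat.W_le.trans (cl_le ?_ le_normalizer)
  intro a ha
  rw [mem_centralizer_singleton_iff]
  have := b.QR o y (ZQ_le o g.z) a ha
  exact this.symm

end

/-- the Sylow group `T^k` -/
theorem exists_sylow_conj [Finite G] (T : Sylow 2 G) (k : G) :
    ∃ T' : Sylow 2 G, ∀ t ∈ (T' : Subgroup G), k⁻¹ * t * k ∈ (T : Subgroup G) := by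
  refine ⟨k • T, fun t ht => ?_⟩
  have h1 : t ∈ MulAut.conj k • (T : Subgroup G) := ht
  rw [mem_pointwise_smul_iff_inv_smul_mem] at h1
  have e : (MulAut.conj k)⁻¹ • t = k⁻¹ * t * k := by
    rw [← map_inv, MulAut.smul_def, MulAut.conj_apply, inv_inv]
  rwa [e] at h1

/-! ### the abstract part (4.3)-(4.5) -/

/-- (4.3): `y₁ = y`, `y₂`, `y₃` commuting, `w ∈ W` interchanges `y₂`, `y₃`, `v` interchanges `y₁`, `y₃` and fixes `y₂`;
`z` commutes with `W`, `v`, the `y i`. Then some element `x` commuting with `z` satisfies `x⁻¹ r x r⁻¹ = y₂ y₃`. -/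
theorem core [Finite G] (hG : IsCharacteristicTwoType G) {A W : Subgroup G} {r y y₂ y₃ w v z : G}
    (hy : y * y = 1) (h2 : y₂ * y₂ = 1) (c23 : y₂ * y₃ = y₃ * y₂)
    (hsyl : ∃ T : Sylow 2 G, ∀ t ∈ (T : Subgroup G), t * y = y * t ∧ t * r = r * t)
    (nat : NatC (centralizer ({y} : Set G)) (cl A (centralizer ({y} : Set G))) W r)
    (hWy : W ≤ centralizer ({y} : Set G)) (hw : w ∈ W) (hw3 : w * y₃ * w⁻¹ = y₂)
    (hv : v * y * v⁻¹ = y₃) (hv3 : v * y₃ * v⁻¹ = y) (hv2 : v * y₂ * v⁻¹ = y₂)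
    (hp : y₂ * y₃ ∈ W) (hp1 : y₂ * y₃ ≠ 1) (hpr : y₂ * y₃ ≠ r)
    (zW : ∀ x ∈ W, z * x = x * z) (zv : z * v = v * z) (z1 : z * y = y * z) (z2 : z * y₂ = y₂ * z)
    (z3 : z * y₃ = y₃ * z) : ∃ x, z * x = x * z ∧ x⁻¹ * r * x * r⁻¹ = y₂ * y₃ := by
  obtain ⟨p, hpdef⟩ : ∃ p, p = y₂ * y₃ := ⟨_, rfl⟩
  rw [← hpdef] at hp hp1 hpr ⊢
  have hWc : ∀ a ∈ W, ∀ c ∈ W, a * c = c * a := fun a ha c hc => comm_of_sq nat.sq ha hc
  have hpp : p * p = 1 := nat.sq p hp
  have hyp : y * p = p * y := (mem_centralizer_singleton_iff.1 (hWy hp)).symm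
  -- the Sylow group
  obtain ⟨T₀, hT₀⟩ := hsyl
  obtain ⟨k, hk, hkp⟩ := nat.pt p hp hp1
  have hky : k * y = y * k := mem_centralizer_singleton_iff.1 hk
  obtain ⟨T, hT⟩ := exists_sylow_conj T₀ k
  have hTy : ∀ t ∈ (T : Subgroup G), t * y = y * t := by
    intro t ht
    have h1 := (hT₀ _ (hT t ht)).1
    have h4 : k * (k⁻¹ * t * k * y) * k⁻¹ = k * (y * (k⁻¹ * t * k)) * k⁻¹ := by rw [h1]
    have e1 : k * (k⁻¹ * t * k * y) * k⁻¹ = t * (k * y) * k⁻¹ := by group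
    have e2 : k * (y * (k⁻¹ * t * k)) * k⁻¹ = (k * y) * k⁻¹ * t := by group
    rw [e1, e2, hky] at h4
    calc t * y = t * (y * k) * k⁻¹ := by group
      _ = y * k * k⁻¹ * t := h4
      _ = y * t := by group
  have hTp : ∀ t ∈ (T : Subgroup G), t * p = p * t := by
    intro t ht
    have h1 := (hT₀ _ (hT t ht)).2
    rw [← hkp]
    calc t * (k * r * k⁻¹) = k * (k⁻¹ * t * k * r) * k⁻¹ := by group
      _ = k * (r * (k⁻¹ * t * k)) * k⁻¹ := by rw [h1]
      _ = k * r * k⁻¹ * t := by group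
  -- `q = y p`
  have hynp : y ≠ p := by
    intro h
    apply hpr
    have h1 : k * r = y * k := by rw [h, ← hkp]; group
    rw [← hky] at h1
    rw [← h]
    exact (mul_left_cancel h1).symm
  set q := y * p with hq
  have hq1 : q ≠ 1 := by
    intro h
    apply hynp
    have : y = p⁻¹ := eq_inv_of_mul_eq_one_left h
    rw [this]
    exact inv_eq_of_mul_eq_one_left hpp
  have hqq : q ^ 2 = 1 := by
    rw [pow_two, hq]
    calc y * p * (y * p) = (y * p) * (p * y) := by rw [← hyp]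
      _ = y * (p * p) * y := by group
      _ = 1 := by rw [hpp, mul_one, hy]
  set C := centralizer ({q} : Set G) with hC
  have mC : ∀ g : G, g * y = y * g → g * p = p * g → g ∈ C := by
    intro g g1 g2
    rw [hC, mem_centralizer_singleton_iff, hq]
    calc g * (y * p) = (g * y) * p := by group
      _ = y * (g * p) := by rw [g1]; group
      _ = y * p * g := by rw [g2]; group
  have hTC : (T : Subgroup G) ≤ C := fun t ht => mC t (hTy t ht) (hTp t ht)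
  have hloc := isLoc_centralizer T hqq hq1 hTC
  set O := o2 C with hO
  have hOT : O ≤ (T : Subgroup G) := hloc.o2_le T
  have hch : C ⊓ centralizer (O : Set G) ≤ O := hloc.char2 T hG
  have hpC : p ∈ C := mC p hyp.symm rfl
  have hyC : y ∈ C := mC y rfl hyp
  have hpz : p ∈ zc O := by
    have h1 : p ∈ centralizer (O : Set G) := by
      rw [mem_centralizer_iff]
      exact fun t ht => hTp t (hOT ht)
    exact mem_zc.2 ⟨hch ⟨hpC, h1⟩, fun t ht => hTp t (hOT ht), by rw [pow_two]; exact hpp⟩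
  have hyz : y ∈ zc O := by
    have h1 : y ∈ centralizer (O : Set G) := by
      rw [mem_centralizer_iff]
      exact fun t ht => hTy t (hOT ht)
    exact mem_zc.2 ⟨hch ⟨hyC, h1⟩, fun t ht => hTy t (hOT ht), by rw [pow_two]; exact hy⟩
  have hCz : C ≤ normalizer (zc O : Set G) := (le_normalizer_o2 C).trans (normalizer_le_normalizer_zc _)
  -- `v ∈ C`
  have hvp : v * p * v⁻¹ = y₂ * y := by
    rw [hpdef]
    calc v * (y₂ * y₃) * v⁻¹ = (v * y₂ * v⁻¹) * (v * y₃ * v⁻¹) := by group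
      _ = y₂ * y := by rw [hv2, hv3]
  have hvC : v ∈ C := by
    rw [hC, mem_centralizer_singleton_iff]
    have h1 : v * q * v⁻¹ = q := by
      calc v * q * v⁻¹ = (v * y * v⁻¹) * (v * p * v⁻¹) := by rw [hq]; group
        _ = y₃ * (y₂ * y) := by rw [hv, hvp]
        _ = (y₂ * y₃) * y := by rw [c23]; group
        _ = p * y := by rw [hpdef]
        _ = q := hyp.symm
    exact mul_inv_eq_iff_eq_mul.1 h1
  have hy3z : y₃ ∈ zc O := by
    rw [← hv]
    exact conj_mem_of_normalizer (hCz hvC) hyz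
  have hww : w * w = 1 := nat.sq w hw
  -- `w` moves `y₃`
  have hwy3 : w * y₃ ≠ y₃ * w := by
    intro h
    apply hp1
    have h1 : y₃ = y₂ := by
      rw [← hw3, h]; group
    rw [hpdef, h1, h2]
  -- elements of `C(y) ∩ C(p)` normalise `W`
  have nW : ∀ c ∈ centralizer ({y} : Set G), c * p = p * c → ∀ x ∈ W, c * x * c⁻¹ ∈ W := by
    intro c hc hcp x hx
    refine nat.blk c hc p hp hp1 ?_ x hx
    rw [hcp, mul_inv_cancel_right]
    exact hp
  have cC : ∀ c ∈ centralizer ({y} : Set G), c * p = p * c → c ∈ C := fun c hc hcp =>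
    mC c (mem_centralizer_singleton_iff.1 hc) hcp
  -- `W ∩ O = ⟨p⟩`
  have hA1 : ∀ a ∈ W, a ∈ O → a = 1 ∨ a = p := by
    rcases nat.irr p hp hp1 (W ⊓ O) inf_le_left ⟨hp, zc_le _ hpz⟩ (by
      rintro c hc hcp a ⟨ha, ha'⟩
      exact ⟨nW c hc hcp a ha, conj_mem_of_normalizer (le_normalizer_o2 C (cC c hc hcp)) ha'⟩) with h | h
    · exact fun a ha ha' => h a ⟨ha, ha'⟩
    · exfalso
      exact hwy3 ((mem_zc.1 hy3z).2.1 w (h hw).2)
  set U := cl (zpowers p) C with hU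
  have hUz : U ≤ zc O := cl_le (by rw [zpowers_le]; exact hpz) hCz
  have hUO : U ≤ O := hUz.trans (zc_le _)
  have hUc : ∀ a ∈ U, ∀ c ∈ U, a * c = c * a := fun a ha c hc => (mem_zc.1 (hUz hc)).2.1 a (hUO ha)
  have hUsq : ∀ a ∈ U, a * a = 1 := fun a ha => by
    rw [← pow_two]; exact (mem_zc.1 (hUz ha)).2.2
  have hpU : p ∈ U := le_cl _ _ (mem_zpowers p)
  have hCU : C ≤ normalizer (U : Set G) := le_normalizer_cl _ _
  have hWC : W ≤ C := fun x hx => mC x (mem_centralizer_singleton_iff.1 (hWy hx)) (hWc x hx p hp)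
  -- `[W, U] ≤ ⟨p⟩`
  have hWU : ∀ x ∈ W, ∀ n ∈ U, x * n * x⁻¹ = n ∨ x * n * x⁻¹ = n * p := by
    intro x hx n hn
    have hnT := hOT (hUO hn)
    have h1 : n * x⁻¹ * n⁻¹ ∈ W := nW n (by
      rw [mem_centralizer_singleton_iff]; exact hTy n hnT) (hTp n hnT) _ (inv_mem hx)
    have h4 : x * n * x⁻¹ * n⁻¹ ∈ W := by
      have e : x * n * x⁻¹ * n⁻¹ = x * (n * x⁻¹ * n⁻¹) := by group
      rw [e]; exact mul_mem hx h1
    have h5 : x * n * x⁻¹ * n⁻¹ ∈ U := mul_mem (conj_mem_of_normalizer (hCU (hWC hx)) hn) (inv_mem hn)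
    rcases hA1 _ h4 (hUO h5) with h6 | h6
    · left
      exact mul_inv_eq_one.1 h6
    · right
      rw [mul_inv_eq_iff_eq_mul] at h6
      rw [h6, hUc p hpU n hn]
  -- `C_W(U) = ⟨p⟩`
  have hp' : y₂ * y ∈ U := by
    rw [← hvp]
    exact conj_mem_of_normalizer (hCU hvC) hpU
  have hwp' : w * (y₂ * y) * w⁻¹ ≠ y₂ * y := by
    intro h
    apply hp1
    have h1 : w * y₂ * w⁻¹ = y₃ := by
      rw [← hw3]
      calc w * (w * y₃ * w⁻¹) * w⁻¹ = (w * w) * y₃ * (w * w)⁻¹ := by group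
        _ = y₃ := by rw [hww]; group
    have h4 : w * y * w⁻¹ = y := by
      rw [mem_centralizer_singleton_iff.1 (hWy hw), mul_inv_cancel_right]
    have h5 : w * (y₂ * y) * w⁻¹ = y₃ * y := by
      calc w * (y₂ * y) * w⁻¹ = (w * y₂ * w⁻¹) * (w * y * w⁻¹) := by group
        _ = y₃ * y := by rw [h1, h4]
    rw [h5] at h
    have h6 := mul_right_cancel h
    rw [hpdef, h6, h2]
  have hA2 : ∀ a ∈ W, (∀ u ∈ U, a * u = u * a) → a = 1 ∨ a = p := by
    rcases nat.irr p hp hp1 (W ⊓ centralizer (U : Set G)) inf_le_left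
        (mem_inf.2 ⟨hp, mem_centralizer_iff.2 fun u hu => hUc u hu p hpU⟩) (by
      rintro c hc hcp a ⟨ha, ha'⟩
      refine ⟨nW c hc hcp a ha, ?_⟩
      exact conj_mem_of_normalizer (normalizer_le_normalizer_centralizer _ (hCU (cC c hc hcp))) ha') with h | h
    · intro a ha ha'
      exact h a (mem_inf.2 ⟨ha, mem_centralizer_iff.2 fun u hu => (ha' u hu).symm⟩)
    · exfalso
      have h1 := mem_centralizer_iff.1 (h hw).2 _ hp'
      exact hwp' (by rw [← h1]; group)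
  have mv : ∀ a ∈ W, a ≠ 1 → a ≠ p → ∃ n ∈ U, a * n * a⁻¹ ≠ n := by
    intro a ha ha1 hap
    by_contra hcon
    push Not at hcon
    rcases hA2 a ha (fun u hu => mul_inv_eq_iff_eq_mul.1 (hcon u hu)) with h | h
    · exact ha1 h
    · exact hap h
  -- the natural component for `C`
  obtain ⟨a, ha, ha1, hap, -, -⟩ := nat.big p hp p hp
  obtain ⟨c, hc, hc1, hcp, hca, hcpa⟩ := nat.big p hp a ha
  have haa : a * a = 1 := nat.sq a ha
  have hainv : a⁻¹ = a := inv_eq_of_mul_eq_one_left haa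
  have hac1 : a * c ≠ 1 := by
    intro h
    apply hca
    have : c = a⁻¹ := eq_inv_of_mul_eq_one_right h
    rw [this, hainv]
  have hacp : a * c ≠ p := by
    intro h
    apply hcpa
    rw [hWc p hp a ha, ← h]
    calc c = a⁻¹ * (a * c) := by group
      _ = a * (a * c) := by rw [hainv]
  obtain ⟨W', nat'⟩ := natC_of_sylow T (C := C) (A := zpowers p) (r := p) hTC hTp
    (fun x => ⟨fun hx => zpowers_two hpp hx, by
      rintro (rfl | rfl)
      · exact one_mem _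
      · exact mem_zpowers _⟩) hp1 hUsq (hWC ha) (hWC hc) (hWU a ha) (hWU c hc) (mv a ha ha1 hap)
    (mv c hc hc1 hcp) (mv _ (mul_mem ha hc) hac1 hacp)
  have hpW' : p ∈ W' := nat'.mem
  have hW'U : W' ≤ U := nat'.W_le
  -- an element of `W` moving `U` moves a conjugate of `p`, which lies in `W'`
  have mvW' : ∀ x ∈ W, (∃ n ∈ U, x * n * x⁻¹ ≠ n) → ∃ n ∈ W', x * n * x⁻¹ ≠ n := by
    intro x hx hne
    by_contra hcon
    push Not at hcon
    obtain ⟨n, hn, hne⟩ := hne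
    apply hne
    have h1 : U ≤ centralizer ({x} : Set G) := by
      refine iSup_le fun m => ?_
      rintro _ ⟨n, hn, rfl⟩
      change (m : G) * n * (m : G)⁻¹ ∈ _
      rcases zpowers_two hpp hn with rfl | rfl
      · rw [mul_one, mul_inv_cancel]; exact one_mem _
      · rw [mem_centralizer_singleton_iff]
        by_cases h4 : x * ((m : G) * n * (m : G)⁻¹) * x⁻¹ = (m : G) * n * (m : G)⁻¹
        · exact (mul_inv_eq_iff_eq_mul.1 h4).symm
        · have h5 := nat'.adj n hpW' hp1 x (hWC hx) (hWU x hx) m m.2 h4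
          exact absurd (hcon _ h5) h4
    have h4 := mem_centralizer_singleton_iff.1 (h1 hn)
    rw [← h4, mul_inv_cancel_right]
  -- `z` centralises `W'`
  have hzp : z * p = p * z := by
    rw [hpdef]
    calc z * (y₂ * y₃) = (z * y₂) * y₃ := by group
      _ = y₂ * (z * y₃) := by rw [z2]; group
      _ = y₂ * y₃ * z := by rw [z3]; group
  have hzC : z ∈ C := mC z z1 hzp
  have hp'W : y₂ * y ∈ W' := by
    have h1 := nat'.adj p hpW' hp1 w (hWC hw) (hWU w hw) v hvC (by rw [hvp]; exact hwp')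
    rwa [hvp] at h1
  have hpp' : p ≠ y₂ * y := by
    intro h
    apply hwp'
    rw [← h, hWc w hw p hp, mul_inv_cancel_right]
  have zW' : ∀ x ∈ W', z * x * z⁻¹ ∈ W' := by
    intro x hx
    refine nat'.blk z hzC p hpW' hp1 ?_ x hx
    rw [hzp, mul_inv_cancel_right]
    exact hpW'
  have hK1 : ∀ d ∈ W', (∀ a ∈ W, a * d = d * a) → d = 1 ∨ d = p := by
    rcases nat'.irr p hpW' hp1 (W' ⊓ centralizer (W : Set G)) inf_le_left
        (mem_inf.2 ⟨hpW', mem_centralizer_iff.2 fun a ha => hWc a ha p hp⟩) (by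
      rintro c hc hcp d ⟨hd, hd'⟩
      refine mem_inf.2 ⟨nat'.blk c hc p hpW' hp1 (by rw [hcp, mul_inv_cancel_right]; exact hpW') d hd, ?_⟩
      -- `c ∈ C(y)`
      have hcy : ∀ c : G, c ∈ C → c * p = p * c → c ∈ centralizer ({y} : Set G) := by
        intro c hc hcp
        rw [mem_centralizer_singleton_iff]
        have h1 : c * q = q * c := mem_centralizer_singleton_iff.1 hc
        have h4 : y = q * p := by
          rw [hq, mul_assoc, hpp, mul_one]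
        rw [h4]
        calc c * (q * p) = (c * q) * p := by group
          _ = q * (c * p) := by rw [h1]; group
          _ = q * p * c := by rw [hcp]; group
      rw [mem_centralizer_iff]
      intro a ha
      have hcinv : c⁻¹ * p = p * c⁻¹ := by
        rw [inv_mul_eq_iff_eq_mul, ← mul_assoc, hcp, mul_inv_cancel_right]
      have h1 := nW _ (hcy _ (inv_mem hc) hcinv) hcinv a ha
      rw [inv_inv] at h1
      have h4 := mem_centralizer_iff.1 hd' _ h1
      calc a * (c * d * c⁻¹) = c * ((c⁻¹ * a * c) * d) * c⁻¹ := by group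
        _ = c * (d * (c⁻¹ * a * c)) * c⁻¹ := by rw [h4]
        _ = c * d * c⁻¹ * a := by group) with h | h
    · intro d hd hd'
      exact h d (mem_inf.2 ⟨hd, mem_centralizer_iff.2 fun a ha => hd' a ha⟩)
    · exfalso
      obtain ⟨n, hn, hne⟩ := mvW' a ha (mv a ha ha1 hap)
      exact hne (by rw [mem_centralizer_iff.1 (h hn).2 a ha, mul_inv_cancel_right])
  have hz1 : ∀ x ∈ W', z * x * z⁻¹ * x⁻¹ = 1 ∨ z * x * z⁻¹ * x⁻¹ = p := by
    intro x hx
    refine hK1 _ (mul_mem (zW' x hx) (inv_mem hx)) fun a ha => ?_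
    have hxU := hW'U hx
    have hzx := hW'U (zW' x hx)
    have h0 := zW a ha
    have e1 : a * (z * x * z⁻¹) * a⁻¹ = z * (a * x * a⁻¹) * z⁻¹ := by
      have h4 : a⁻¹ * z = z * a⁻¹ := by
        rw [inv_mul_eq_iff_eq_mul, ← mul_assoc, ← h0, mul_inv_cancel_right]
      have h5 : z⁻¹ * a⁻¹ = a⁻¹ * z⁻¹ := by
        rw [← mul_inv_rev, ← mul_inv_rev, h0]
      calc a * (z * x * z⁻¹) * a⁻¹ = (a * z) * x * (z⁻¹ * a⁻¹) := by group
        _ = (z * a) * x * (a⁻¹ * z⁻¹) := by rw [← h0, h5]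
        _ = z * (a * x * a⁻¹) * z⁻¹ := by group
    rw [← mul_inv_eq_iff_eq_mul]
    rcases hWU a ha x hxU with h4 | h4
    · calc a * (z * x * z⁻¹ * x⁻¹) * a⁻¹ = (a * (z * x * z⁻¹) * a⁻¹) * (a * x * a⁻¹)⁻¹ := by group
        _ = z * x * z⁻¹ * x⁻¹ := by rw [e1, h4]
    · have h5 : z * (x * p) * z⁻¹ = (z * x * z⁻¹) * p := by
        calc z * (x * p) * z⁻¹ = z * x * z⁻¹ * ((z * p) * z⁻¹) := by group
          _ = (z * x * z⁻¹) * p := by rw [hzp, mul_inv_cancel_right]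
      calc a * (z * x * z⁻¹ * x⁻¹) * a⁻¹ = (a * (z * x * z⁻¹) * a⁻¹) * (a * x * a⁻¹)⁻¹ := by group
        _ = (z * x * z⁻¹) * p * (x * p)⁻¹ := by rw [e1, h4, h5]
        _ = z * x * z⁻¹ * x⁻¹ := by group
  have hvW : ∀ x ∈ W', v⁻¹ * x * v ∈ W' := by
    intro x hx
    have h1 := nat'.blk v⁻¹ (inv_mem hvC) (y₂ * y) hp'W (fun h => hwp' (by rw [h]; group)) (by
      rw [← hvp]
      have e : v⁻¹ * (v * p * v⁻¹) * v⁻¹⁻¹ = p := by group
      rw [e]; exact hpW') x hx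
    rwa [inv_inv] at h1
  have hzc : ∀ x ∈ W', z * x = x * z := by
    intro x hx
    have h1 := hz1 x hx
    have h4 : z * x * z⁻¹ * x⁻¹ = 1 ∨ z * x * z⁻¹ * x⁻¹ = y₂ * y := by
      have hzv' : v⁻¹ * z = z * v⁻¹ := by
        rw [inv_mul_eq_iff_eq_mul, ← mul_assoc, ← zv, mul_inv_cancel_right]
      have e : v * (z * (v⁻¹ * x * v) * z⁻¹ * (v⁻¹ * x * v)⁻¹) * v⁻¹ = z * x * z⁻¹ * x⁻¹ := by
        have h6 : v * z⁻¹ = z⁻¹ * v := by
          rw [eq_inv_mul_iff_mul_eq, ← mul_assoc, zv, mul_inv_cancel_right]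
        calc v * (z * (v⁻¹ * x * v) * z⁻¹ * (v⁻¹ * x * v)⁻¹) * v⁻¹
            = (v * z) * v⁻¹ * x * (v * z⁻¹) * v⁻¹ * x⁻¹ := by group
          _ = (z * v) * v⁻¹ * x * (z⁻¹ * v) * v⁻¹ * x⁻¹ := by rw [← zv, h6]
          _ = z * x * z⁻¹ * x⁻¹ := by group
      rcases hz1 _ (hvW x hx) with h5 | h5
      · left
        rw [← e, h5]; group
      · right
        rw [← e, h5, hvp]
    have h5 : z * x * z⁻¹ * x⁻¹ = 1 := by
      rcases h1 with h1 | h1
      · exact h1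
      · rcases h4 with h4 | h4
        · exact h4
        · exact absurd (h1.symm.trans h4) hpp'
    rw [mul_inv_eq_one, mul_inv_eq_iff_eq_mul] at h5
    exact h5
  -- `r` moves an element of `W'`
  obtain ⟨x, hx, hne⟩ := mvW' r nat.mem (mv r nat.mem nat.ne hpr.symm)
  refine ⟨x, hzc x hx, ?_⟩
  have h1 := (hWU r nat.mem x (hW'U hx)).resolve_left hne
  calc x⁻¹ * r * x * r⁻¹ = x⁻¹ * (r * x * r⁻¹) := by group
    _ = p := by rw [h1]; group

/-! ### (4) -/

section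

variable {S : Sylow 2 G} {P V : Subgroup G} {R : ι → Subgroup G} {o : ι}

/-- an element of `Q k` conjugates `Z(Q i)` elements: `c ∈ Z(Q i)`, `w ∈ Q j - C(V)` : `[c, c^w] = 1` -/
theorem comm_conj_Q [Finite G] (b : BTS V R) {i j : ι} (hij : i ≠ j) {c w : G} (hc : c ∈ ZQ R i)
    (hw : w ∈ QQ (R j)) (hw' : w ∉ centralizer (V : Set G)) :
    c * (w * c * w⁻¹) = (w * c * w⁻¹) * c := by
  obtain ⟨w₀, hw₀, d, hd, rfl⟩ := Q_eq b.toBT j hw
  have hdV : d ∈ centralizer (V : Set G) := C_le_EE b.toBT j hd |>.2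
  have hw0V : w₀ ∉ centralizer (V : Set G) := fun h => hw' (mul_mem hdV h)
  have h1 := comm_conj b hij (ZQ_le_cenW b.toBT i hc) hw₀ (fun h => hw0V (UU_le_cen j h))
  obtain ⟨k, -, -, hk⟩ := movesQ b.toBT hij (b.W_le_Q j hw₀) hw0V
  have h2 : w₀ * c * w₀⁻¹ ∈ ZQ R k := by
    rw [← cj_ZQ b.toBT hk]
    exact conj_mem_cj hc
  have h3 : d * (w₀ * c * w₀⁻¹) = w₀ * c * w₀⁻¹ * d := ZQ_comm h2 (mem_iInf.1 hd k)
  have e : d * w₀ * c * (d * w₀)⁻¹ = w₀ * c * w₀⁻¹ := by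
    calc d * w₀ * c * (d * w₀)⁻¹ = d * (w₀ * c * w₀⁻¹) * d⁻¹ := by group
      _ = w₀ * c * w₀⁻¹ := by rw [h3, mul_inv_cancel_right]
  rw [e]
  exact h1

/-- **(4) of #14489** -/
theorem alpha_four [Finite G] (b : HT S P V R o) {r : G} (hr : ∀ x, x ∈ R o ↔ x = 1 ∨ x = r) {z : G}
    (hz : z ∈ zc (S : Subgroup G) ⊓ centralizer (P : Set G)) (hz1 : z ≠ 1)
    (hα : UM V (centralizer ({z} : Set G)) ≤ QQ (R o)) {y : G} {W : Subgroup G} (g : Good R o r y W)
    (hW : ¬ W ≤ centralizer (V : Set G)) : ∃ a ∈ R o, a * y ∈ CenX V R := by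
  have bs := b.toBTS
  have hLE := HT.le_all b
  have d := b.dt hz hz1
  obtain ⟨w, hw, hwV⟩ := Set.not_subset.1 hW
  have hwQ : w ∈ QQ (R o) := g.W_Q hw
  have hww : w * w = 1 := g.nat.sq w hw
  obtain ⟨j, -, hj, -, -⟩ := b.one_lt
  obtain ⟨k, hkj, hko, hk⟩ := movesQ b.toBT hj hwQ hwV
  have hk' : cj w (R k) = R j := by
    rw [← hk, ← cj_mul, hww, cj_one]
  obtain ⟨v, hv, ev⟩ := b.trans j (Ne.symm hj) hkj
  have hvv : v * v ∈ R j := b.W_sq j hv
  have hvX : v ∈ XX V R := W_le_X V R j hv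
  have hvQ : v ∈ QQ (R j) := b.W_le_Q j hv
  have hvU : v ∉ UU V R j := by
    intro h
    have h1 : cj v (R o) = R o := cj_eq_self_iff.2 (b.cen_le_N o (UU_le_cen j h))
    exact hko (b.R_index (ev.symm.trans h1))
  obtain ⟨y₃, hy₃⟩ : ∃ y₃, y₃ = v * y * v⁻¹ := ⟨_, rfl⟩
  have z3 : y₃ ∈ ZQ R k := by
    rw [hy₃, ← cj_ZQ b.toBT ev]
    exact conj_mem_cj g.z
  obtain ⟨y₂, hy₂⟩ : ∃ y₂, y₂ = w * y₃ * w⁻¹ := ⟨_, rfl⟩
  have z2 : y₂ ∈ ZQ R j := by
    rw [hy₂, ← cj_ZQ b.toBT hk']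
    exact conj_mem_cj z3
  have yV : y ∈ centralizer (V : Set G) := ZQ_le_cen b.toBT o g.z
  have y3V : y₃ ∈ centralizer (V : Set G) := ZQ_le_cen b.toBT k z3
  -- back to `y`
  have back : (∃ a ∈ R k, a * y₃ ∈ CenX V R) → ∃ a ∈ R o, a * y ∈ CenX V R := by
    rintro ⟨a, ha, h⟩
    refine ⟨v⁻¹ * a * v, ?_, ?_⟩
    · rw [← ev, mem_cj] at ha
      exact ha
    · have h1 := conj_inv_mem_of_normalizer (b.NV_le_NCenX (b.X_le_NV hvX)) h
      have e : v⁻¹ * (a * y₃) * v = v⁻¹ * a * v * y := by rw [hy₃]; group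
      rwa [e] at h1
  by_cases h3j : y₃ ∈ QQ (R j)
  · exact back (ZQ_Q bs hkj z3 h3j)
  -- the commutations
  have c13 : y * y₃ = y₃ * y := by
    rw [hy₃]
    exact comm_conj bs (Ne.symm hj) (ZQ_le_cenW b.toBT o g.z) hv hvU
  have c23 : y₂ * y₃ = y₃ * y₂ := by
    rw [hy₂]
    exact (comm_conj_Q bs hko z3 hwQ hwV).symm
  have hy3sq : y₃ * y₃ = 1 := by
    rw [hy₃]
    calc v * y * v⁻¹ * (v * y * v⁻¹) = v * (y * y) * v⁻¹ := by group
      _ = 1 := by rw [g.sq]; group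
  have hy2sq : y₂ * y₂ = 1 := by
    rw [hy₂]
    calc w * y₃ * w⁻¹ * (w * y₃ * w⁻¹) = w * (y₃ * y₃) * w⁻¹ := by group
      _ = 1 := by rw [hy3sq]; group
  have hrV : r ∈ V := b.R_le o ((hr r).2 (Or.inr rfl))
  have hp : y₂ * y₃ ∈ W := by
    have h1 : y₃ * w⁻¹ * y₃⁻¹ ∈ W := by
      refine g.nat.blk y₃ (mem_centralizer_singleton_iff.2 c13.symm) r g.nat.mem g.nat.ne ?_ _ (inv_mem hw)
      have h2 := mem_centralizer_iff.1 y3V r hrV
      rw [← h2, mul_inv_cancel_right]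
      exact g.nat.mem
    have h2 : y₃⁻¹ = y₃ := inv_eq_of_mul_eq_one_left hy3sq
    have e : y₂ * y₃ = w * (y₃ * w⁻¹ * y₃⁻¹) := by rw [hy₂, h2]; group
    rw [e]
    exact mul_mem hw h1
  have hp1 : y₂ * y₃ ≠ 1 := by
    intro h
    apply h3j
    have h1 : y₂ = y₃⁻¹ := eq_inv_of_mul_eq_one_left h
    rw [inv_eq_of_mul_eq_one_left hy3sq] at h1
    rw [← h1]
    exact ZQ_le j z2
  have hpr : y₂ * y₃ ≠ r := by
    intro h
    apply h3j
    have h1 : y₃ = y₂⁻¹ * r := by rw [← h]; group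
    rw [h1]
    exact mul_mem (inv_mem (ZQ_le j z2)) (b.V_Q j hrV)
  -- `z`
  have hzX : z ∈ CenX V R := b.cz_le hz
  have zQ : ∀ i, ∀ q ∈ QQ (R i), z * q = q * z := fun i q hq => cenX_Q bs (hLE i) hzX hq
  obtain ⟨x, hx, hxr⟩ := core b.char2 (A := R o) (r := r) (y := y) (y₂ := y₂) (y₃ := y₃) (w := w) (v := v)
    (z := z) g.sq hy2sq c23 g.syl g.nat (g.W_cen b.toBT) hw hy₂.symm hy₃.symm (by
      have h1 : v * v * y = y * (v * v) := (mem_centralizer_iff.1 yV _ (b.R_le j hvv))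
      calc v * y₃ * v⁻¹ = (v * v * y) * (v * v)⁻¹ := by rw [hy₃]; group
        _ = y := by rw [h1, mul_inv_cancel_right]) (by
      have h1 := ZQ_comm z2 hvQ
      rw [h1, mul_inv_cancel_right]) hp hp1 hpr (fun q hq => zQ o q (g.W_Q hq)) (zQ j v hvQ)
      (zQ o y (ZQ_le o g.z)) (zQ j y₂ (ZQ_le j z2)) (zQ k y₃ (ZQ_le k z3))
  -- `p ∈ U_z ≤ Q j`
  have hrU : r ∈ UM V (centralizer ({z} : Set G)) := le_cl _ _ hrV
  have hxU : x⁻¹ * r * x ∈ UM V (centralizer ({z} : Set G)) :=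
    conj_inv_mem_of_normalizer (le_normalizer_cl V _ (mem_centralizer_singleton_iff.2 hx.symm)) hrU
  have hpU : y₂ * y₃ ∈ UM V (centralizer ({z} : Set G)) := by
    rw [← hxr]
    exact mul_mem hxU (inv_mem hrU)
  have hpQ : y₂ * y₃ ∈ QQ (R j) := (d.alpha_indep b.toBT o j).1 hα hpU
  exfalso
  apply h3j
  have e : y₃ = y₂⁻¹ * (y₂ * y₃) := by group
  rw [e]
  exact mul_mem (inv_mem (ZQ_le j z2)) hpQ

end

end Cfsg.Agent.Omega.HTwo.Alpha

end

section


/-!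
# II.0h1, `q = 2`, junction (#17185 (B)): the component of a point, all transvections

* `full_cls` : the transvections with centre `c` in the component induce all functionals vanishing at `c`;
* `Full`, `natC_full_of_sylow` : the group version;
* `irr_of_full` : a subgroup `K` normalised by the stabiliser of `r` and not trivial on `W / ⟨r⟩` is
  irreducible on `W / ⟨r⟩`.
-/

set_option autoImplicit false

namespace Cfsg.Agent.Omega.HOne.JunIrr

open Subgroup Module Cfsg.Agent.Omega.TV Cfsg.Agent.Omega.HTwo.TComp Cfsg.Agent.Omega.HOneTwo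

section lin

variable {H : Type*} [Group H] {V : Type*} [AddCommGroup V] [Module (ZMod 2) V]
  {ρ : H →* (V ≃ₗ[ZMod 2] V)} {Om : Set V}

/-- the functionals of the transvections with centre `c` -/
def fnSub (ρ : H →* (V ≃ₗ[ZMod 2] V)) (c : V) : Submodule (ZMod 2) (Dual (ZMod 2) V) where
  carrier := {φ | Fn ρ c φ}
  zero_mem' := Fn.zero c
  add_mem' := fun ha hb => ha.add hb
  smul_mem' := by
    intro a φ h
    rcases z2 a with rfl | rfl
    · rw [zero_smul]; exact Fn.zero c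
    · rw [one_smul]; exact h

/-- all functionals vanishing at `c` are induced by transvections with centre `c` -/
theorem full_cls [Finite V] (h : Sys ρ Om) (hb : Sys.Big ρ Om) (hc : Sys.Clo ρ Om) {r : V} (hr : r ∈ Om) {c : V}
    (hcc : c ∈ h.cls hc hr) (hc0 : c ≠ 0) {A : Submodule (ZMod 2) V} (hA : A ≤ h.cls hc hr) (hcA : c ∈ A)
    {d : V} (hd : d ∈ h.cls hc hr) (hdA : d ∉ A) :
    ∃ φ, Fn ρ c φ ∧ (∀ a ∈ A, φ a = 0) ∧ φ d = 1 := by
  have hfin : FiniteDimensional (ZMod 2) V := Module.Finite.of_finite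
  set F := fnSub ρ c with hF
  have hZ : ∀ x ∈ F.dualCoannihilator, x ∈ h.cls hc hr → x ∈ A := by
    intro x hx hxc
    by_cases hx0 : x = 0
    · rw [hx0]; exact A.zero_mem
    by_cases hxc' : c = x
    · rw [← hxc']; exact hcA
    obtain ⟨φ, f1, e⟩ := h.adj_cls hb hc hr hcc hc0 hxc hx0 hxc'
    rw [Submodule.mem_dualCoannihilator] at hx
    rw [hx φ f1] at e
    exact absurd e zero_ne_one
  have hd' : d ∉ F.dualCoannihilator ⊔ A := by
    intro h1
    obtain ⟨x, hx, a, ha, e⟩ := Submodule.mem_sup.1 h1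
    have h2 : x ∈ h.cls hc hr := by
      have : x = d + a := by rw [← e]; exact (add_add_self x a).symm
      rw [this]
      exact (h.cls hc hr).add_mem hd (hA ha)
    apply hdA
    rw [← e]
    exact A.add_mem (hZ x hx h2) ha
  obtain ⟨f, hf, hk⟩ := Submodule.exists_le_ker_of_notMem hd'
  have hfF : f ∈ F := by
    rw [← Subspace.dualCoannihilator_dualAnnihilator_eq (W := F), Submodule.mem_dualAnnihilator]
    exact fun w hw => hk (Submodule.mem_sup_left hw)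
  exact ⟨f, hfF, fun a ha => hk (Submodule.mem_sup_right ha), z2_ne_zero hf⟩

end lin

variable {G : Type*} [Group G]

/-- every transvection of `W` is induced by an element of `C` -/
def Full (C W : Subgroup G) : Prop :=
  ∀ c ∈ W, c ≠ 1 → ∀ A : Subgroup G, A ≤ W → c ∈ A → ∀ d ∈ W, d ∉ A →
    ∃ t ∈ C, (∀ a ∈ A, t * a * t⁻¹ = a) ∧ t * d * t⁻¹ = d * c

theorem full_of_natC [Finite G] {C N W : Subgroup G} {r : G} (h : GSys C N r) {a b : G} (ha : a ∈ C)
    (hb : b ∈ C)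
    (hta : ∀ n ∈ N, a * n * a⁻¹ = n ∨ a * n * a⁻¹ = n * r)
    (htb : ∀ n ∈ N, b * n * b⁻¹ = n ∨ b * n * b⁻¹ = n * r)
    (hna : ∃ n ∈ N, a * n * a⁻¹ ≠ n) (hnb : ∃ n ∈ N, b * n * b⁻¹ ≠ n)
    (hnab : ∃ n ∈ N, a * b * n * (a * b)⁻¹ ≠ n) (hW : NatC C N W r) : Full C W := by
  classical
  have hs := h.toSys ha hta hna
  have hrO := h.mem_pts_r
  set r₀ : EA N h.sq := EA.mk h.sq r h.mem with hr₀
  obtain ⟨φ, hφ, fφ⟩ := h.exists_fn h.mem h.ne ha hta
  obtain ⟨ψ, hψ, fψ⟩ := h.exists_fn h.mem h.ne hb htb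
  have hφ0 : φ ≠ 0 := by
    rintro rfl
    obtain ⟨n, hn, e⟩ := hna
    apply e
    have h1 := hφ (EA.mk h.sq n hn)
    rw [LinearMap.zero_apply, zero_smul, add_zero] at h1
    exact congrArg EA.val h1
  have hψ0 : ψ ≠ 0 := by
    rintro rfl
    obtain ⟨n, hn, e⟩ := hnb
    apply e
    have h1 := hψ (EA.mk h.sq n hn)
    rw [LinearMap.zero_apply, zero_smul, add_zero] at h1
    exact congrArg EA.val h1
  have hne : φ ≠ ψ := by
    rintro rfl
    obtain ⟨n, hn, e⟩ := hnab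
    apply e
    set v : EA N h.sq := EA.mk h.sq n hn
    have h1 : h.rep (⟨a, ha⟩ * ⟨b, hb⟩) v = v := by
      rw [rmul, hψ v, hφ (v + φ v • r₀), map_add, map_smul, fφ.1, smul_zero, add_zero, add_assoc,
        v_add_self, add_zero]
    have h2 := congrArg EA.val h1
    rw [h.val_rep] at h2
    exact h2
  have hB := hs.big_of hrO fφ fψ hφ0 hψ0 hne
  have hc := hs.clo_big hB
  set K := hs.cls hc hrO with hK
  have hv : ∀ x : EA N h.sq, x.val ∈ EA.toSub K ↔ x ∈ K := fun x => EA.val_mem_toSub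
  have hr0 : r₀ ≠ 0 := hs.ne_zero hrO
  have hrK : r₀ ∈ K := hs.self_mem_cls hc hrO
  -- the component is contained in `W`
  have hKW : EA.toSub K ≤ W := by
    rintro _ ⟨x, hx, rfl⟩
    by_cases hx0 : x = 0
    · rw [hx0]; exact W.one_mem
    by_cases hxr : r₀ = x
    · rw [← hxr]; exact hW.mem
    obtain ⟨χ, fχ, e⟩ := hs.adj_cls hB hc hrO hrK hr0 hx hx0 hxr
    obtain ⟨⟨c, hc', ec⟩, -⟩ := hs.pt_of_mem hc hrO hx hx0
    obtain ⟨-, ⟨g, hg⟩, hgx⟩ := fχ
    rw [ec]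
    refine hW.adj r hW.mem h.ne g hg (fun n hn => ?_) c hc' ?_
    · have h1 := hgx (EA.mk h.sq n hn)
      rcases z2 (χ (EA.mk h.sq n hn)) with e1 | e1
      · left
        rw [e1, zero_smul, add_zero] at h1
        exact congrArg EA.val h1
      · right
        rw [e1, one_smul] at h1
        exact congrArg EA.val h1
    · rw [← ec]
      intro h2
      have h1 := hgx x
      rw [e, one_smul] at h1
      have h3 : h.rep ⟨g, hg⟩ x = x := EA.ext h2
      rw [h3] at h1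
      exact hr0 (by simpa using h1)
  have hWK : W ≤ EA.toSub K := by
    rcases hW.irr r hW.mem h.ne (EA.toSub K) hKW ⟨r₀, hrK, rfl⟩ (by
      rintro c hcC hcr _ ⟨x, hx, rfl⟩
      have h1 : h.rep ⟨c, hcC⟩ r₀ ∈ K := by
        have : h.rep ⟨c, hcC⟩ r₀ = r₀ := EA.ext (by
          rw [h.val_rep]
          exact mul_inv_eq_iff_eq_mul.2 hcr)
        rw [this]; exact hrK
      exact ⟨_, hs.blk_cls hc hrO hrK hr0 h1 hx, rfl⟩) with h1 | h1
    · exfalso
      obtain ⟨c, hcK, c1, c2, -, -⟩ := hs.big_cls hc hrO fφ fψ hφ0 hψ0 hne r₀ r₀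
      rcases h1 c.val ((hv c).2 hcK) with e | e
      · exact c1 (EA.val_eq_one.1 e)
      · exact c2 (EA.ext e)
    · exact h1
  intro c hcW hc1 A hAW hcA d hdW hdA
  obtain ⟨c', hcK, rfl⟩ := hWK hcW
  obtain ⟨d', hdK, rfl⟩ := hWK hdW
  obtain ⟨χ, ⟨-, ⟨g, hg⟩, hgx⟩, χA, χd⟩ := full_cls hs hB hc hrO hcK (fun e => hc1 (EA.val_eq_one.2 e))
    (A := ofSub h.sq A) (fun x hx => by
      have h1 : x.val ∈ A := hx
      exact (hv x).1 (hWK (hAW h1))) hcA hdK hdA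
  refine ⟨g, hg, fun a ha' => ?_, ?_⟩
  · obtain ⟨a', -, rfl⟩ := hWK (hAW ha')
    have h1 := hgx a'
    rw [χA a' ha', zero_smul, add_zero] at h1
    exact congrArg EA.val h1
  · have h1 := hgx d'
    rw [χd, one_smul] at h1
    exact congrArg EA.val h1

/-- **LEMMA T**, with all transvections -/
theorem natC_full_of_sylow {G : Type*} [Group G] [Finite G] (T : Sylow 2 G) {C A : Subgroup G} {r : G}
    (hTC : (T : Subgroup G) ≤ C) (hT : ∀ t ∈ (T : Subgroup G), t * r = r * t)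
    (hA : ∀ x, x ∈ A ↔ x = 1 ∨ x = r) (hr : r ≠ 1)
    (sq : ∀ x ∈ cl A C, x * x = 1) {a b : G} (ha : a ∈ C) (hb : b ∈ C)
    (hta : ∀ n ∈ cl A C, a * n * a⁻¹ = n ∨ a * n * a⁻¹ = n * r)
    (htb : ∀ n ∈ cl A C, b * n * b⁻¹ = n ∨ b * n * b⁻¹ = n * r)
    (hna : ∃ n ∈ cl A C, a * n * a⁻¹ ≠ n) (hnb : ∃ n ∈ cl A C, b * n * b⁻¹ ≠ n)
    (hnab : ∃ n ∈ cl A C, a * b * n * (a * b)⁻¹ ≠ n) : ∃ W, NatC C (cl A C) W r ∧ Full C W := by
  obtain ⟨W, hW⟩ := natC_of_sylow T hTC hT hA hr sq ha hb hta htb hna hnb hnab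
  exact ⟨W, hW, full_of_natC (gsys_of_sylow T hTC hT hA hr sq) ha hb hta htb hna hnb hnab hW⟩

/-! ### a normal subgroup of the stabiliser -/

section irr

variable {C N W K : Subgroup G} {r : G}

/-- `D ∪ D c` for an involution `c` commuting with `D` -/
def ext (D : Subgroup G) (c : G) (hc : c * c = 1) (h : ∀ x ∈ D, x * c = c * x) : Subgroup G where
  carrier := {x | x ∈ D ∨ x * c ∈ D}
  one_mem' := Or.inl D.one_mem
  mul_mem' := by
    have key : ∀ x : G, x * c ∈ D → x * c = c * x := by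
      intro x hx
      have h1 := h _ hx
      rw [mul_assoc, hc, mul_one, ← mul_assoc] at h1
      -- `x = c x c`
      calc x * c = c * x * c * c := by rw [← h1]
        _ = c * x := by rw [mul_assoc, hc, mul_one]
    rintro x y (hx | hx) (hy | hy)
    · exact Or.inl (D.mul_mem hx hy)
    · right
      rw [mul_assoc]
      exact D.mul_mem hx hy
    · right
      rw [mul_assoc, h y hy, ← mul_assoc]
      exact D.mul_mem hx hy
    · left
      have h1 := D.mul_mem hx hy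
      rw [key y hy, mul_assoc x, ← mul_assoc c c, hc, one_mul] at h1
      exact h1
  inv_mem' := by
    rintro x (hx | hx)
    · exact Or.inl (D.inv_mem hx)
    · right
      have h1 := h _ hx
      rw [mul_assoc, hc, mul_one, ← mul_assoc] at h1
      have h2 : x * c = c * x := by
        calc x * c = c * x * c * c := by rw [← h1]
          _ = c * x := by rw [mul_assoc, hc, mul_one]
      have h3 : x⁻¹ * c = (x * c)⁻¹ := by
        rw [h2, mul_inv_rev, inv_eq_of_mul_eq_one_left hc]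
      change x⁻¹ * c ∈ D
      rw [h3]
      exact D.inv_mem hx

theorem mem_ext {D : Subgroup G} {c : G} {hc : c * c = 1} {h : ∀ x ∈ D, x * c = c * x} {x : G} :
    x ∈ ext D c hc h ↔ x ∈ D ∨ x * c ∈ D := Iff.rfl

theorem le_ext {D : Subgroup G} {c : G} {hc : c * c = 1} {h : ∀ x ∈ D, x * c = c * x} : D ≤ ext D c hc h :=
  fun _ hx => Or.inl hx

theorem self_mem_ext {D : Subgroup G} {c : G} {hc : c * c = 1} {h : ∀ x ∈ D, x * c = c * x} :
    c ∈ ext D c hc h := by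
  right
  rw [hc]
  exact D.one_mem

theorem ext_le {D : Subgroup G} {c : G} {hc : c * c = 1} {h : ∀ x ∈ D, x * c = c * x} {B : Subgroup G}
    (hD : D ≤ B) (hcB : c ∈ B) : ext D c hc h ≤ B := by
  rintro x (hx | hx)
  · exact hD hx
  · have : x = x * c * c := by rw [mul_assoc, hc, mul_one]
    rw [this]
    exact B.mul_mem (hD hx) hcB

/-- elements of a subgroup of exponent 2 commute -/
theorem comm_of_sq {W : Subgroup G} (h : ∀ x ∈ W, x * x = 1) {a c : G} (ha : a ∈ W) (hc : c ∈ W) :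
    a * c = c * a := by
  have h1 := h _ (W.mul_mem ha hc)
  have h2 : a * c = (a * c)⁻¹ := eq_inv_of_mul_eq_one_left h1
  rw [mul_inv_rev, inv_eq_of_mul_eq_one_left (h a ha), inv_eq_of_mul_eq_one_left (h c hc)] at h2
  exact h2

/-- step: a `K`-invariant `B ∋ w, r`, `B ≠ W` -/
theorem step (hW : NatC C N W r) (hf : Full C W)
    (hKn : ∀ t ∈ C, t * r = r * t → ∀ k ∈ K, t * k * t⁻¹ ∈ K) (hKr : ∀ k ∈ K, k * r = r * k)
    {B : Subgroup G} (hB : B ≤ W) (hrB : r ∈ B) (hKB : ∀ k ∈ K, ∀ x ∈ B, k * x * k⁻¹ ∈ B) {v w : G}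
    (hv : v ∈ W) (hvB : v ∉ B) (hw : w ∈ B) {k : G} (hk : k ∈ K) : k * w * k⁻¹ = w ∨ k * w * k⁻¹ = w * r := by
  have sq := hW.sq
  have cm : ∀ a ∈ W, ∀ c ∈ W, a * c = c * a := fun a ha c hc => comm_of_sq sq ha hc
  by_contra hcon
  push Not at hcon
  obtain ⟨h1, h2⟩ := hcon
  set d := k * w * k⁻¹ with hd
  have hwW := hB hw
  have hrW := hW.mem
  have hdB : d ∈ B := hKB k hk w hw
  have hdW := hB hdB
  have hw1 : w ≠ 1 := by
    intro e
    apply h1
    rw [hd, e]; group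
  have hwr : w ≠ r := by
    intro e
    apply h1
    rw [hd, e, hKr k hk]; group
  have hd1 : d ≠ 1 := fun e => hw1 (conj_eq_one_iff.1 e)
  have hdr : d ≠ r := by
    intro e
    apply hwr
    have : w = k⁻¹ * d * k := by rw [hd]; group
    rw [this, e]
    have h3 := hKr k hk
    calc k⁻¹ * r * k = k⁻¹ * (r * k) := by group
      _ = k⁻¹ * (k * r) := by rw [h3]
      _ = r := by group
  have hv1 : v ≠ 1 := by
    rintro rfl
    exact hvB B.one_mem
  -- the group `⟨r, w⟩`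
  let D₁ : Subgroup G := ext ⊥ r (sq r hrW) (by
    intro x hx
    rw [mem_bot.1 hx, one_mul, mul_one])
  have hD₁W : D₁ ≤ W := ext_le bot_le hrW
  let D₂ : Subgroup G := ext D₁ w (sq w hwW) (fun x hx => cm x (hD₁W hx) w hwW)
  have hD₂B : D₂ ≤ B := ext_le (ext_le bot_le hrB) hw
  have hD₂W : D₂ ≤ W := hD₂B.trans hB
  let A : Subgroup G := ext D₂ v (sq v hv) (fun x hx => cm x (hD₂W hx) v hv)
  have hAW : A ≤ W := ext_le hD₂W hv
  have hvA : v ∈ A := self_mem_ext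
  have hwA : w ∈ A := le_ext self_mem_ext
  have hrA : r ∈ A := le_ext (le_ext self_mem_ext)
  have hdA : d ∉ A := by
    rintro (h3 | h3)
    · rcases h3 with (h3 | h3) | (h3 | h3)
      · exact hd1 (mem_bot.1 h3)
      · apply hdr
        have h4 := mem_bot.1 h3
        calc d = d * r * r := by rw [mul_assoc, sq r hrW, mul_one]
          _ = r := by rw [h4, one_mul]
      · apply h1
        have h4 := mem_bot.1 h3
        calc d = d * w * w := by rw [mul_assoc, sq w hwW, mul_one]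
          _ = w := by rw [h4, one_mul]
      · apply h2
        have h4 := mem_bot.1 h3
        calc d = d * w * r * r * w := by
              rw [mul_assoc (d * w), sq r hrW, mul_one, mul_assoc, sq w hwW, mul_one]
          _ = r * w := by rw [h4, one_mul]
          _ = w * r := cm r hrW w hwW
    · apply hvB
      have h4 := hD₂B h3
      have : v = d⁻¹ * (d * v) := by group
      rw [this]
      exact B.mul_mem (B.inv_mem hdB) h4
  obtain ⟨t, ht, htA, htd⟩ := hf v hv hv1 A hAW hvA d hdW hdA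
  have htr := htA r hrA
  have htw := htA w hwA
  have hk' : t * k * t⁻¹ ∈ K := hKn t ht (mul_inv_eq_iff_eq_mul.1 htr) k hk
  have h5 := hKB _ hk' w hw
  have htw' : t⁻¹ * w * t = w := by
    calc t⁻¹ * w * t = t⁻¹ * (t * w * t⁻¹) * t := by rw [htw]
      _ = w := by group
  have h6 : t * k * t⁻¹ * w * (t * k * t⁻¹)⁻¹ = d * v := by
    calc t * k * t⁻¹ * w * (t * k * t⁻¹)⁻¹ = t * (k * (t⁻¹ * w * t) * k⁻¹) * t⁻¹ := by group
      _ = t * d * t⁻¹ := by rw [htw']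
      _ = d * v := htd
  rw [h6] at h5
  apply hvB
  have : v = d⁻¹ * (d * v) := by group
  rw [this]
  exact B.mul_mem (B.inv_mem hdB) h5

/-- a subgroup `K` normalised by the stabiliser of `r` is trivial or irreducible on `W / ⟨r⟩` -/
theorem irr_of_full (hW : NatC C N W r) (hf : Full C W)
    (hKn : ∀ t ∈ C, t * r = r * t → ∀ k ∈ K, t * k * t⁻¹ ∈ K) (hKr : ∀ k ∈ K, k * r = r * k)
    {B : Subgroup G} (hB : B ≤ W) (hrB : r ∈ B) (hKB : ∀ k ∈ K, ∀ x ∈ B, k * x * k⁻¹ ∈ B) :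
    (∀ k ∈ K, ∀ w ∈ W, k * w * k⁻¹ = w ∨ k * w * k⁻¹ = w * r) ∨ (∀ x ∈ B, x = 1 ∨ x = r) ∨ W ≤ B := by
  have sq := hW.sq
  have cm : ∀ a ∈ W, ∀ c ∈ W, a * c = c * a := fun a ha c hc => comm_of_sq sq ha hc
  have hrW := hW.mem
  by_contra hcon
  push Not at hcon
  obtain ⟨⟨k, hk, w, hw, h1, h2⟩, ⟨b, hb, hb1, hbr⟩, hx⟩ := hcon
  obtain ⟨v, hv, hvB⟩ := Set.not_subset.1 hx
  have hv : v ∈ W := hv
  have hvB : v ∉ B := hvB
  by_cases hwB : w ∈ B
  · rcases step hW hf hKn hKr hB hrB hKB hv hvB hwB hk with e | e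
    · exact h1 e
    · exact h2 e
  -- an element of the stabiliser of `r` mapping `b` to `w`
  have hbW := hB hb
  set c := b * w with hc
  have hcW : c ∈ W := W.mul_mem hbW hw
  have hc1 : c ≠ 1 := by
    intro e
    apply hwB
    have : w = b⁻¹ * c := by rw [hc]; group
    rw [this, e, mul_one]
    exact B.inv_mem hb
  let D₁ : Subgroup G := ext ⊥ r (sq r hrW) (by
    intro x hx
    rw [mem_bot.1 hx, one_mul, mul_one])
  have hD₁B : D₁ ≤ B := ext_le bot_le hrB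
  let A : Subgroup G := ext D₁ c (sq c hcW) (fun x hx => cm x (hB (hD₁B hx)) c hcW)
  have hAW : A ≤ W := ext_le (hD₁B.trans hB) hcW
  have hbA : b ∉ A := by
    rintro (h3 | h3)
    · rcases h3 with h3 | h3
      · exact hb1 (mem_bot.1 h3)
      · apply hbr
        have h4 := mem_bot.1 h3
        calc b = b * r * r := by rw [mul_assoc, sq r hrW, mul_one]
          _ = r := by rw [h4, one_mul]
    · apply hwB
      have h4 := hD₁B h3
      have h5 : b * c = w := by rw [hc, ← mul_assoc, sq b hbW, one_mul]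
      rwa [h5] at h4
  obtain ⟨t, ht, htA, htb⟩ := hf c hcW hc1 A hAW self_mem_ext b hbW hbA
  have htr : t * r * t⁻¹ = r := htA r (le_ext self_mem_ext)
  have htb' : t * b * t⁻¹ = w := by rw [htb, hc, ← mul_assoc, sq b hbW, one_mul]
  have htr' : t * r = r * t := mul_inv_eq_iff_eq_mul.1 htr
  have hti : t⁻¹ * r = r * t⁻¹ := by
    rw [inv_mul_eq_iff_eq_mul, ← mul_assoc, htr', mul_inv_cancel_right]
  have htW : ∀ x ∈ W, t * x * t⁻¹ ∈ W :=
    hW.blk t ht r hrW hW.ne (by rw [htr]; exact hrW)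
  -- the conjugate of `B`
  let B' : Subgroup G := B.map (MulAut.conj t).toMonoidHom
  have hmem : ∀ x : G, x ∈ B' ↔ t⁻¹ * x * t ∈ B := by
    intro x
    constructor
    · rintro ⟨y, hy, rfl⟩
      change t⁻¹ * (t * y * t⁻¹) * t ∈ B
      have : t⁻¹ * (t * y * t⁻¹) * t = y := by group
      rw [this]; exact hy
    · intro hx
      refine ⟨_, hx, ?_⟩
      change t * (t⁻¹ * x * t) * t⁻¹ = x
      group
  have hB' : B' ≤ W := by
    rintro _ ⟨y, hy, rfl⟩
    exact htW y (hB hy)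
  have hrB' : r ∈ B' := by
    rw [hmem, hti, mul_assoc, inv_mul_cancel, mul_one]
    exact hrB
  have hKB' : ∀ k ∈ K, ∀ x ∈ B', k * x * k⁻¹ ∈ B' := by
    intro k hk x hx
    rw [hmem] at hx ⊢
    have h3 : t⁻¹ * k * t⁻¹⁻¹ ∈ K := hKn t⁻¹ (C.inv_mem ht) hti k hk
    have h4 := hKB _ h3 _ hx
    have e : t⁻¹ * (k * x * k⁻¹) * t = t⁻¹ * k * t⁻¹⁻¹ * (t⁻¹ * x * t) * (t⁻¹ * k * t⁻¹⁻¹)⁻¹ := by group
    rw [e]; exact h4
  have hv' : t * v * t⁻¹ ∉ B' := by
    rw [hmem]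
    have : t⁻¹ * (t * v * t⁻¹) * t = v := by group
    rw [this]; exact hvB
  have hw' : w ∈ B' := by
    rw [← htb']
    exact ⟨b, hb, rfl⟩
  rcases step hW hf hKn hKr hB' hrB' hKB' (htW v hv) hv' hw' hk with e | e
  · exact h1 e
  · exact h2 e

end irr

end Cfsg.Agent.Omega.HOne.JunIrr

end

section


/-!
# LEMMA T with all transvections, over a 2-group `T` of odd index in `C`

* `chain_of_sylow`, `gsys_of_sylow`, `natC_full_of_sylow` : `T : Subgroup G` a 2-group of odd index in `C`;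
* `natC_full_of_gsys` : from `GSys C N r` only.
-/

set_option autoImplicit false

namespace Cfsg.Agent.Omega.HT.JunIrr

open Subgroup Cfsg.Agent.MinSimple Cfsg.Agent.MinSimple.Basic Cfsg.Agent.Omega.BTwo Cfsg.Agent.Omega.HOneTwo
open Cfsg.Agent.Omega.HTwo.TComp Cfsg.Agent.Omega.HOne.JunIrr Cfsg.Agent.Omega.TV
open Cfsg.Agent.ZN

variable {G : Type*} [Group G]

/-- the group acting trivially on `U` and `N / U` acts trivially on `N = ⟨A^C⟩` -/
theorem chain_of_sylow [Finite G] {T C A : Subgroup G} (hTp : IsPGroup 2 T)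
    (hTo : ¬ 2 ∣ T.relIndex C) (hTC : T ≤ C)
    (hA : T ≤ centralizer (A : Set G)) (sq : ∀ x ∈ cl A C, x * x = 1) {U : Subgroup G}
    (hU : U ≤ cl A C) (hCU : ∀ c ∈ C, ∀ u ∈ U, c * u * c⁻¹ ∈ U) {c : G} (hc : c ∈ C)
    (h1 : ∀ u ∈ U, c * u * c⁻¹ = u) (h2 : ∀ n ∈ cl A C, c * n * c⁻¹ * n⁻¹ ∈ U) :
    ∀ n ∈ cl A C, c * n * c⁻¹ = n := by
  set N := cl A C with hN
  have hNC : ∀ c ∈ C, ∀ n ∈ N, c * n * c⁻¹ ∈ N := fun c hc n hn =>
    conj_mem_of_normalizer (le_normalizer_cl A C hc) hn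
  let K : Subgroup G :=
    { carrier := {c | c ∈ C ∧ (∀ u ∈ U, c * u * c⁻¹ = u) ∧ ∀ n ∈ N, c * n * c⁻¹ * n⁻¹ ∈ U}
      one_mem' := ⟨C.one_mem, fun u _ => by group, fun n _ => by
        have : (1 : G) * n * 1⁻¹ * n⁻¹ = 1 := by group
        rw [this]; exact U.one_mem⟩
      mul_mem' := by
        rintro x y ⟨hx, hx1, hx2⟩ ⟨hy, hy1, hy2⟩
        refine ⟨C.mul_mem hx hy, fun u hu => ?_, fun n hn => ?_⟩
        · have e : x * y * u * (x * y)⁻¹ = x * (y * u * y⁻¹) * x⁻¹ := by group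
          rw [e, hy1 u hu, hx1 u hu]
        · have e : x * y * n * (x * y)⁻¹ * n⁻¹ =
              (x * (y * n * y⁻¹) * x⁻¹ * (y * n * y⁻¹)⁻¹) * (y * n * y⁻¹ * n⁻¹) := by group
          rw [e]
          exact U.mul_mem (hx2 _ (hNC y hy n hn)) (hy2 n hn)
      inv_mem' := by
        rintro x ⟨hx, hx1, hx2⟩
        refine ⟨C.inv_mem hx, fun u hu => ?_, fun n hn => ?_⟩
        · nth_rewrite 1 [← hx1 u hu]
          group
        · have h3 := hx2 _ (hNC _ (C.inv_mem hx) n hn)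
          have e : x⁻¹ * n * x⁻¹⁻¹ * n⁻¹ =
              (x * (x⁻¹ * n * x⁻¹⁻¹) * x⁻¹ * (x⁻¹ * n * x⁻¹⁻¹)⁻¹)⁻¹ := by group
          rw [e]
          exact U.inv_mem h3 }
  have hKC : K ≤ C := fun x hx => hx.1
  have hKn : C ≤ normalizer (K : Set G) := by
    have key : ∀ g ∈ C, ∀ x ∈ K, g * x * g⁻¹ ∈ K := by
      rintro g hg x ⟨hx, hx1, hx2⟩
      refine ⟨C.mul_mem (C.mul_mem hg hx) (C.inv_mem hg), fun u hu => ?_, fun n hn => ?_⟩
      · have h3 := hx1 _ (hCU _ (C.inv_mem hg) u hu)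
        have e : g * x * g⁻¹ * u * (g * x * g⁻¹)⁻¹ = g * (x * (g⁻¹ * u * g⁻¹⁻¹) * x⁻¹) * g⁻¹ := by group
        rw [e, h3]; group
      · have h3 := hCU g hg _ (hx2 _ (hNC _ (C.inv_mem hg) n hn))
        have e : g * x * g⁻¹ * n * (g * x * g⁻¹)⁻¹ * n⁻¹ =
            g * (x * (g⁻¹ * n * g⁻¹⁻¹) * x⁻¹ * (g⁻¹ * n * g⁻¹⁻¹)⁻¹) * g⁻¹ := by group
        rw [e]; exact h3
    intro g hg
    rw [mem_normalizer_iff]
    intro x
    refine ⟨fun hx => key g hg x hx, fun hx => ?_⟩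
    have h3 := key _ (C.inv_mem hg) _ hx
    have e : g⁻¹ * (g * x * g⁻¹) * g⁻¹⁻¹ = x := by group
    rwa [e] at h3
  have h5 : K ≤ centralizer (N : Set G) := by
    refine le_cen_cl_of_pow hTC hTp hTo hA hKC hKn ?_
    rintro x ⟨hx, hx1, hx2⟩
    refine ⟨1, ?_⟩
    rw [pow_one, mem_centralizer_iff]
    intro n hn
    have h3 := hx2 n hn
    set d := x * n * x⁻¹ * n⁻¹ with hd
    have h4 : x * n = d * n * x := by rw [hd]; group
    have h6 : x * d = d * x := mul_inv_eq_iff_eq_mul.1 (hx1 d h3)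
    calc n * x ^ 2 = (d * d) * n * x ^ 2 := by rw [sq d (hU h3)]; group
      _ = d * (d * n * x) * x := by rw [pow_two]; group
      _ = (d * x) * n * x := by rw [← h4]; group
      _ = x * (d * n * x) := by rw [← h6]; group
      _ = x ^ 2 * n := by rw [← h4, pow_two]; group
  intro n hn
  have h6 : c ∈ K := ⟨hc, h1, h2⟩
  have h7 := mem_centralizer_iff.1 (h5 h6) n hn
  rw [← h7]; group

/-- `C ≥ T` Sylow, `r ∈ Z(T)`, `N = ⟨r^C⟩` elementary -/
theorem gsys_of_sylow [Finite G] {T C A : Subgroup G} {r : G} (hTp : IsPGroup 2 T)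
    (hTo : ¬ 2 ∣ T.relIndex C) (hTC : T ≤ C) (hT : ∀ t ∈ T, t * r = r * t)
    (hA : ∀ x, x ∈ A ↔ x = 1 ∨ x = r) (hr : r ≠ 1)
    (sq : ∀ x ∈ cl A C, x * x = 1) : GSys C (cl A C) r where
  sq := sq
  nor := fun _ hc _ hn => conj_mem_of_normalizer (le_normalizer_cl A C hc) hn
  mem := le_cl A C ((hA r).2 (Or.inr rfl))
  ne := hr
  gen := by
    refine iSup_le fun m => ?_
    rintro _ ⟨x, hx, rfl⟩
    change (m : G) * x * (m : G)⁻¹ ∈ _
    rcases (hA x).1 hx with rfl | rfl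
    · rw [mul_one, mul_inv_cancel]; exact one_mem _
    · exact subset_closure ⟨m, m.2, rfl⟩
  chain := by
    intro U hU hCU c hc h1 h2
    refine chain_of_sylow hTp hTo hTC ?_ sq hU hCU hc h1 h2
    intro t ht
    rw [mem_centralizer_iff]
    intro x hx
    rcases (hA x).1 hx with rfl | rfl
    · rw [one_mul, mul_one]
    · exact (hT t ht).symm

/-- **LEMMA T**, with all transvections -/
theorem natC_full_of_gsys {G : Type*} [Group G] [Finite G] {C N : Subgroup G} {r : G} (hG : GSys C N r)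
    {a b : G} (ha : a ∈ C) (hb : b ∈ C)
    (hta : ∀ n ∈ N, a * n * a⁻¹ = n ∨ a * n * a⁻¹ = n * r)
    (htb : ∀ n ∈ N, b * n * b⁻¹ = n ∨ b * n * b⁻¹ = n * r)
    (hna : ∃ n ∈ N, a * n * a⁻¹ ≠ n) (hnb : ∃ n ∈ N, b * n * b⁻¹ ≠ n)
    (hnab : ∃ n ∈ N, a * b * n * (a * b)⁻¹ ≠ n) : ∃ W, NatC C N W r ∧ Full C W := by
  obtain ⟨W, hW⟩ := natC_of hG ha hb hta htb hna hnb hnab
  exact ⟨W, hW, full_of_natC hG ha hb hta htb hna hnb hnab hW⟩

/-- **LEMMA T**, with all transvections -/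
theorem natC_full_of_sylow {G : Type*} [Group G] [Finite G] {T C A : Subgroup G} {r : G} (hTp : IsPGroup 2 T)
    (hTo : ¬ 2 ∣ T.relIndex C) (hTC : T ≤ C) (hT : ∀ t ∈ T, t * r = r * t)
    (hA : ∀ x, x ∈ A ↔ x = 1 ∨ x = r) (hr : r ≠ 1)
    (sq : ∀ x ∈ cl A C, x * x = 1) {a b : G} (ha : a ∈ C) (hb : b ∈ C)
    (hta : ∀ n ∈ cl A C, a * n * a⁻¹ = n ∨ a * n * a⁻¹ = n * r)
    (htb : ∀ n ∈ cl A C, b * n * b⁻¹ = n ∨ b * n * b⁻¹ = n * r)
    (hna : ∃ n ∈ cl A C, a * n * a⁻¹ ≠ n) (hnb : ∃ n ∈ cl A C, b * n * b⁻¹ ≠ n)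
    (hnab : ∃ n ∈ cl A C, a * b * n * (a * b)⁻¹ ≠ n) : ∃ W, NatC C (cl A C) W r ∧ Full C W :=
  natC_full_of_gsys (gsys_of_sylow hTp hTo hTC hT hA hr sq) ha hb hta htb hna hnb hnab

end Cfsg.Agent.Omega.HT.JunIrr

end

section


/-!
# II.0h1, `q = 2`, (β): (9), (10), (12), (14) of #15959

`Pol M U Om N Adj c`: the output of (1)-(8): points `Om` generating `U`, lines `{1, s, t, s t}` (`Adj s t`), the
subgroups `N s`, the constant `c = c₀`.  `Om2 r s`: `s` and `r` have a common neighbour `t` such that the lines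
`⟨t, r⟩`, `⟨t, s⟩` are opposite (`N r` moves `s`).

* `Pol.tri` (9); `Pol.trick`, `Pol.polar_of_perp`, `Pol.cover`, `Pol.act` (10);
* `pol` : `TvH` and the joints give `Pol`;
* `nu` (12): `n ∈ N r` moves all of `Om2 r` or nothing;
* `polar_of_not_allOpp` : the polar property if `¬ AllOpp`;
* `jEnd_of_polar` (14); `jEnd_of_not_allOpp`.
-/

set_option autoImplicit false

namespace Cfsg.Agent.Omega.HOne.TvPath

open Subgroup Cfsg.Agent.Omega.HOne.TvDef

universe u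

variable {G : Type u} [Group G]

/-- the output of (1)-(8) -/
structure Pol (M U : Subgroup G) (Om : Set G) (N : G → Subgroup G) (Adj : G → G → Prop) (c : G) : Prop where
  U_sq : ∀ u ∈ U, u * u = 1
  Om_U : ∀ s ∈ Om, s ∈ U
  U_gen : U ≤ closure Om
  c_U : c ∈ U
  c_M : ∀ m ∈ M, m * c = c * m
  c_ne : c ≠ 1
  N_M : ∀ s ∈ Om, N s ≤ M
  N_cj : ∀ m ∈ M, ∀ s ∈ Om, ∀ n ∈ N s, m * n * m⁻¹ ∈ N (m * s * m⁻¹)
  N_s : ∀ s ∈ Om, ∀ n ∈ N s, n * s = s * n
  Adj_Om : ∀ s t, Adj s t → s ∈ Om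
  Adj_symm : ∀ s t, Adj s t → Adj t s
  Adj_cj : ∀ m ∈ M, ∀ s t, Adj s t → Adj (m * s * m⁻¹) (m * t * m⁻¹)
  Adj_mul : ∀ s t, Adj s t → Adj s (s * t)
  N_Adj : ∀ s t, Adj s t → ∀ n ∈ N s, n * t = t * n
  /-- opposite lines on `t` -/
  opp : ∀ t r s, Adj t r → Adj t s → (∃ n ∈ N r, n * s ≠ s * n) →
    ∀ n ∈ N r, n * s * n⁻¹ = s ∨ n * s * n⁻¹ = s * (r * c)
  opp_symm : ∀ t r s, Adj t r → Adj t s → (∃ n ∈ N r, n * s ≠ s * n) → ∃ n ∈ N s, n * r ≠ r * n
  /-- lines on `t` which are not opposite -/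
  col : ∀ t r s, Adj t r → Adj t s → (∀ n ∈ N r, n * s = s * n) → s = r ∨ Adj r s
  conn : ∀ X : Set G, (∃ x ∈ Om, x ∈ X) → (∀ x ∈ X, ∀ y, Adj x y → y ∈ X) → Om ⊆ X

/-- `s ∈ Ω₂(r)` -/
def Om2 (N : G → Subgroup G) (Adj : G → G → Prop) (r s : G) : Prop :=
  ∃ t, Adj t r ∧ Adj t s ∧ ∃ n ∈ N r, n * s ≠ s * n

namespace Pol

section pol

variable {M U : Subgroup G} {Om : Set G} {N : G → Subgroup G} {Adj : G → G → Prop} {c : G}

theorem conj_eq {n s : G} (h : n * s = s * n) : n * s * n⁻¹ = s := by rw [h, mul_inv_cancel_right]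

theorem of_conj_eq {n s : G} (h : n * s * n⁻¹ = s) : n * s = s * n := mul_inv_eq_iff_eq_mul.1 h

variable (D : Pol M U Om N Adj c)
include D

theorem Adj_Om' {s t : G} (h : Adj s t) : t ∈ Om := D.Adj_Om t s (D.Adj_symm s t h)

theorem Adj_mul' {s t : G} (h : Adj s t) : Adj t (s * t) := by
  have h1 := D.Adj_mul t s (D.Adj_symm s t h)
  have h2 : s * t = t * s := by
    have hs := D.Om_U s (D.Adj_Om s t h)
    have ht := D.Om_U t (D.Adj_Om' h)
    have h3 := D.U_sq _ (mul_mem hs ht)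
    have h4 := D.U_sq s hs
    have h5 := D.U_sq t ht
    calc s * t = s * (s * t * (s * t)) * t := by rw [h3, mul_one]
      _ = (s * s) * (t * s) * (t * t) := by group
      _ = t * s := by rw [h4, h5, one_mul, mul_one]
  rwa [h2]

theorem comm {u v : G} (hu : u ∈ U) (hv : v ∈ U) : u * v = v * u := by
  have h3 := D.U_sq _ (mul_mem hu hv)
  have h4 := D.U_sq u hu
  have h5 := D.U_sq v hv
  calc u * v = u * (u * v * (u * v)) * v := by rw [h3, mul_one]
    _ = (u * u) * (v * u) * (v * v) := by group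
    _ = v * u := by rw [h4, h5, one_mul, mul_one]

theorem c_sq : c * c = 1 := D.U_sq c D.c_U

theorem N_Adj' {s t : G} (h : Adj s t) {n : G} (hn : n ∈ N t) : n * s = s * n :=
  D.N_Adj t s (D.Adj_symm s t h) n hn

theorem om2_r {r s : G} (h : Om2 N Adj r s) : r ∈ Om := by
  obtain ⟨t, h1, -, -⟩ := h
  exact D.Adj_Om' h1

theorem om2_s {r s : G} (h : Om2 N Adj r s) : s ∈ Om := by
  obtain ⟨t, -, h1, -⟩ := h
  exact D.Adj_Om' h1

theorem om2_symm {r s : G} (h : Om2 N Adj r s) : Om2 N Adj s r := by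
  obtain ⟨t, h1, h2, h3⟩ := h
  exact ⟨t, h2, h1, D.opp_symm t r s h1 h2 h3⟩

theorem om2_act {r s : G} (h : Om2 N Adj r s) {n : G} (hn : n ∈ N r) :
    n * s * n⁻¹ = s ∨ n * s * n⁻¹ = s * (r * c) := by
  obtain ⟨t, h1, h2, h3⟩ := h
  exact D.opp t r s h1 h2 h3 n hn

/-- **(9)** -/
theorem tri {t r s : G} (h1 : Adj t r) (h2 : Adj t s) : s = r ∨ Adj r s ∨ Om2 N Adj r s := by
  by_cases h3 : ∃ n ∈ N r, n * s ≠ s * n
  · exact Or.inr (Or.inr ⟨t, h1, h2, h3⟩)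
  · push Not at h3
    rcases D.col t r s h1 h2 h3 with h | h
    · exact Or.inl h
    · exact Or.inr (Or.inl h)

theorem act_of {r s : G} (hr : r ∈ Om) (h : s = r ∨ Adj r s ∨ Om2 N Adj r s) {n : G} (hn : n ∈ N r) :
    n * s * n⁻¹ = s ∨ n * s * n⁻¹ = s * (r * c) := by
  rcases h with rfl | h | h
  · exact Or.inl (conj_eq (D.N_s s hr n hn))
  · exact Or.inl (conj_eq (D.N_Adj r s h n hn))
  · exact D.om2_act h hn

/-- the S₃-trick **(10)** -/
theorem trick {r s w : G} (h : Om2 N Adj r s) (hw : Adj s w)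
    (ha : ∀ n ∈ N r, n * w * n⁻¹ = w ∨ n * w * n⁻¹ = w * (r * c)) : Adj r w ∨ Adj r (w * s) := by
  have hrU := D.Om_U r (D.om2_r h)
  have hsU := D.Om_U s (D.om2_s h)
  have hwU := D.Om_U w (D.Adj_Om' hw)
  have hrr := D.U_sq r hrU
  have hss := D.U_sq s hsU
  have hcc := D.c_sq
  -- `n`, `n'`
  obtain ⟨n, hn, hns⟩ : ∃ n ∈ N r, n * s * n⁻¹ = s * (r * c) := by
    obtain ⟨t, h1, h2, n, hn, hne⟩ := id h
    exact ⟨n, hn, (D.om2_act h hn).resolve_left fun e => hne (of_conj_eq e)⟩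
  obtain ⟨n', hn', hnr⟩ : ∃ n' ∈ N s, n' * r * n'⁻¹ = r * (s * c) := by
    have h' := D.om2_symm h
    obtain ⟨t, h1, h2, n, hn, hne⟩ := id h'
    exact ⟨n, hn, (D.om2_act h' hn).resolve_left fun e => hne (of_conj_eq e)⟩
  have hnM := D.N_M r (D.om2_r h) hn
  have hnM' := D.N_M s (D.om2_s h) hn'
  have e1 : n' * n * s * (n' * n)⁻¹ = r := by
    calc n' * n * s * (n' * n)⁻¹ = n' * (n * s * n⁻¹) * n'⁻¹ := by group
      _ = (n' * s * n'⁻¹) * (n' * r * n'⁻¹) * (n' * c * n'⁻¹) := by rw [hns]; group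
      _ = s * (r * (s * c)) * c := by
        rw [hnr, conj_eq (D.N_s s (D.om2_s h) n' hn'), conj_eq (D.c_M n' hnM')]
      _ = s * (r * s) * (c * c) := by group
      _ = s * (s * r) := by rw [hcc, mul_one, D.comm hrU hsU]
      _ = r := by rw [← mul_assoc, hss, one_mul]
  have hadj := D.Adj_cj (n' * n) (mul_mem hnM' hnM) s w hw
  rw [e1] at hadj
  rcases ha n hn with h1 | h1
  · left
    have e2 : n' * n * w * (n' * n)⁻¹ = w := by
      calc n' * n * w * (n' * n)⁻¹ = n' * (n * w * n⁻¹) * n'⁻¹ := by group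
        _ = w := by rw [h1, conj_eq (D.N_Adj s w hw n' hn')]
    rwa [e2] at hadj
  · right
    have e2 : n' * n * w * (n' * n)⁻¹ = r * (w * s) := by
      calc n' * n * w * (n' * n)⁻¹ = n' * (n * w * n⁻¹) * n'⁻¹ := by group
        _ = (n' * w * n'⁻¹) * (n' * r * n'⁻¹) * (n' * c * n'⁻¹) := by rw [h1]; group
        _ = w * (r * (s * c)) * c := by
          rw [hnr, conj_eq (D.N_Adj s w hw n' hn'), conj_eq (D.c_M n' hnM')]
        _ = (w * r) * s * (c * c) := by group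
        _ = r * (w * s) := by rw [hcc, mul_one, D.comm hwU hrU]; group
    rw [e2] at hadj
    have h2 := D.Adj_mul _ _ hadj
    rwa [← mul_assoc, hrr, one_mul] at h2

/-- the polar property -/
def Polar (_ : Pol M U Om N Adj c) : Prop :=
  ∀ r s w, Om2 N Adj r s → Adj s w → ∀ n ∈ N r, n * w * n⁻¹ = w ∨ n * w * n⁻¹ = w * (r * c)

/-- a neighbour `w` of `s ∈ Ω₂(r)` such that `⟨s, w⟩` is not opposite to `⟨s, t⟩` -/
theorem act_of_not_opp {r s t w : G} (h1 : Adj t r) (h2 : Adj t s) (hw : Adj s w)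
    (hn : ∀ n ∈ N t, n * w = w * n) {n : G} (hn' : n ∈ N r) :
    n * w * n⁻¹ = w ∨ n * w * n⁻¹ = w * (r * c) := by
  rcases D.col s t w (D.Adj_symm t s h2) hw hn with rfl | h
  · exact Or.inl (conj_eq (D.N_Adj' h1 hn'))
  · exact D.act_of (D.Adj_Om' h1) (D.tri h1 h) hn'

/-- **(10)**: if any two lines on a point have a common non-opposite line -/
theorem polar_of_perp (hp : ∀ s t w, Adj s t → Adj s w → ∃ w₀, Adj s w₀ ∧ (∀ n ∈ N t, n * w₀ = w₀ * n) ∧
    ∀ n ∈ N w, n * w₀ = w₀ * n) : D.Polar := by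
  intro r s w h hw n hn
  obtain ⟨t, h1, h2, h3⟩ := id h
  obtain ⟨w₀, hw₀, ht₀, hww₀⟩ := hp s t w (D.Adj_symm t s h2) hw
  have hsU := D.Om_U s (D.om2_s h)
  -- `t₀`
  obtain ⟨t₀, hst₀, hrt₀, hwt₀⟩ : ∃ t₀, Adj s t₀ ∧ Adj r t₀ ∧ ∀ n ∈ N w, n * t₀ = t₀ * n := by
    rcases D.trick h hw₀ (fun n hn => D.act_of_not_opp h1 h2 hw₀ ht₀ hn) with h4 | h4
    · exact ⟨w₀, hw₀, h4, hww₀⟩
    · refine ⟨w₀ * s, ?_, h4, fun n hn => ?_⟩
      · have h5 := D.Adj_mul _ _ hw₀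
        rwa [D.comm hsU (D.Om_U _ (D.Adj_Om' hw₀))] at h5
      · rw [← mul_assoc, hww₀ n hn, mul_assoc, D.N_Adj' hw hn, ← mul_assoc]
  refine D.act_of_not_opp (D.Adj_symm _ _ hrt₀) (D.Adj_symm _ _ hst₀) hw ?_ hn
  by_contra hcon
  push Not at hcon
  obtain ⟨n', hn', hne⟩ := D.opp_symm s t₀ w hst₀ hw hcon
  exact hne (hwt₀ n' hn')

/-- `Ω = {r} ∪ Ω₁ ∪ Ω₂` -/
theorem cover (hP : D.Polar) {r x : G} (hr : r ∈ Om) (hx : x ∈ Om) : x = r ∨ Adj r x ∨ Om2 N Adj r x := by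
  refine D.conn {x | x = r ∨ Adj r x ∨ Om2 N Adj r x} ⟨r, hr, Or.inl rfl⟩ ?_ hx
  rintro x (rfl | h | h) y hy
  · exact Or.inr (Or.inl hy)
  · exact D.tri (D.Adj_symm _ _ h) hy
  · rcases D.trick h hy (hP r x y h hy) with h1 | h1
    · exact Or.inr (Or.inl h1)
    · -- `v = y x`
      have h2 : Adj (y * x) y := D.Adj_symm _ _ (D.Adj_mul y x (D.Adj_symm _ _ hy))
      exact D.tri (D.Adj_symm _ _ h1) h2

/-- **(10)** `[U, N r] ≤ ⟨r c⟩` -/
theorem act (hP : D.Polar) {r n u : G} (hr : r ∈ Om) (hn : n ∈ N r) (hu : u ∈ U) :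
    n * u * n⁻¹ = u ∨ n * u * n⁻¹ = u * (r * c) := by
  have hrU := D.Om_U r hr
  have hrc : r * c ∈ U := mul_mem hrU D.c_U
  have hrc2 := D.U_sq _ hrc
  have key : ∀ u ∈ closure Om, u ∈ U ∧ (n * u * n⁻¹ = u ∨ n * u * n⁻¹ = u * (r * c)) := by
    intro u hu
    induction hu using closure_induction with
    | mem x hx => exact ⟨D.Om_U x hx, D.act_of hr (D.cover hP hr hx) hn⟩
    | one => exact ⟨one_mem _, Or.inl (by group)⟩
    | mul x y _ _ hx hy =>
      obtain ⟨hxU, hx⟩ := hx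
      obtain ⟨hyU, hy⟩ := hy
      refine ⟨mul_mem hxU hyU, ?_⟩
      have e : n * (x * y) * n⁻¹ = (n * x * n⁻¹) * (n * y * n⁻¹) := by group
      rw [e]
      rcases hx with hx | hx <;> rcases hy with hy | hy <;> rw [hx, hy]
      · exact Or.inl rfl
      · right; group
      · right
        calc x * (r * c) * y = x * ((r * c) * y) := by group
          _ = x * y * (r * c) := by rw [D.comm hrc hyU]; group
      · left
        calc x * (r * c) * (y * (r * c)) = x * ((r * c) * y) * (r * c) := by group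
          _ = x * y * ((r * c) * (r * c)) := by rw [D.comm hrc hyU]; group
          _ = x * y := by rw [hrc2, mul_one]
    | inv x _ hx =>
      obtain ⟨hxU, hx⟩ := hx
      have e : x⁻¹ = x := inv_eq_of_mul_eq_one_left (D.U_sq x hxU)
      rw [e]
      exact ⟨hxU, hx⟩
  exact (key u (D.U_gen hu)).2

end pol

end Pol

/-! ### the instance -/

section inst

variable {M : Subgroup G} {r t c : G} {Q N : G → Subgroup G} (h : TvH M r t Q N)

theorem ne_iff {n b : G} : n * b * n⁻¹ ≠ b ↔ n * b ≠ b * n := by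
  rw [Ne, Ne, mul_inv_eq_iff_eq_mul]

theorem pol (h : TvH M r t Q N) (hO : JOpp M r t Q N) (hN : JNon M r t N) (hC : JConst M r t Q N c) :
    Pol M (UU M r) (Om M r) N (Adj M r t) c where
  U_sq := fun u hu => h.UU_sq hu
  Om_U := fun s hs => Om_le_UU hs
  U_gen := le_rfl
  c_U := hC.2.1
  c_M := hC.2.2.2.1
  c_ne := hC.1
  N_M := fun s hs => h.N_le_M hs
  N_cj := fun m _ s _ n hn => h.Nc m s n hn
  N_s := fun s hs n hn => h.N_self hs hn
  Adj_Om := fun s t hst => hst.left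
  Adj_symm := fun s t hst => h.Adj_symm hst
  Adj_cj := fun m hm s t hst => hst.conj hm
  Adj_mul := fun s t hst => h.Adj_mul hst
  N_Adj := fun s t hst n hn => h.N_comm (h.Adj_symm hst) hn
  opp := by
    rintro x r' s h1 h2 ⟨n, hn, hne⟩ m hm
    have h3 : Opp M r t N x r' s := ⟨h1, h2, n, hn, ne_iff.2 hne⟩
    rcases (hC.2.2.2.2 x r' s h3).2 m hm with h4 | h4
    · exact Or.inl h4
    · right
      rw [h4, h.Om_comm (h.Adj_right h1) (h.Adj_right h2), mul_assoc]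
  opp_symm := by
    rintro x r' s h1 h2 ⟨n, hn, hne⟩
    obtain ⟨-, -, m, hm, hme⟩ := (hO x r' s ⟨h1, h2, n, hn, ne_iff.2 hne⟩).1
    exact ⟨m, hm, ne_iff.1 hme⟩
  col := by
    intro x r' s h1 h2 h3
    by_cases e1 : s = r'
    · exact Or.inl e1
    right
    by_cases e2 : s = x * r'
    · rw [e2]; exact h.Adj_mul' h1
    refine (hN x r' s h1 h2 e1 e2 ?_).2
    rintro ⟨-, -, n, hn, hne⟩
    exact ne_iff.1 hne (h3 n hn)
  conn := by
    rintro X ⟨x, hx, hxX⟩ hX y hy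
    -- `r ∈ X`
    have hsymm : ∀ a b, Relation.ReflTransGen (Adj M r t) a b → Relation.ReflTransGen (Adj M r t) b a := by
      intro a b hab
      induction hab with
      | refl => exact Relation.ReflTransGen.refl
      | tail _ h1 ih => exact Relation.ReflTransGen.head (h.Adj_symm h1) ih
    have h1 := (hsymm _ _ (h.conn hx)).trans (h.conn hy)
    induction h1 with
    | refl => exact hxX
    | tail hab hbc ih => exact hX _ (ih hbc.left) _ hbc

include h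

theorem opp_of {s a b : G} (ha : Adj M r t s a) (hb : Adj M r t s b) (hn : ∃ n ∈ N a, n * b ≠ b * n) :
    Opp M r t N s a b := by
  have _ := h
  obtain ⟨n, hn, hne⟩ := hn
  exact ⟨ha, hb, n, hn, ne_iff.2 hne⟩

theorem comm_of_not_opp {s a b : G} (ha : Adj M r t s a) (hb : Adj M r t s b)
    (hn : ¬ Opp M r t N s a b) {n : G} (hn' : n ∈ N a) : n * b = b * n := by
  by_contra hcon
  exact hn (opp_of h ha hb ⟨n, hn', hcon⟩)

/-- the lines on `s` are conjugate -/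
theorem conj_line {s a b : G} (ha : Adj M r t s a) (hb : Adj M r t s b) :
    ∃ m ∈ M, m * s * m⁻¹ = s ∧ m * a * m⁻¹ = b := by
  have _ := h
  obtain ⟨x, hx, rfl, rfl⟩ := ha
  obtain ⟨y, hy, h1, rfl⟩ := hb
  refine ⟨y * x⁻¹, M.mul_mem hy (M.inv_mem hx), ?_, by group⟩
  calc y * x⁻¹ * (x * r * x⁻¹) * (y * x⁻¹)⁻¹ = y * r * y⁻¹ := by group
    _ = x * r * x⁻¹ := h1

theorem opp_cj {m s a b : G} (hm : m ∈ M) (ho : Opp M r t N s a b) :
    Opp M r t N (m * s * m⁻¹) (m * a * m⁻¹) (m * b * m⁻¹) := by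
  obtain ⟨h1, h2, n, hn, hne⟩ := ho
  refine ⟨h1.conj hm, h2.conj hm, m * n * m⁻¹, h.Nc m a n hn, fun e => hne ?_⟩
  have e1 : m * n * m⁻¹ * (m * b * m⁻¹) * (m * n * m⁻¹)⁻¹ = m * (n * b * n⁻¹) * m⁻¹ := by group
  rw [e1] at e
  exact mul_left_cancel (mul_right_cancel e)

/-- opposite lines exist -/
theorem exists_opp (hN : JNon M r t N) : ∃ s a b, Opp M r t N s a b := by
  by_contra hcon
  push Not at hcon
  have hcol : ∀ x a b, Adj M r t x a → Adj M r t x b → b = a ∨ Adj M r t a b := by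
    intro x a b h1 h2
    by_cases e1 : b = a
    · exact Or.inl e1
    right
    by_cases e2 : b = x * a
    · rw [e2]; exact h.Adj_mul' h1
    exact (hN x a b h1 h2 e1 e2 (hcon x a b)).2
  have h1 : ∀ s ∈ Om M r, s = r ∨ Adj M r t r s := by
    intro s hs
    refine h.conn_ind (P := fun s => s = r ∨ Adj M r t r s) (Or.inl rfl) ?_ hs
    rintro x y hxy (rfl | hx)
    · exact Or.inr hxy
    · exact hcol x r y (h.Adj_symm hx) hxy
  obtain ⟨u, hu, hu'⟩ := h.beta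
  apply hu'
  have h2 : UU M r ≤ Q r := by
    unfold UU
    rw [closure_le]
    intro s hs
    rcases h1 s hs with rfl | h3
    · exact h.mem_Q Om_base
    · exact h.Adj_mem h3
  exact h2 hu

/-- every line has an opposite -/
theorem exists_opp_of (hN : JNon M r t N) {s a : G} (ha : Adj M r t s a) : ∃ b, Opp M r t N s a b := by
  obtain ⟨s', a', b', ho⟩ := exists_opp h hN
  have h1 := ho.1
  obtain ⟨x, hx, rfl, rfl⟩ := ha
  obtain ⟨y, hy, rfl, rfl⟩ := h1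
  have h2 := opp_cj h (M.mul_mem hx (M.inv_mem hy)) ho
  have e1 : x * y⁻¹ * (y * r * y⁻¹) * (x * y⁻¹)⁻¹ = x * r * x⁻¹ := by group
  have e2 : x * y⁻¹ * (y * t * y⁻¹) * (x * y⁻¹)⁻¹ = x * t * x⁻¹ := by group
  rw [e1, e2] at h2
  exact ⟨_, h2⟩

/-- `N a` moves `x`, fixes `y`: it moves `x y` -/
theorem opp_mul {s a x y : G} (ho : Opp M r t N s a x) (hy : ∀ n ∈ N a, n * y = y * n)
    (hxy : Adj M r t s (x * y)) : Opp M r t N s a (x * y) := by
  obtain ⟨ha, hx, n, hn, hne⟩ := ho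
  refine opp_of h ha hxy ⟨n, hn, fun e => ne_iff.1 hne ?_⟩
  have h1 : n * x * y = x * n * y := by
    calc n * x * y = n * (x * y) := by group
      _ = x * (y * n) := by rw [e]; group
      _ = x * n * y := by rw [← hy n hn]; group
  exact mul_right_cancel h1

/-- two lines have a common opposite line -/
theorem exists_common (hN : JNon M r t N) (hC : JConst M r t Q N c) {s a b : G}
    (ha : Adj M r t s a) (hb : Adj M r t s b) : ∃ x, Opp M r t N s a x ∧ Opp M r t N s b x := by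
  obtain ⟨x, hx⟩ := exists_opp_of h hN ha
  obtain ⟨y, hy⟩ := exists_opp_of h hN hb
  by_cases h1 : Opp M r t N s b x
  · exact ⟨x, hx, h1⟩
  by_cases h2 : Opp M r t N s a y
  · exact ⟨y, h2, hy⟩
  have hbx : ∀ n ∈ N b, n * x = x * n := fun n hn => comm_of_not_opp h hb hx.2.1 h1 hn
  have hay : ∀ n ∈ N a, n * y = y * n := fun n hn => comm_of_not_opp h ha hy.2.1 h2 hn
  by_cases h3 : Opp M r t N s x y
  · have h4 := (hC.2.2.2.2 s x y h3).1
    have hcM := hC.2.2.2.1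
    refine ⟨x * y * c, ?_, ?_⟩
    · rw [mul_assoc] at h4 ⊢
      refine opp_mul h hx (fun n hn => ?_) h4
      rw [← mul_assoc, hay n hn, mul_assoc, hcM n (h.N_le_M (h.Adj_right ha) hn), ← mul_assoc]
    · have e : x * y * c = y * (x * c) := by
        rw [h.Om_comm (h.Adj_right hx.2.1) (h.Adj_right hy.2.1), mul_assoc]
      rw [e] at h4 ⊢
      refine opp_mul h hy (fun n hn => ?_) h4
      rw [← mul_assoc, hbx n hn, mul_assoc, hcM n (h.N_le_M (h.Adj_right hb) hn), ← mul_assoc]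
  · have hne1 : y ≠ x := by
      rintro rfl
      exact h1 hy
    have hne2 : y ≠ s * x := by
      rintro rfl
      obtain ⟨-, -, n, hn, hne⟩ := hy
      apply ne_iff.1 hne
      rw [← mul_assoc, h.N_comm hb hn, mul_assoc, hbx n hn, ← mul_assoc]
    have h4 := (hN s x y hx.2.1 hy.2.1 hne1 hne2 h3).1
    refine ⟨x * y, opp_mul h hx hay h4, ?_⟩
    rw [h.Om_comm (h.Adj_right hx.2.1) (h.Adj_right hy.2.1)] at h4 ⊢
    exact opp_mul h hy hbx h4

/-- `r c ∉ [U, N b]` for `r ~ b` -/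
theorem comm_ne (hC : JConst M r t Q N c) {s b : G} (hb : Adj M r t s b) {u g : G} (hu : u ∈ UU M r)
    (hg : g ∈ N b) : g * u * g⁻¹ ≠ u * (s * c) := by
  intro e
  have hb' := h.Adj_right hb
  have h1 : u⁻¹ * g * u * g⁻¹ ∈ ZC Q b := by
    have hc : u⁻¹ * b = b * u⁻¹ := h.UU_comm (inv_mem hu) (Om_le_UU hb')
    have h2 := (h.ZC_fix hc).2 (h.N_le_ZC hb' hg)
    rw [inv_inv] at h2
    exact mul_mem h2 (inv_mem (h.N_le_ZC hb' hg))
  have e1 : u⁻¹ * g * u * g⁻¹ = s * c := by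
    calc u⁻¹ * g * u * g⁻¹ = u⁻¹ * (g * u * g⁻¹) := by group
      _ = s * c := by rw [e]; group
  rw [e1] at h1
  have h2 := mul_mem h1 (inv_mem (hC.2.2.1 b hb'))
  rw [mul_inv_cancel_right] at h2
  exact h.not_both hb h2

/-! ### (12) -/

/-- `s ∈ Ω₂(x)` via `a` -/
theorem om2_of_opp {a x s : G} (ho : Opp M r t N a x s) : Om2 N (Adj M r t) x s := by
  have _ := h
  obtain ⟨h1, h2, n, hn, hne⟩ := ho
  exact ⟨a, h1, h2, n, hn, ne_iff.1 hne⟩

theorem nu_opp (hO : JOpp M r t Q N) (hN : JNon M r t N) (hE : E1 M r t N) (hC : JConst M r t Q N c)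
    {x a b s s' : G} (hab : Opp M r t N x a b) (hs : Opp M r t N a x s) (hs' : Opp M r t N b x s')
    {n : G} (hn : n ∈ N x) : n * s = s * n ↔ n * s' = s' * n := by
  have D := pol h hO hN hC
  -- one half: `n` commutes with `s` iff with `s ^ k`, `k ∈ N b`
  have key : ∀ {b s : G}, Adj M r t x b → ∀ k ∈ N b, Om2 N (Adj M r t) x (k * s * k⁻¹) →
      (n * s = s * n ↔ n * (k * s * k⁻¹) = k * s * k⁻¹ * n) := by
    intro b s hb k hk h2
    have hkx : k * x = x * k := h.N_comm hb hk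
    have hnb : n * b = b * n := h.N_comm (h.Adj_symm hb) hn
    have h1U : k * s * k⁻¹ ∈ UU M r := D.Om_U _ (D.om2_s h2)
    -- `g = n⁻¹ (k n k⁻¹)`
    have hg1 : n⁻¹ * (k * n * k⁻¹) ∈ N x := mul_mem (inv_mem hn) ((h.N_fix hkx).2 hn)
    have hg2 : n⁻¹ * (k * n * k⁻¹) ∈ N b := by
      have h3 : n⁻¹ * k * n⁻¹⁻¹ ∈ N b := by
        refine (h.N_fix ?_).2 hk
        rw [inv_mul_eq_iff_eq_mul, ← mul_assoc, hnb, mul_inv_cancel_right]
      have e : n⁻¹ * (k * n * k⁻¹) = (n⁻¹ * k * n⁻¹⁻¹) * k⁻¹ := by group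
      rw [e]
      exact mul_mem h3 (inv_mem hk)
    set g := n⁻¹ * (k * n * k⁻¹) with hg
    have hgs : g * (k * s * k⁻¹) = k * s * k⁻¹ * g := by
      rcases D.om2_act h2 hg1 with h4 | h4
      · exact Pol.of_conj_eq h4
      · exact absurd h4 (comm_ne h hC hb h1U hg2)
    have e1 : k * n * k⁻¹ = n * g := by rw [hg]; group
    constructor
    · intro e
      have e2 : k * n * k⁻¹ * (k * s * k⁻¹) = k * s * k⁻¹ * (k * n * k⁻¹) := by
        calc k * n * k⁻¹ * (k * s * k⁻¹) = k * (n * s) * k⁻¹ := by group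
          _ = k * s * k⁻¹ * (k * n * k⁻¹) := by rw [e]; group
      rw [e1, mul_assoc n, hgs] at e2
      have e3 : n * (k * s * k⁻¹) * g = k * s * k⁻¹ * n * g := by
        calc n * (k * s * k⁻¹) * g = n * (k * s * k⁻¹ * g) := by group
          _ = k * s * k⁻¹ * n * g := by rw [e2]; group
      exact mul_right_cancel e3
    · intro e
      have e2 : k * n * k⁻¹ * (k * s * k⁻¹) = k * s * k⁻¹ * (k * n * k⁻¹) := by
        rw [e1]
        calc n * g * (k * s * k⁻¹) = n * (g * (k * s * k⁻¹)) := by group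
          _ = (n * (k * s * k⁻¹)) * g := by rw [hgs]; group
          _ = k * s * k⁻¹ * (n * g) := by rw [e]; group
      have e3 : k * (n * s) * k⁻¹ = k * (s * n) * k⁻¹ := by
        calc k * (n * s) * k⁻¹ = k * n * k⁻¹ * (k * s * k⁻¹) := by group
          _ = k * (s * n) * k⁻¹ := by rw [e2]; group
      exact mul_left_cancel (mul_right_cancel e3)
  have hba := (hO x a b hab).1
  -- the third line
  obtain ⟨ha1, hb1, ka, hka, hkane⟩ := id hab
  obtain ⟨-, -, kb, hkb, hkbne⟩ := id hba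
  have ea : ka * b * ka⁻¹ = a * b * c := ((hC.2.2.2.2 x a b hab).2 ka hka).resolve_left hkane
  have eb : kb * a * kb⁻¹ = a * b * c := by
    rw [((hC.2.2.2.2 x b a hba).2 kb hkb).resolve_left hkbne,
      h.Om_comm (h.Adj_right hb1) (h.Adj_right ha1)]
  have hkax : ka * x * ka⁻¹ = x := Pol.conj_eq (h.N_comm ha1 hka)
  have hkbx : kb * x * kb⁻¹ = x := Pol.conj_eq (h.N_comm hb1 hkb)
  have h1 := opp_cj h (h.N_le_M (h.Adj_right hb1) hkb) hs
  have h2 := opp_cj h (h.N_le_M (h.Adj_right ha1) hka) hs'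
  rw [eb, hkbx] at h1
  rw [ea, hkax] at h2
  have h3 : n * (kb * s * kb⁻¹) = kb * s * kb⁻¹ * n ↔ n * (ka * s' * ka⁻¹) = ka * s' * ka⁻¹ * n :=
    hE (a * b * c) x _ _ h1 h2 n hn
  rw [key hb1 kb hkb (om2_of_opp h h1), h3, ← key ha1 ka hka (om2_of_opp h h2)]

/-- **(12)** : `n ∈ N x` moves all of `Ω₂(x)` or nothing -/
theorem nu (hO : JOpp M r t Q N) (hN : JNon M r t N) (hE : E1 M r t N) (hC : JConst M r t Q N c)
    {x s s' : G} (hs : Om2 N (Adj M r t) x s) (hs' : Om2 N (Adj M r t) x s') {n : G} (hn : n ∈ N x) :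
    n * s = s * n ↔ n * s' = s' * n := by
  obtain ⟨a, h1, h2, h3⟩ := hs
  obtain ⟨b, h1', h2', h3'⟩ := hs'
  obtain ⟨y, hy1, hy2⟩ := exists_common h hN hC (h.Adj_symm h1) (h.Adj_symm h1')
  obtain ⟨w, hw⟩ := exists_opp_of h hN (h.Adj_symm hy1.2.1)
  rw [nu_opp h hO hN hE hC hy1 (opp_of h h1 h2 h3) hw hn,
    nu_opp h hO hN hE hC hy2 (opp_of h h1' h2' h3') hw hn]

/-- **(10)**, part 1: the polar property if not all pairs of lines are opposite -/
theorem polar_of_not_allOpp (hO : JOpp M r t Q N) (hN : JNon M r t N) (hE : E1 M r t N)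
    (hC : JConst M r t Q N c) (hA : ¬ AllOpp M r t N) : (pol h hO hN hC).Polar := by
  refine Pol.polar_of_perp _ ?_
  intro s a b ha hb
  have hself : ∀ n ∈ N a, n * a = a * n := fun n hn => h.N_self (h.Adj_right ha) hn
  by_cases e1 : b = a
  · subst e1
    exact ⟨b, ha, hself, hself⟩
  by_cases e2 : b = s * a
  · subst e2
    exact ⟨a, ha, hself, fun n hn => h.N_comm (h.Adj_mul' ha) hn⟩
  by_cases ho : Opp M r t N s a b
  · -- `x`
    obtain ⟨x, hx, hxa, hxsa, hax⟩ : ∃ x, Adj M r t s x ∧ x ≠ a ∧ x ≠ s * a ∧ ¬ Opp M r t N s a x := by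
      unfold AllOpp at hA
      push Not at hA
      obtain ⟨s', a', x', ha', hx', h1, h2, h3⟩ := hA
      obtain ⟨p, hp, rfl, rfl⟩ := id ha
      obtain ⟨q, hq, rfl, rfl⟩ := id ha'
      have hm : p * q⁻¹ ∈ M := M.mul_mem hp (M.inv_mem hq)
      have e3 : p * q⁻¹ * (q * r * q⁻¹) * (p * q⁻¹)⁻¹ = p * r * p⁻¹ := by group
      have e4 : p * q⁻¹ * (q * t * q⁻¹) * (p * q⁻¹)⁻¹ = p * t * p⁻¹ := by group
      refine ⟨p * q⁻¹ * x' * (p * q⁻¹)⁻¹, ?_, fun e => h1 ?_, fun e => h2 ?_, fun e => h3 ?_⟩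
      · have h4 := hx'.conj hm
        rwa [e3] at h4
      · rw [← e4] at e
        exact mul_left_cancel (mul_right_cancel e)
      · have e5 : p * r * p⁻¹ * (p * t * p⁻¹) = p * q⁻¹ * (q * r * q⁻¹ * (q * t * q⁻¹)) * (p * q⁻¹)⁻¹ := by
          group
        rw [e5] at e
        exact mul_left_cancel (mul_right_cancel e)
      · rw [← e3, ← e4] at e
        have h5 := opp_cj h (M.inv_mem hm) e
        have e6 : ∀ y, (p * q⁻¹)⁻¹ * (p * q⁻¹ * y * (p * q⁻¹)⁻¹) * (p * q⁻¹)⁻¹⁻¹ = y := fun y => by group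
        simpa only [e6] using h5
    by_cases hbx : Opp M r t N s b x
    · have h1 := (hN s a x ha hx hxa hxsa hax).1
      refine ⟨a * x, h1, fun n hn => ?_, fun n hn => ?_⟩
      · rw [← mul_assoc, hself n hn, mul_assoc, comm_of_not_opp h ha hx hax hn, ← mul_assoc]
      · have hba := (hO s a b ho).1
        have hiff := hE s b a x hba hbx n hn
        by_cases hna : n * a = a * n
        · rw [← mul_assoc, hna, mul_assoc, hiff.1 hna, ← mul_assoc]
        · have hnx : n * x ≠ x * n := fun e => hna (hiff.2 e)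
          have h2 := ((hC.2.2.2.2 s b a hba).2 n hn).resolve_left (ne_iff.2 hna)
          have h3 := ((hC.2.2.2.2 s b x hbx).2 n hn).resolve_left (ne_iff.2 hnx)
          have hbU := Om_le_UU (h.Adj_right hb)
          have haU := Om_le_UU (h.Adj_right ha)
          have hxU := Om_le_UU (h.Adj_right hx)
          have hcU := hC.2.1
          refine Pol.of_conj_eq ?_
          calc n * (a * x) * n⁻¹ = (n * a * n⁻¹) * (n * x * n⁻¹) := by group
            _ = (b * a) * c * ((b * x) * c) := by rw [h2, h3]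
            _ = (a * b) * c * (c * (b * x)) := by
              rw [h.UU_comm hbU haU, h.UU_comm (mul_mem hbU hxU) hcU]
            _ = a * (b * (c * c) * b) * x := by group
            _ = a * x := by rw [h.UU_sq hcU, mul_one, h.UU_sq hbU, mul_one]
    · exact ⟨x, hx, fun n hn => comm_of_not_opp h ha hx hax hn, fun n hn => comm_of_not_opp h hb hx hbx hn⟩
  · exact ⟨a, ha, hself, fun n hn => h.N_comm (hN s a b ha hb e1 e2 ho).2 hn⟩

/-- two elements of `N r` moving something have a product which centralises `U` -/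
theorem mul_centralises (hO : JOpp M r t Q N) (hN : JNon M r t N) (hE : E1 M r t N)
    (hC : JConst M r t Q N c) (hP : (pol h hO hN hC).Polar) {m n : G} (hm : m ∈ N r) (hn : n ∈ N r)
    (hm' : ∃ u ∈ UU M r, u * m ≠ m * u) (hn' : ∃ u ∈ UU M r, u * n ≠ n * u) {u : G} (hu : u ∈ UU M r) :
    u * (m * n) = m * n * u := by
  have D := pol h hO hN hC
  -- an element moving something moves all of `Ω₂(r)`
  have move : ∀ k ∈ N r, (∃ u ∈ UU M r, u * k ≠ k * u) → ∀ x, Om2 N (Adj M r t) r x →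
      k * x * k⁻¹ = x * (r * c) := by
    rintro k hk ⟨v, hv, hvk⟩ x hx
    obtain ⟨y, hy, hyk⟩ : ∃ y ∈ Om M r, k * y ≠ y * k := by
      by_contra hcon
      push Not at hcon
      apply hvk
      have h1 : UU M r ≤ centralizer {k} := by
        unfold UU
        rw [closure_le]
        intro y hy
        rw [SetLike.mem_coe, mem_centralizer_singleton_iff]
        exact (hcon y hy).symm
      exact mem_centralizer_singleton_iff.1 (h1 hv)
    rcases D.cover hP Om_base hy with rfl | h1 | h1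
    · exact absurd (h.N_self Om_base hk) hyk
    · exact absurd (D.N_Adj _ _ h1 k hk) hyk
    · refine (D.om2_act hx hk).resolve_left fun e => hyk ?_
      exact (nu h hO hN hE hC hx h1 hk).1 (Pol.of_conj_eq e)
  have hrU := Om_le_UU (M := M) (r := r) Om_base
  have h1 : UU M r ≤ centralizer {m * n} := by
    unfold UU
    rw [closure_le]
    intro y hy
    rw [SetLike.mem_coe, mem_centralizer_singleton_iff, eq_comm]
    rcases D.cover hP Om_base hy with rfl | h1 | h1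
    · rw [mul_assoc, h.N_self Om_base hn, ← mul_assoc, h.N_self Om_base hm, mul_assoc]
    · rw [mul_assoc, D.N_Adj _ _ h1 n hn, ← mul_assoc, D.N_Adj _ _ h1 m hm, mul_assoc]
    · refine (Pol.of_conj_eq ?_)
      have e1 := move m hm hm' y h1
      have e2 := move n hn hn' y h1
      calc m * n * y * (m * n)⁻¹ = m * (n * y * n⁻¹) * m⁻¹ := by group
        _ = (m * y * m⁻¹) * (m * r * m⁻¹) * (m * c * m⁻¹) := by rw [e2]; group
        _ = y * (r * c) * r * c := by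
          rw [e1, Pol.conj_eq (h.N_self Om_base hm), Pol.conj_eq (D.c_M m (h.N_le_M Om_base hm))]
        _ = y * ((r * c) * (r * c)) := by group
        _ = y := by rw [h.UU_sq (mul_mem hrU hC.2.1), mul_one]
  exact mem_centralizer_singleton_iff.1 (h1 hu)

/-- **(14)** -/
theorem jEnd_of_polar (hO : JOpp M r t Q N) (hN : JNon M r t N) (hE : E1 M r t N)
    (hC : JConst M r t Q N c) (hP : (pol h hO hN hC).Polar) : JEnd M r Q N c := by
  have D := pol h hO hN hC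
  have hrU := Om_le_UU (M := M) (r := r) Om_base
  have hrc := mul_mem hrU hC.2.1
  refine ⟨fun u hu n hn => ?_, fun u hu v hv hu' hv' => ?_, fun m hm n hn hm' hn' u hu =>
    mul_centralises h hO hN hE hC hP hm hn hm' hn' hu⟩
  · rcases D.act hP Om_base hn hu with h1 | h1
    · left
      calc u * n * u⁻¹ * n⁻¹ = u * (n * u * n⁻¹)⁻¹ := by group
        _ = 1 := by rw [h1, mul_inv_cancel]
    · right
      calc u * n * u⁻¹ * n⁻¹ = u * (n * u * n⁻¹)⁻¹ := by group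
        _ = u * (u * (r * c))⁻¹ := by rw [h1]
        _ = u * ((r * c) * u)⁻¹ := by rw [h.UU_comm hu hrc]
        _ = (r * c)⁻¹ := by group
        _ = r * c := h.UU_inv hrc
  · rw [h.mem_Q_iff Om_base hu] at hu'
    rw [h.mem_Q_iff Om_base hv] at hv'
    rw [h.mem_Q_iff Om_base (mul_mem hu hv)]
    push Not at hu' hv'
    obtain ⟨m, hm, hum⟩ := hu'
    obtain ⟨n, hn, hvn⟩ := hv'
    intro k hk
    by_cases hk' : ∃ w ∈ UU M r, w * k ≠ k * w
    · -- `k` moves `u` and `v`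
      have hmove : ∀ w ∈ UU M r, (∃ m ∈ N r, w * m ≠ m * w) → k * w * k⁻¹ = w * (r * c) := by
        rintro w hw ⟨m, hm, hwm⟩
        refine (D.act hP Om_base hk hw).resolve_left fun e => hwm ?_
        have e1 : k * w = w * k := Pol.of_conj_eq e
        have e2 := mul_centralises h hO hN hE hC hP hk hm hk' ⟨w, hw, hwm⟩ hw
        rw [← mul_assoc, ← e1, mul_assoc, mul_assoc] at e2
        exact mul_left_cancel e2
      have e1 := hmove u hu ⟨m, hm, hum⟩
      have e2 := hmove v hv ⟨n, hn, hvn⟩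
      refine (Pol.of_conj_eq ?_).symm
      calc k * (u * v) * k⁻¹ = (k * u * k⁻¹) * (k * v * k⁻¹) := by group
        _ = u * ((r * c) * v) * (r * c) := by rw [e1, e2]; group
        _ = u * v * ((r * c) * (r * c)) := by rw [h.UU_comm hrc hv]; group
        _ = u * v := by rw [h.UU_sq hrc, mul_one]
    · push Not at hk'
      exact hk' _ (mul_mem hu hv)

/-- (14) in the case `¬ AllOpp` -/
theorem jEnd_of_not_allOpp (hO : JOpp M r t Q N) (hN : JNon M r t N) (hE : E1 M r t N)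
    (hC : JConst M r t Q N c) (hA : ¬ AllOpp M r t N) : JEnd M r Q N c :=
  jEnd_of_polar h hO hN hE hC (polar_of_not_allOpp h hO hN hE hC hA)

end inst

end Cfsg.Agent.Omega.HOne.TvPath

end

end
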