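import Cfsg.Agent.Mrg.Omega.HOneTwo.TransMain
import Cfsg.Agent.Mrg.Omega.HOne.QuadAbs
import Cfsg.Agent.Mrg.Omega.HOne.TvTail
import Cfsg.Agent.Mrg.Omega.HTwo.TComp
import Cfsg.Agent.Mrg.Omega.BTwo.Conj
import Cfsg.Agent.Involutions.BaerSuzuki
import Cfsg.Agent.Mrg.Omega.HTwo.Entry
import Cfsg.Agent.Mrg.Omega.HTwo.AlphaP
import Cfsg.Agent.Mrg.Omega.HOne.PairP
import Cfsg.Agent.Mrg.Omega.HOneTwo.Basic

-- merged: Cfsg.Agent.Mrg.Omega.HOneTwo.TransOf
section

/-!
# II.0h1, `q = 2`: from the transvection statement (#15959, `TvDef`) to `TS` (#15507)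
-/

set_option autoImplicit false
set_option linter.unusedSectionVars false

namespace Cfsg.Agent.Omega.HOneTwo.Trans

open Subgroup Cfsg.Agent.Omega.HOne.TvDef

universe u

variable {G : Type u} [Group G]

theorem Dl_eq_Om (M : Subgroup G) (r : G) : Dl M r = Om M r := by
  ext x
  constructor
  · rintro ⟨m, hm, e⟩; exact ⟨m, hm, e.symm⟩
  · rintro ⟨m, hm, e⟩; exact ⟨m, hm, e.symm⟩

theorem gn_eq_UU (M : Subgroup G) (r : G) : gn M r = UU M r := by
  unfold gn UU
  rw [Dl_eq_Om]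

section

variable {M : Subgroup G} {r t z : G} {Q N : G → Subgroup G} (h : TvH M r t Q N)
include h

theorem zt_eq {s : G} (hs : s ∈ Om M r) : zt (Q s) = ZC Q s := by
  ext x
  rw [mem_zt, ZC, mem_centralizer_iff]
  constructor
  · rintro ⟨-, hx⟩ y hy
    exact (hx y hy).symm
  · intro hx
    exact ⟨h.ZC_le_Q hs (mem_centralizer_iff.2 hx), fun y hy => (hx y hy).symm⟩

/-- the three points of `V` -/
def rr (r t : G) : Fin 3 → G := ![r, t, r * t]

theorem rr_Adj {i j : Fin 3} (hij : i ≠ j) : Adj M r t (rr r t i) (rr r t j) ∧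
    ∀ k, k ≠ i → k ≠ j → rr r t k = rr r t i * rr r t j := by
  have a01 : Adj M r t r t := Adj_base
  have a02 : Adj M r t r (r * t) := h.Adj_mul_base
  have a12 : Adj M r t t (r * t) := h.Adj_mul' a01
  have hrt : r * t = t * r := h.Adj_comm a01
  have hrr : r * r = 1 := h.r_sq
  have htt : t * t = 1 := h.Om_sq h.t_Om
  fin_cases i <;> fin_cases j
  · exact absurd rfl hij
  · refine ⟨a01, ?_⟩
    intro k h1 h2
    have hk : k = 2 := by revert h1 h2; revert k; decide
    subst hk; rfl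
  · refine ⟨a02, ?_⟩
    intro k h1 h2
    have hk : k = 1 := by revert h1 h2; revert k; decide
    subst hk
    show t = r * (r * t)
    rw [← mul_assoc, hrr, one_mul]
  · refine ⟨h.Adj_symm a01, ?_⟩
    intro k h1 h2
    have hk : k = 2 := by revert h1 h2; revert k; decide
    subst hk
    exact hrt
  · exact absurd rfl hij
  · refine ⟨a12, ?_⟩
    intro k h1 h2
    have hk : k = 0 := by revert h1 h2; revert k; decide
    subst hk
    show r = t * (r * t)
    rw [hrt, ← mul_assoc, htt, one_mul]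
  · refine ⟨h.Adj_symm a02, ?_⟩
    intro k h1 h2
    have hk : k = 1 := by revert h1 h2; revert k; decide
    subst hk
    show t = r * t * r
    rw [hrt, mul_assoc, hrr, mul_one]
  · refine ⟨h.Adj_symm a12, ?_⟩
    intro k h1 h2
    have hk : k = 0 := by revert h1 h2; revert k; decide
    subst hk
    show r = r * t * t
    rw [mul_assoc, htt, mul_one]
  · exact absurd rfl hij

theorem rr_Om (i : Fin 3) : rr r t i ∈ Om M r := by
  fin_cases i
  · exact Om_base
  · exact h.t_Om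
  · exact h.Adj_right h.Adj_mul_base

/-- `C_V` is in all three centres -/
theorem rr_C {x : G} {i j : Fin 3} (hij : i ≠ j) (hi : x ∈ ZC Q (rr r t i)) (hj : x ∈ ZC Q (rr r t j)) (k : Fin 3) :
    x ∈ ZC Q (rr r t k) := by
  by_cases hki : k = i
  · rw [hki]; exact hi
  by_cases hkj : k = j
  · rw [hkj]; exact hj
  obtain ⟨ha, hk⟩ := rr_Adj h hij
  rw [hk k hki hkj]
  exact h.Adj_CV ha hi hj

/-- **`TvH` and `JEnd` for `c = z` give `TS`** -/
def TS.ofTv (hE : JEnd M r Q N z) (hN : N r = gen r z) (z_sq : z * z = 1) (z_ne : z ≠ 1)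
    (hz : z ∈ ZC Q r ⊓ ZC Q t) (M_z : ∀ m ∈ M, m * z = z * m)
    (M_r : ∀ g, g * r = r * g → g * z = z * g → g ∈ M)
    (o2 : ∀ B : Subgroup G, B ≤ M → (∀ m ∈ M, ∀ b ∈ B, m * b * m⁻¹ ∈ B) →
      (∀ b ∈ B, ∀ u ∈ UU M r, b * b * u = u * (b * b)) → ∀ b ∈ B, ∀ u ∈ UU M r, b * u = u * b) : TS G where
  z := z
  M := M
  r := rr r t
  Q := Q
  C := ZC Q r ⊓ ZC Q t
  z_sq := z_sq
  z_ne := z_ne
  r_prod := by
    show r * t * (r * t) = 1
    exact h.Om_sq (h.Adj_right h.Adj_mul_base)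
  M_z := M_z
  M_r := M_r
  r_Δ := fun i => by
    show rr r t i ∈ Dl M r
    rw [Dl_eq_Om]
    exact rr_Om h i
  U_sq := by
    intro u hu
    have hu' : u ∈ gn M r := hu
    rw [gn_eq_UU] at hu'
    exact h.UU_sq hu'
  Q_conj := fun g p x hx => h.Qc g p x hx
  Q_cent := fun x hx => (h.ZC_comm (h.mem_ZC Om_base) hx).symm
  Q_der := by
    intro x hx y hy
    have hx' : x ∈ Q r := hx
    have hy' : y ∈ Q r := hy
    rcases h.Q_comm x hx' y hy' with h1 | h1
    · left
      calc x * y = x * y * x⁻¹ * y⁻¹ * (y * x) := by group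
        _ = y * x := by rw [h1, one_mul]
    · right
      calc x * y = x * y * x⁻¹ * y⁻¹ * (y * x) := by group
        _ = r * (y * x) := by rw [h1]
  r_Q := by
    intro i j
    by_cases hij : i = j
    · rw [hij]; exact h.mem_Q (rr_Om h j)
    · exact h.Adj_mem (rr_Adj h (Ne.symm hij)).1
  C_le := by
    rintro i x ⟨h0, h1⟩
    rw [zt_eq h (rr_Om h i)]
    exact rr_C h (i := 0) (j := 1) (by decide) h0 h1 i
  le_C := by
    rintro i j hij x ⟨hi, hj⟩
    rw [zt_eq h (rr_Om h i)] at hi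
    rw [zt_eq h (rr_Om h j)] at hj
    exact ⟨rr_C h hij hi hj 0, rr_C h hij hi hj 1⟩
  z_C := hz
  r_C := by
    rintro i ⟨h0, h1⟩
    have h2 := fun k => rr_C h (i := 0) (j := 1) (by decide) h0 h1 k
    obtain ⟨j, hij⟩ := TS.exists_ne i
    exact h.not_both (rr_Adj h hij).1 (h2 j)
  a := by
    intro i j hij x hx hxj
    rw [zt_eq h (rr_Om h i)] at hx
    have hsi : rr r t i ∈ ZC Q (rr r t i) := h.mem_ZC (rr_Om h i)
    rcases h.Adj_ZQ (rr_Adj h hij).1 hx hxj with h1 | h1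
    · left
      exact ⟨rr_C h hij hx h1 0, rr_C h hij hx h1 1⟩
    · right
      have h2 := Subgroup.mul_mem _ hsi hx
      exact ⟨rr_C h hij h2 h1 0, rr_C h hij h2 h1 1⟩
  b := by
    intro i j hij x hx y hy
    rw [zt_eq h (rr_Om h i)] at hx
    rw [zt_eq h (rr_Om h j)] at hy
    have ha := (rr_Adj h hij).1
    have h1 : x * rr r t j = rr r t j * x := h.ZC_comm hx (h.Adj_mem ha)
    have h2 : y * rr r t i = rr r t i * y := h.ZC_comm hy (h.Adj_mem (h.Adj_symm ha))
    have h3 : x * y * x⁻¹ * y⁻¹ ∈ ZC Q (rr r t i) := by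
      have e : x * y * x⁻¹ * y⁻¹ = x * (y * x⁻¹ * y⁻¹) := by group
      rw [e]
      exact Subgroup.mul_mem _ hx ((h.ZC_fix h2).2 (inv_mem hx))
    have h4 : x * y * x⁻¹ * y⁻¹ ∈ ZC Q (rr r t j) := Subgroup.mul_mem _ ((h.ZC_fix h1).2 hy) (inv_mem hy)
    exact ⟨rr_C h hij h3 h4 0, rr_C h hij h3 h4 1⟩
  ts_idx := by
    intro u hu u' hu' h1 h2
    have hu2 : u ∈ gn M r := hu
    have hu2' : u' ∈ gn M r := hu'
    rw [gn_eq_UU] at hu2 hu2'
    exact hE.2.1 u hu2 u' hu2' h1 h2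
  ts_act := by
    intro u hu n hn
    have hu2 : u ∈ gn M r := hu
    rw [gn_eq_UU] at hu2
    have hn2 : n ∈ N r := by rw [hN]; exact hn
    rcases hE.1 u hu2 n hn2 with h1 | h1
    · left
      calc n * u = (u * n * u⁻¹ * n⁻¹)⁻¹ * (u * n) := by group
        _ = u * n := by rw [h1]; group
    · right
      have hzr : z * r = r * z := h.ZC_comm hz.1 h.r_mem
      show n * u = z * r * (u * n)
      calc n * u = (u * n * u⁻¹ * n⁻¹)⁻¹ * (u * n) := by group
        _ = (r * z)⁻¹ * (u * n) := by rw [h1]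
        _ = z * r * (u * n) := by
            rw [mul_inv_rev, inv_eq_of_mul_eq_one_left z_sq, inv_eq_of_mul_eq_one_left h.r_sq]
  ts_ne := by
    obtain ⟨u, hu, hu'⟩ := h.beta
    obtain ⟨n, hn, hne⟩ : ∃ n ∈ N r, u * n ≠ n * u := by
      by_contra hcon
      push Not at hcon
      exact hu' (h.UN u hu hcon)
    refine ⟨u, ?_, n, ?_, fun h1 => hne h1.symm⟩
    · show u ∈ gn M r
      rw [gn_eq_UU]; exact hu
    · show n ∈ gen r z
      rw [← hN]; exact hn
  o2 := by
    intro B h1 h2 h3 b hb u hu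
    have e : gn M (rr r t 0) = UU M r := gn_eq_UU M r
    rw [e] at hu
    exact o2 B h1 h2 (fun b hb u hu => h3 b hb u (by rw [e]; exact hu)) b hb u hu

end

end Cfsg.Agent.Omega.HOneTwo.Trans

end

-- merged: Cfsg.Agent.Mrg.Omega.HOne.Tv
section

section


/-!
# II.0h1, `q = 2`, case (beta): the transvection statement, assembly (#15959)

`main` : `TvH`, `TvS`, `JEleven` give `c` with `JConst`, `JEnd`.
-/

set_option autoImplicit false
set_option linter.unusedSectionVars false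

namespace Cfsg.Agent.Omega.HOne.Tv

open Subgroup Cfsg.Agent.Omega.HOne.TvDef Cfsg.Agent.Omega.HOne.TvPath

variable {G : Type*} [Group G] {M S : Subgroup G} {r t : G} {Q N : G → Subgroup G}

/-- three lines on a point: `E1` -/
theorem e1_of_eleven (h : TvH M r t Q N) (hO : JOpp M r t Q N) (h11 : JEleven M r t Q N)
    (hA : AllOpp M r t N) : E1 M r t N := by
  have key : ∀ s a b c, Opp M r t N s a b → Opp M r t N s a c → ∀ n ∈ N a, n * b = b * n →
      n * c = c * n := by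
    intro s a b c o o' n hn hb
    have ha := o.1
    have hns : n * s = s * n := h.N_comm ha hn
    have hna : n * a = a * n := h.N_self (h.Adj_right ha) hn
    rcases h11 hA s a b c o o'.2.1 with e | e | e | e | e
    · rw [e]; exact hna
    · rw [e]
      calc n * (s * a) = (n * s) * a := by group
        _ = s * (n * a) := by rw [hns]; group
        _ = s * a * n := by rw [hna]; group
    · rw [e]; exact hb
    · rw [e]
      calc n * (s * b) = (n * s) * b := by group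
        _ = s * (n * b) := by rw [hns]; group
        _ = s * b * n := by rw [hb]; group
    · -- third line
      have hcadj := o'.2.1
      have haU := Om_le_UU (h.Adj_right ha)
      have hbU := Om_le_UU (h.Adj_right o.2.1)
      have hcU := Om_le_UU (h.Adj_right hcadj)
      have hadj := h.Adj_N ha hcadj hn
      have hz : n * (a * b * c) * n⁻¹ ∈ ZC Q s := (h.ZC_fix hns).2 e
      have e1 : n * (a * b * c) * n⁻¹ = a * b * (n * c * n⁻¹) := by
        calc n * (a * b * c) * n⁻¹ = (n * a) * b * c * n⁻¹ := by group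
          _ = a * (n * b) * c * n⁻¹ := by rw [hna]; group
          _ = a * b * (n * c * n⁻¹) := by rw [hb]; group
      rw [e1] at hz
      have hprod : c * (n * c * n⁻¹) ∈ ZC Q s := by
        have h1 := mul_mem (inv_mem e) hz
        have e2 : (a * b * c)⁻¹ * (a * b * (n * c * n⁻¹)) = c⁻¹ * (n * c * n⁻¹) := by group
        rw [e2, h.UU_inv hcU] at h1
        exact h1
      rcases h.noPar_at hcadj hadj hprod with h2 | h2
      · calc n * c = (n * c * n⁻¹) * n := by group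
          _ = c * n := by rw [h2]
      · exfalso
        obtain ⟨-, -, -, -, -, d, -, -, hd, -, -, -, -, hmv, -⟩ := hO s a c o'
        rcases hmv n hn with h3 | h3
        · rw [h3] at h2
          apply h.Om_ne ha.left
          have : s * c = 1 * c := by rw [one_mul]; exact h2.symm
          exact mul_right_cancel this
        · rw [h3] at h2
          -- a c d = s c
          apply h.Adj_not_mem ha
          have h4 : a * d = s := by
            have h5 : c * (a * d) = c * s := by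
              calc c * (a * d) = (c * a) * d := by group
                _ = a * c * d := by rw [h.UU_comm hcU haU]
                _ = s * c := h2
                _ = c * s := h.UU_comm (Om_le_UU ha.left) hcU
            exact mul_left_cancel h5
          have h6 : a = s * d⁻¹ := by rw [← h4]; group
          rw [h6]
          exact mul_mem (h.mem_ZC ha.left) (inv_mem hd)
  intro s a b c o o' n hn
  exact ⟨key s a b c o o' n hn, key s a c b o' o n hn⟩

/-- (13): the polar property if all pairs of lines are opposite -/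
theorem polar_of_allOpp [Finite G] (h : TvH M r t Q N) (hS : TvS M S r t N) (hO : JOpp M r t Q N)
    (hN : JNon M r t N) (hE : E1 M r t N) {c : G} (hC : JConst M r t Q N c)
    (h11 : JEleven M r t Q N) (hA : AllOpp M r t N) : (pol h hO hN hC).Polar := by
  have D := pol h hO hN hC
  have hcM := hC.2.2.2.1
  have hcZ := hC.2.2.1
  have hcU := hC.2.1
  -- first the base point
  have base : ∀ s w, Om2 N (Adj M r t) r s → Adj M r t s w → ∀ n ∈ N r,
      n * w * n⁻¹ = w ∨ n * w * n⁻¹ = w * (r * c) := by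
    intro s w hs hw
    have hsOm := D.om2_s hs
    have hrU := Om_le_UU (M := M) (r := r) Om_base
    have hsU := Om_le_UU hsOm
    have hwU := Om_le_UU (h.Adj_right hw)
    have hrcU : r * c ∈ UU M r := mul_mem hrU hcU
    have hrcZ : r * c ∈ ZC Q r := mul_mem (h.mem_ZC Om_base) (hcZ r Om_base)
    obtain ⟨x, hxr, hxs, n1, hn1, hn1s⟩ := id hs
    have hrx := h.Adj_symm hxr
    have hsx := h.Adj_symm hxs
    have hsQ : s ∉ Q r := fun e => hn1s ((h.mem_Q_iff Om_base hsU).1 e n1 hn1).symm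
    have e1 : n1 * s * n1⁻¹ = s * (r * c) := by
      refine (D.om2_act hs hn1).resolve_left fun e => hn1s (Pol.of_conj_eq e)
    -- `N0 = C_{N r}(s)`
    let N0 : Subgroup G := N r ⊓ centralizer {s}
    have memN0 : ∀ n, n ∈ N0 ↔ n ∈ N r ∧ n * s = s * n := by
      intro n
      rw [mem_inf, mem_centralizer_singleton_iff]
    have hcov : ∀ n ∈ N r, n ∈ N0 ∨ n1 * n ∈ N0 := by
      intro n hn
      rcases D.om2_act hs hn with h1 | h1
      · left
        exact (memN0 n).2 ⟨hn, Pol.of_conj_eq h1⟩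
      · right
        refine (memN0 _).2 ⟨mul_mem hn1 hn, Pol.of_conj_eq ?_⟩
        calc n1 * n * s * (n1 * n)⁻¹ = n1 * (n * s * n⁻¹) * n1⁻¹ := by group
          _ = (n1 * s * n1⁻¹) * (n1 * (r * c) * n1⁻¹) := by rw [h1]; group
          _ = s * (r * c) * (r * c) := by
            rw [e1, Pol.conj_eq (h.ZC_comm hrcZ (h.N_le_Q Om_base hn1)).symm]
          _ = s * ((r * c) * (r * c)) := by group
          _ = s := by rw [h.UU_sq hrcU, mul_one]
    have hSN : ∀ y ∈ S, ∀ n ∈ N0, y * n * y⁻¹ ∈ N0 := by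
      intro y hy n hn
      obtain ⟨hn, hns⟩ := (memN0 n).1 hn
      have hyM := hS.S_le hy
      have hyr := hS.S_r y hy
      have hyn : y * n * y⁻¹ ∈ N r := (h.N_fix hyr).2 hn
      refine (memN0 _).2 ⟨hyn, ?_⟩
      -- `y s y⁻¹ ∈ Ω₂(r)`
      have hs' : Om2 N (Adj M r t) r (y * s * y⁻¹) := by
        have e2 : y * r * y⁻¹ = r := Pol.conj_eq hyr
        refine ⟨y * x * y⁻¹, ?_, hxs.conj hyM, y * n1 * y⁻¹, (h.N_fix hyr).2 hn1, ?_⟩
        · have := hxr.conj hyM
          rwa [e2] at this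
        · intro e
          apply hn1s
          have h2 : y * (n1 * s) * y⁻¹ = y * (s * n1) * y⁻¹ := by
            calc y * (n1 * s) * y⁻¹ = (y * n1 * y⁻¹) * (y * s * y⁻¹) := by group
              _ = (y * s * y⁻¹) * (y * n1 * y⁻¹) := e
              _ = _ := by group
          exact mul_left_cancel (mul_right_cancel h2)
      have h3 : (y * n * y⁻¹) * (y * s * y⁻¹) = (y * s * y⁻¹) * (y * n * y⁻¹) := by
        calc (y * n * y⁻¹) * (y * s * y⁻¹) = y * (n * s) * y⁻¹ := by group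
          _ = y * (s * n) * y⁻¹ := by rw [hns]
          _ = _ := by group
      exact (nu h hO hN hE hC hs' hs hyn).1 h3
    -- `w` centralises `N0`
    have hwN : ∀ n ∈ N0, w * n = n * w := by
      intro n hn
      obtain ⟨hn, hns⟩ := (memN0 n).1 hn
      have hnx : n * x = x * n := D.N_Adj _ _ hrx n hn
      by_cases k1 : w = x
      · rw [k1]; exact hnx.symm
      by_cases k2 : w = s * x
      · rw [k2]
        calc s * x * n = s * (x * n) := by group
          _ = (s * n) * x := by rw [← hnx]; group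
          _ = n * (s * x) := by rw [← hns]; group
      have o := hA s x w hsx hw k1 k2
      have hnM := h.N_le_M Om_base hn
      have hwn : Adj M r t s (n * w * n⁻¹) := by
        have := hw.conj hnM
        rwa [Pol.conj_eq hns] at this
      have hxU := Om_le_UU (h.Adj_right hrx)
      -- `[w,n] ∈ ZC r`
      have hwr : w * r = r * w := h.UU_comm hwU hrU
      have hcomm : n * w * n⁻¹ * w⁻¹ ∈ ZC Q r := by
        have h1 : w * n⁻¹ * w⁻¹ ∈ ZC Q r := (h.ZC_fix hwr).2 (inv_mem (h.N_le_ZC Om_base hn))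
        have e2 : n * w * n⁻¹ * w⁻¹ = n * (w * n⁻¹ * w⁻¹) := by group
        rw [e2]; exact mul_mem (h.N_le_ZC Om_base hn) h1
      have hxZ : x ∉ ZC Q r := h.Adj_not_mem hrx
      have hxQ : x ∈ Q r := h.Adj_mem hrx
      have hcQ : c ∈ Q r := h.ZC_le_Q Om_base (hcZ r Om_base)
      have fin : n * w * n⁻¹ = w → w * n = n * w := fun e => (Pol.of_conj_eq e).symm
      rcases h11 hA s x w (n * w * n⁻¹) o hwn with e | e | e | e | e
      · exfalso
        apply k1
        have h2 : n * w * n⁻¹ = n * x * n⁻¹ := by rw [e, Pol.conj_eq hnx]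
        exact mul_left_cancel (mul_right_cancel h2)
      · exfalso
        apply k2
        have h2 : n * w * n⁻¹ = n * (s * x) * n⁻¹ := by
          rw [e]
          calc s * x = (n * s * n⁻¹) * (n * x * n⁻¹) := by rw [Pol.conj_eq hns, Pol.conj_eq hnx]
            _ = n * (s * x) * n⁻¹ := by group
        exact mul_left_cancel (mul_right_cancel h2)
      · exact fin e
      · exfalso
        rw [e] at hcomm
        have h2 : s * w * w⁻¹ = s := by group
        rw [h2] at hcomm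
        exact hsQ (h.ZC_le_Q Om_base hcomm)
      · exfalso
        have hadj := (hC.2.2.2.2 s x w o).1
        have hz : (x * w * c) * (n * w * n⁻¹) ∈ ZC Q s := by
          have h2 : (x * w * c) * (n * w * n⁻¹) = (x * w * (n * w * n⁻¹)) * c := by
            have h3 := h.UU_comm hcU (Om_le_UU (h.Adj_right hwn))
            calc (x * w * c) * (n * w * n⁻¹) = x * w * (c * (n * w * n⁻¹)) := by group
              _ = x * w * ((n * w * n⁻¹) * c) := by rw [h3]
              _ = _ := by group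
          rw [h2]; exact mul_mem e (hcZ s hsOm)
        have hxwc : n * w * n⁻¹ = x * w * c ∨ n * w * n⁻¹ = s * (x * w * c) :=
          h.noPar_at hadj hwn hz
        rcases hxwc with h2 | h2
        · -- `[w,n] = x c`
          apply hxZ
          have h3 : n * w * n⁻¹ * w⁻¹ = x * c := by
            rw [h2]
            calc x * w * c * w⁻¹ = x * (w * c) * w⁻¹ := by group
              _ = x * c := by rw [h.UU_comm hwU hcU]; group
          rw [h3] at hcomm
          have h4 := mul_mem hcomm (inv_mem (hcZ r Om_base))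
          rwa [mul_inv_cancel_right] at h4
        · apply hsQ
          have h3 : n * w * n⁻¹ * w⁻¹ = s * x * c := by
            rw [h2]
            calc s * (x * w * c) * w⁻¹ = s * x * (w * c) * w⁻¹ := by group
              _ = s * x * c := by rw [h.UU_comm hwU hcU]; group
          rw [h3] at hcomm
          have h4 : s = (s * x * c) * c⁻¹ * x⁻¹ := by group
          rw [h4]
          exact mul_mem (mul_mem (h.ZC_le_Q Om_base hcomm) (inv_mem hcQ)) (inv_mem hxQ)
    have hsn1 : s * n1 * s⁻¹ = n1 * (r * c) := by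
      have h1 : n1 * s = s * (r * c) * n1 := by
        calc n1 * s = (n1 * s * n1⁻¹) * n1 := by group
          _ = _ := by rw [e1]
      have h2 : (r * c) * n1 = n1 * (r * c) := h.ZC_comm hrcZ (h.N_le_Q Om_base hn1)
      have hss : s⁻¹ = s := h.UU_inv hsU
      calc s * n1 * s⁻¹ = s * (n1 * s) := by rw [hss]; group
        _ = s * (s * (r * c) * n1) := by rw [h1]
        _ = (s * s) * ((r * c) * n1) := by group
        _ = n1 * (r * c) := by rw [h.UU_sq hsU, one_mul, h2]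
    have h13 := TvThirteen.j13 h hS hC (N0 := N0) (n1 := n1) (u0 := s) inf_le_left hn1 hcov hSN hsU
      (fun n hn => ((memN0 n).1 hn).2.symm) hsn1 w hwU hwN
    -- conclusion
    have hn1w : n1 * w * n1⁻¹ = w ∨ n1 * w * n1⁻¹ = w * (r * c) := by
      have hww : w⁻¹ = w := h.UU_inv hwU
      rcases h13 with h1 | h1
      · left
        have h2 : w * n1 = n1 * w := Pol.of_conj_eq h1
        exact Pol.conj_eq h2.symm
      · right
        have h2 : w * n1 = n1 * (r * c) * w := by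
          calc w * n1 = (w * n1 * w⁻¹) * w := by group
            _ = _ := by rw [h1]
        have h3 : n1⁻¹ * w * n1 = w * (r * c) := by
          calc n1⁻¹ * w * n1 = n1⁻¹ * (w * n1) := by group
            _ = (r * c) * w := by rw [h2]; group
            _ = _ := h.UU_comm hrcU hwU
        -- conjugate by `n1` : `n1 w n1⁻¹ = w (r c)`
        have h4 : n1 * (r * c) * n1⁻¹ = r * c :=
          Pol.conj_eq (h.ZC_comm hrcZ (h.N_le_Q Om_base hn1)).symm
        have h5 : w = (n1 * w * n1⁻¹) * (r * c) := by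
          calc w = n1 * (n1⁻¹ * w * n1) * n1⁻¹ := by group
            _ = n1 * (w * (r * c)) * n1⁻¹ := by rw [h3]
            _ = (n1 * w * n1⁻¹) * (n1 * (r * c) * n1⁻¹) := by group
            _ = _ := by rw [h4]
        calc n1 * w * n1⁻¹ = (n1 * w * n1⁻¹) * ((r * c) * (r * c)) := by rw [h.UU_sq hrcU, mul_one]
          _ = ((n1 * w * n1⁻¹) * (r * c)) * (r * c) := by group
          _ = w * (r * c) := by rw [← h5]
    intro n hn
    rcases hcov n hn with h1 | h1
    · left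
      exact Pol.conj_eq (hwN n h1).symm
    · have h2 : n1 * n * w * (n1 * n)⁻¹ = w := Pol.conj_eq (hwN _ h1).symm
      have h4 : n1⁻¹ * (r * c) * n1 = r * c := by
        have := h.ZC_comm hrcZ (h.N_le_Q Om_base hn1)
        calc n1⁻¹ * (r * c) * n1 = n1⁻¹ * ((r * c) * n1) := by group
          _ = r * c := by rw [this]; group
      have h3 : n * w * n⁻¹ = n1⁻¹ * w * n1 := by
        calc n * w * n⁻¹ = n1⁻¹ * (n1 * n * w * (n1 * n)⁻¹) * n1 := by group
          _ = _ := by rw [h2]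
      rw [h3]
      rcases hn1w with h5 | h5
      · left
        calc n1⁻¹ * w * n1 = n1⁻¹ * (n1 * w * n1⁻¹) * n1 := by rw [h5]
          _ = w := by group
      · right
        -- w = n1⁻¹ (w rc) n1
        have h6 : w = (n1⁻¹ * w * n1) * (r * c) := by
          calc w = n1⁻¹ * (n1 * w * n1⁻¹) * n1 := by group
            _ = n1⁻¹ * (w * (r * c)) * n1 := by rw [h5]
            _ = (n1⁻¹ * w * n1) * (n1⁻¹ * (r * c) * n1) := by group
            _ = _ := by rw [h4]
        calc n1⁻¹ * w * n1 = (n1⁻¹ * w * n1) * ((r * c) * (r * c)) := by rw [h.UU_sq hrcU, mul_one]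
          _ = ((n1⁻¹ * w * n1) * (r * c)) * (r * c) := by group
          _ = w * (r * c) := by rw [← h6]
  -- all points
  intro y s w hs hw n hn
  obtain ⟨m, hm, rfl⟩ := D.om2_r hs
  have hm' := M.inv_mem hm
  have e0 : m⁻¹ * (m * r * m⁻¹) * m⁻¹⁻¹ = r := by group
  have hs' : Om2 N (Adj M r t) r (m⁻¹ * s * m⁻¹⁻¹) := by
    obtain ⟨x, h1, h2, k, hk, hk'⟩ := hs
    have h3 := h1.conj hm'
    rw [e0] at h3
    have h4 : m⁻¹ * k * m⁻¹⁻¹ ∈ N r := by
      have := h.Nc m⁻¹ _ _ hk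
      rwa [e0] at this
    refine ⟨_, h3, h2.conj hm', _, h4, ?_⟩
    intro e
    apply hk'
    have h5 : m⁻¹ * (k * s) * m⁻¹⁻¹ = m⁻¹ * (s * k) * m⁻¹⁻¹ := by
      calc m⁻¹ * (k * s) * m⁻¹⁻¹ = (m⁻¹ * k * m⁻¹⁻¹) * (m⁻¹ * s * m⁻¹⁻¹) := by group
        _ = (m⁻¹ * s * m⁻¹⁻¹) * (m⁻¹ * k * m⁻¹⁻¹) := e
        _ = _ := by group
    exact mul_left_cancel (mul_right_cancel h5)
  have hn' : m⁻¹ * n * m⁻¹⁻¹ ∈ N r := by
    have := h.Nc m⁻¹ _ _ hn
    rwa [e0] at this
  have hmc : m * c * m⁻¹ = c := Pol.conj_eq (hcM m hm)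
  rcases base _ _ hs' (hw.conj hm') _ hn' with h1 | h1
  · left
    calc n * w * n⁻¹ = m * ((m⁻¹ * n * m⁻¹⁻¹) * (m⁻¹ * w * m⁻¹⁻¹) * (m⁻¹ * n * m⁻¹⁻¹)⁻¹) * m⁻¹ := by
          group
      _ = w := by rw [h1]; group
  · right
    calc n * w * n⁻¹ = m * ((m⁻¹ * n * m⁻¹⁻¹) * (m⁻¹ * w * m⁻¹⁻¹) * (m⁻¹ * n * m⁻¹⁻¹)⁻¹) * m⁻¹ := by
          group
      _ = w * (m * r * m⁻¹ * (m * c * m⁻¹)) := by rw [h1]; group
      _ = _ := by rw [hmc]

/-- **THE TRANSVECTION STATEMENT** (#15959): `1 ≠ c ∈ U`, centralised by `M` and all `Q s`,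
`[U, N r] ≤ ⟨r c⟩`, `|U : U ∩ Q r| = 2 = |N r : C_{N r}(U)|` -/
theorem main [Finite G] (h : TvH M r t Q N) (hS : TvS M S r t N) (h11 : JEleven M r t Q N) :
    ∃ c, JConst M r t Q N c ∧ JEnd M r Q N c := by
  have hO := h.jOpp
  have hN := h.jNon
  have hE : E1 M r t N := by
    rcases h.dich hO hN with h1 | h1
    · exact e1_of_eleven h hO h11 h1
    · exact h1
  obtain ⟨c, hC⟩ := TvConst.jconst h hO hN hE
  refine ⟨c, hC, ?_⟩
  by_cases hA : AllOpp M r t N
  · exact jEnd_of_polar h hO hN hE hC (polar_of_allOpp h hS hO hN hE hC h11 hA)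
  · exact jEnd_of_not_allOpp h hO hN hE hC hA

end Cfsg.Agent.Omega.HOne.Tv

end

section


/-!
# II.0h1, `q = 2`, case (β): the transvection statement, without hypotheses on joints (helper865)
-/

set_option autoImplicit false

namespace Cfsg.Agent.Omega.HOne.TvMain

open Cfsg.Agent.Omega.HOne.TvDef

variable {G : Type*} [Group G] {M S : Subgroup G} {r t : G} {Q N : G → Subgroup G}

/-- **The transvection statement #15959.** -/
theorem main [Finite G] (h : TvH M r t Q N) (hS : TvS M S r t N) (hQS : Q r ≤ S) :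
    ∃ c, JConst M r t Q N c ∧ JEnd M r Q N c :=
  Tv.main h hS (h.jEleven hS hQS h.jOpp h.jNon)

end Cfsg.Agent.Omega.HOne.TvMain

end

end

-- merged: Cfsg.Agent.Mrg.Omega.HOne.JunE
section

/-!
# II.0h1, `q = 2`, case (beta): the BS-trick (E) of #17185 (helper202, helper766, helper563)

* `exists_not_pair` : Baer-Suzuki inside a subgroup `H`;
* `bs` : the trick;
* `FF_two` : the elements `f ∈ N r R`, `f² = 1`, centralised by `M` form a group of order at most 2;
* `c_eq_z` : `c = z` for the constant `c` of `JConst`, `JEnd`, if `z ∈ N r` is centralised by `M`.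
-/

set_option autoImplicit false
set_option linter.unusedSectionVars false

namespace Cfsg.Agent.Omega.HOne.JunE

open Subgroup Cfsg.Agent.Omega.HOne.TvDef Cfsg.Agent.Omega.BTwo

variable {G : Type*} [Group G]

/-- Baer-Suzuki in `H` -/
theorem exists_not_pair [Finite G] {H : Subgroup G} {u : G} (hu : u ∈ H) (hn : u ∉ O2 H) :
    ∃ h ∈ H, ¬ IsPGroup 2 (Subgroup.closure {u, h * u * h⁻¹} : Subgroup G) := by
  have hf : Fact (Nat.Prime 2) := ⟨Nat.prime_two⟩
  by_contra hcon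
  push Not at hcon
  apply hn
  have h1 := Cfsg.Agent.Involutions.BaerSuzuki.mem_pCore_of_conj_pairs (p := 2) (⟨u, hu⟩ : H) (by
    rintro ⟨g, hg⟩
    refine ((hcon g hg).comap_of_injective H.subtype H.subtype_injective).to_le ?_
    rw [Subgroup.closure_le]
    rintro x hx
    rcases hx with rfl | hx
    · exact Subgroup.subset_closure (Or.inl rfl)
    · rw [Set.mem_singleton_iff] at hx
      subst hx
      exact Subgroup.subset_closure (Or.inr rfl))
  exact ⟨_, h1, rfl⟩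

/-- **the BS-trick** -/
theorem bs [Finite G] {H F : Subgroup G} {u : G} (huH : u ∈ H) (huQ : u ∉ O2 H)
    (hA : ∀ f ∈ F, f ≠ 1 → ∃ A : Subgroup G, IsPGroup 2 A ∧ u ∈ A ∧
      centralizer ({f} : Set G) ≤ normalizer (A : Set G))
    (hidx : ∀ h ∈ H, ∀ x ∈ F, ∀ y ∈ F, x * (h * u * h⁻¹) ≠ h * u * h⁻¹ * x →
      y * (h * u * h⁻¹) ≠ h * u * h⁻¹ * y → x * y * (h * u * h⁻¹) = h * u * h⁻¹ * (x * y)) :
    ∀ x ∈ F, ∀ y ∈ F, x ≠ 1 → y ≠ 1 → x * y = 1 := by
  obtain ⟨h, hh, hp⟩ := exists_not_pair huH huQ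
  have key : ∀ f ∈ F, f ≠ 1 → f * (h * u * h⁻¹) ≠ h * u * h⁻¹ * f := by
    intro f hf hf1 hc
    obtain ⟨A, hAp, huA, hAn⟩ := hA f hf hf1
    apply hp
    have h1 : IsPGroup 2 (zpowers (h * u * h⁻¹)) := by
      have h2 : IsPGroup 2 (zpowers u) := hAp.to_le (by rw [zpowers_le]; exact huA)
      have h3 := h2.map (MulAut.conj h).toMonoidHom
      rw [MonoidHom.map_zpowers] at h3
      exact h3
    have h2 : zpowers (h * u * h⁻¹) ≤ normalizer (A : Set G) := by
      rw [zpowers_le]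
      exact hAn (mem_centralizer_singleton_iff.2 hc.symm)
    have h3 : IsPGroup 2 (A ⊔ zpowers (h * u * h⁻¹) : Subgroup G) :=
      hAp.to_sup_of_normal_left' h1 h2
    refine h3.to_le ?_
    rw [Subgroup.closure_le]
    rintro x hx
    rcases hx with rfl | hx
    · exact le_sup_left (a := A) huA
    · rw [Set.mem_singleton_iff] at hx
      subst hx
      exact le_sup_right (a := A) (mem_zpowers _)
  intro x hx y hy hx1 hy1
  by_contra hxy
  exact key (x * y) (mul_mem hx hy) hxy (hidx h hh x hx y hy (key x hx hx1) (key y hy hy1))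

variable {M : Subgroup G} {r t z c : G} {Q N : G → Subgroup G}

/-- the group `F` of the elements `f` of `N r · R` with `f² = 1`, centralised by `M` -/
def FF (h : TvH M r t Q N) : Subgroup G where
  carrier := {x | (∀ m ∈ M, m * x = x * m) ∧ x * x = 1 ∧ (x ∈ N r ∨ r * x ∈ N r)}
  one_mem' := ⟨fun m _ => by rw [mul_one, one_mul], by rw [mul_one], Or.inl (N r).one_mem⟩
  mul_mem' := by
    rintro x y ⟨hx1, hx2, hx3⟩ ⟨hy1, hy2, hy3⟩
    have hrM : r ∈ M := h.Q_le h.r_mem
    have hNM : ∀ n ∈ N r, n ∈ M := fun n hn => h.N_le_M Om_base hn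
    have hyM : y ∈ M := by
      rcases hy3 with h1 | h1
      · exact hNM y h1
      · have e : y = r * (r * y) := by rw [← mul_assoc, h.r_sq, one_mul]
        rw [e]
        exact mul_mem hrM (hNM _ h1)
    have hxy : y * x = x * y := hx1 y hyM
    refine ⟨fun m hm => ?_, ?_, ?_⟩
    · rw [← mul_assoc, hx1 m hm, mul_assoc, hy1 m hm, mul_assoc]
    · calc x * y * (x * y) = x * (y * x) * y := by group
        _ = (x * x) * (y * y) := by rw [hxy]; group
        _ = 1 := by rw [hx2, hy2, mul_one]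
    · have hrx : r * x = x * r := hx1 r hrM
      rcases hx3 with h1 | h1 <;> rcases hy3 with h2 | h2
      · exact Or.inl (mul_mem h1 h2)
      · right
        have e : r * (x * y) = x * (r * y) := by rw [← mul_assoc, hrx, mul_assoc]
        rw [e]
        exact mul_mem h1 h2
      · right
        have e : r * (x * y) = r * x * y := by rw [mul_assoc]
        rw [e]
        exact mul_mem h1 h2
      · left
        have e : x * y = r * x * (r * y) := by
          calc x * y = x * (r * r) * y := by rw [h.r_sq, mul_one]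
            _ = r * x * (r * y) := by rw [hrx]; group
        rw [e]
        exact mul_mem h1 h2
  inv_mem' := by
    rintro x ⟨hx1, hx2, hx3⟩
    have e : x⁻¹ = x := inv_eq_of_mul_eq_one_left hx2
    rw [e]
    exact ⟨hx1, hx2, hx3⟩

/-- `rc ∈ N r` -/
theorem rc_mem (h : TvH M r t Q N) (hE : JEnd M r Q N c) : r * c ∈ N r := by
  obtain ⟨u, hu, huQ⟩ := h.beta
  have h1 : ∃ n ∈ N r, u * n ≠ n * u := by
    by_contra hcon
    push Not at hcon
    exact huQ (h.UN u hu hcon)
  obtain ⟨n, hn, hne⟩ := h1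
  have h2 := (hE.1 u hu n hn).resolve_left fun e => hne (mul_inv_eq_iff_eq_mul.1 (mul_inv_eq_one.1 e))
  rw [← h2]
  have hur : u * r = r * u := h.UU_comm hu (Om_le_UU Om_base)
  exact mul_mem ((h.N_fix hur).2 hn) (inv_mem hn)

/-- the BS-trick: `FF h` has at most two elements -/
theorem FF_two [Finite G] (h : TvH M r t Q N) (hQr : Q r = O2 (centralizer ({r} : Set G)))
    (hA : ∀ f, f ≠ 1 → f * f = 1 → (∀ m ∈ M, m * f = f * m) → ∃ A : Subgroup G, IsPGroup 2 A ∧ UU M r ≤ A ∧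
      centralizer ({f} : Set G) ≤ normalizer (A : Set G))
    (hC : JConst M r t Q N c) (hE : JEnd M r Q N c) :
    ∀ x ∈ FF h, ∀ y ∈ FF h, x ≠ 1 → y ≠ 1 → x * y = 1 := by
  obtain ⟨u, hu, huQ⟩ := h.beta
  have hur : u * r = r * u := h.UU_comm hu (Om_le_UU Om_base)
  obtain ⟨hc1, hcU, -, hcM, -⟩ := hC
  have hcc := h.UU_sq hcU
  have hrc := rc_mem h hE
  have hrM : r ∈ M := h.Q_le h.r_mem
  have hrcc : r * c * (r * c) = 1 := h.UU_sq (mul_mem (Om_le_UU Om_base) hcU)
  have hNr : ∀ n ∈ N r, n * r = r * n := fun n hn => h.N_self Om_base hn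
  have hNab : ∀ n ∈ N r, ∀ m ∈ N r, n * m = m * n := fun n hn m hm =>
    h.ZC_comm (h.N_le_ZC Om_base hn) (h.N_le_Q Om_base hm)
  exact bs (H := centralizer ({r} : Set G)) (F := FF h) (u := u) (mem_centralizer_singleton_iff.2 hur)
    (by rw [← hQr]; exact huQ) (by
      rintro f ⟨hf1, hf2, -⟩ hne
      obtain ⟨A, h1, h2, h3⟩ := hA f hne hf2 hf1
      exact ⟨A, h1, h2 hu, h3⟩) (by
      rintro g hg x ⟨-, hx2, hx3⟩ y ⟨-, hy2, hy3⟩ hxw hyw
      have hgr : g * r = r * g := mem_centralizer_singleton_iff.1 hg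
      have hgr' : g⁻¹ * r = r * g⁻¹ := by
        rw [inv_mul_eq_iff_eq_mul, ← mul_assoc, hgr, mul_inv_cancel_right]
      obtain ⟨w, hw⟩ : ∃ w, w = g * u * g⁻¹ := ⟨_, rfl⟩
      obtain ⟨d, hd⟩ : ∃ d, d = g * (r * c) * g⁻¹ := ⟨_, rfl⟩
      have hdd : d * d = 1 := by
        rw [hd]
        calc g * (r * c) * g⁻¹ * (g * (r * c) * g⁻¹) = g * (r * c * (r * c)) * g⁻¹ := by group
          _ = 1 := by rw [hrcc, mul_one, mul_inv_cancel]
      have hdN : d ∈ N r := by rw [hd]; exact (h.N_fix hgr).2 hrc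
      have hwr : w * r = r * w := by
        rw [hw]
        calc g * u * g⁻¹ * r = g * u * (g⁻¹ * r) := by group
          _ = g * (u * r) * g⁻¹ := by rw [hgr']; group
          _ = (g * r) * u * g⁻¹ := by rw [hur]; group
          _ = r * (g * u * g⁻¹) := by rw [hgr]; group
      have hN : ∀ n ∈ N r, w * n * w⁻¹ = n ∨ w * n * w⁻¹ = d * n := by
        intro n hn
        have hn' : g⁻¹ * n * g ∈ N r := by
          have := (h.N_fix (g := g⁻¹) (s := r) (x := n) hgr').2 hn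
          rwa [inv_inv] at this
        have e : w * n * w⁻¹ * n⁻¹ = g * (u * (g⁻¹ * n * g) * u⁻¹ * (g⁻¹ * n * g)⁻¹) * g⁻¹ := by
          rw [hw]; group
        rcases hE.1 u hu _ hn' with h1 | h1
        · left
          rw [h1, mul_one, mul_inv_cancel, mul_inv_eq_one] at e
          exact e
        · right
          rw [h1, ← hd, mul_inv_eq_iff_eq_mul] at e
          exact e
      -- the same for `x ∈ N r R`
      have hX : ∀ x, x ∈ N r ∨ r * x ∈ N r → x * w ≠ w * x → w * x * w⁻¹ = d * x := by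
        intro x hx hne
        rcases hx with h1 | h1
        · rcases hN x h1 with h2 | h2
          · exact absurd (mul_inv_eq_iff_eq_mul.1 h2).symm hne
          · exact h2
        · have e : w * (r * x) * w⁻¹ = r * (w * x * w⁻¹) := by
            calc w * (r * x) * w⁻¹ = (w * r) * x * w⁻¹ := by group
              _ = _ := by rw [hwr]; group
          rcases hN _ h1 with h2 | h2
          · rw [e] at h2
            exact absurd (mul_inv_eq_iff_eq_mul.1 (mul_left_cancel h2)).symm hne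
          · have h3 : r * (w * x * w⁻¹) = r * (d * x) := by
              rw [← e, h2, ← mul_assoc, hNr d hdN, mul_assoc]
            exact mul_left_cancel h3
      rw [← hw] at hxw hyw ⊢
      have h1 := hX x hx3 hxw
      have h2 := hX y hy3 hyw
      have hdx : d * x = x * d := by
        rcases hx3 with h3 | h3
        · exact hNab d hdN x h3
        · have h4 := hNab d hdN _ h3
          rw [← mul_assoc, hNr d hdN, mul_assoc, mul_assoc] at h4
          exact mul_left_cancel h4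
      have h3 : w * (x * y) * w⁻¹ = x * y := by
        calc w * (x * y) * w⁻¹ = (w * x * w⁻¹) * (w * y * w⁻¹) := by group
          _ = (d * x) * (d * y) := by rw [h1, h2]
          _ = (x * d) * (d * y) := by rw [hdx]
          _ = x * (d * d) * y := by group
          _ = x * y := by rw [hdd, mul_one]
      exact (mul_inv_eq_iff_eq_mul.1 h3).symm)

/-- **(E) of #17185** : `c = z` -/
theorem c_eq_z [Finite G] (h : TvH M r t Q N) (hQr : Q r = O2 (centralizer ({r} : Set G)))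
    (hzN : z ∈ N r) (hzz : z * z = 1) (hz1 : z ≠ 1) (hMz : ∀ m ∈ M, m * z = z * m)
    (hA : ∀ f, f ≠ 1 → f * f = 1 → (∀ m ∈ M, m * f = f * m) → ∃ A : Subgroup G, IsPGroup 2 A ∧ UU M r ≤ A ∧
      centralizer ({f} : Set G) ≤ normalizer (A : Set G))
    (hC : JConst M r t Q N c) (hE : JEnd M r Q N c) : c = z := by
  have hrc := rc_mem h hE
  have key := FF_two h hQr hA hC hE
  obtain ⟨hc1, hcU, -, hcM, -⟩ := hC
  have hcc := h.UU_sq hcU
  have h1 := key z ⟨hMz, hzz, Or.inl hzN⟩ c ⟨hcM, hcc, Or.inr hrc⟩ hz1 hc1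
  have h2 : c = z⁻¹ := eq_inv_of_mul_eq_one_right h1
  rw [h2]
  exact inv_eq_of_mul_eq_one_left hzz

end Cfsg.Agent.Omega.HOne.JunE

end

-- merged: Cfsg.Agent.Mrg.Omega.HTwo.EntryTv
section

section


/-!
# II.0h1, `q = 2`: from `HT` to the setting (H) of the transvection statement (`HOne.TvDef`)

`E ≤ C_Z(P)`, `E ≠ 1` (`E = ⟨z⟩` or `E = C_Z(P)`), `ME V R o E = ⟨C_{H₁}(E), X⟩`, `QF s = O₂(C(s))`,
`NF r E s = ⟨e^g : r^g = s, e ∈ E⟩`.

* `tvH` : `TvH (ME V R o E) r t QF (NF r E)` from `beta` and `noPar`;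
* `tvS` : `TvS (ME V R o E) S r t (NF r E)`;
* `beta_z` : `beta` for `E = ⟨z⟩` (helper972's `not_alpha'`); `ME_z` : `ME V R o ⟨z⟩ = MP V R o z`;
* `NF_gen`, `ME_le`, `le_ME`, `o2_red` : the further input of `Trans.TS.ofTv`.
-/

set_option autoImplicit false
set_option linter.unusedSectionVars false

namespace Cfsg.Agent.Omega.HTwo.EntryTv

open Subgroup Cfsg Cfsg.Agent.ZN Cfsg.Agent.Omega.BTwo Cfsg.Agent.Omega.HOneTwo
open Cfsg.Agent.Omega.HTwo.Hat Cfsg.Agent.Omega.HTwo.ThmA Cfsg.Agent.Omega.MinPar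
open Cfsg.Agent.Omega.HOne.TvDef
open Cfsg.Agent.Omega.HTwo.AlphaP (MP not_alpha')

universe u

/-- `O₂(C(s))` -/
def QF {G : Type u} [Group G] (s : G) : Subgroup G := O2 (centralizer ({s} : Set G))

/-- `⟨e^g : r^g = s, e ∈ E⟩` -/
def NF {G : Type u} [Group G] (r : G) (E : Subgroup G) (s : G) : Subgroup G :=
  closure {x | ∃ g, g * r * g⁻¹ = s ∧ ∃ e ∈ E, x = g * e * g⁻¹}

/-- `⟨C_{H₁}(E), X⟩` -/
def ME {G : Type u} [Group G] {ι : Type*} (V : Subgroup G) (R : ι → Subgroup G) (o : ι) (E : Subgroup G) :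
    Subgroup G := (normalizer (R o : Set G) ⊓ centralizer (E : Set G)) ⊔ XX V R

section basic

variable {G : Type u} [Group G]

theorem QF_conj {g s x : G} (hx : x ∈ QF s) : g * x * g⁻¹ ∈ QF (g * s * g⁻¹) := by
  unfold QF at hx ⊢
  rw [← AlphaFive.cj_C g s, ← cj_O2]
  exact conj_mem_cj hx

theorem NF_conj {r : G} {E : Subgroup G} {g s x : G} (hx : x ∈ NF r E s) : g * x * g⁻¹ ∈ NF r E (g * s * g⁻¹) := by
  unfold NF at hx ⊢
  induction hx using closure_induction with
  | mem x hx =>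
    obtain ⟨h, rfl, e, he, rfl⟩ := hx
    exact subset_closure ⟨g * h, by group, e, he, by group⟩
  | one => rw [mul_one, mul_inv_cancel]; exact one_mem _
  | mul x y _ _ hx hy =>
    have : g * (x * y) * g⁻¹ = (g * x * g⁻¹) * (g * y * g⁻¹) := by group
    rw [this]; exact mul_mem hx hy
  | inv x _ hx =>
    have : g * x⁻¹ * g⁻¹ = (g * x * g⁻¹)⁻¹ := by group
    rw [this]; exact inv_mem hx

theorem NF_base {r : G} {E : Subgroup G} : E ≤ NF r E r :=
  fun e he => subset_closure ⟨1, by group, e, he, by group⟩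

end basic

section main

variable {G : Type u} [Group G] [Finite G] {ι : Type*} {S : Sylow 2 G} {P V : Subgroup G}
  {R : ι → Subgroup G} {o : ι} (b : HT S P V R o)

include b

/-- `N(R i) = C(s)`, `s` the involution of `R i` -/
theorem normalizer_eq {i : ι} {s : G} (hs : ∀ x, x ∈ R i ↔ x = 1 ∨ x = s) :
    normalizer (R i : Set G) = centralizer ({s} : Set G) := by
  apply le_antisymm
  · intro x hx
    rw [mem_centralizer_singleton_iff]
    exact (mem_centralizer_iff.1 (normalizer_le_cen_of_card (b.card_R i) hx) s ((hs s).2 (Or.inr rfl))).symm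
  · intro x hx
    rw [mem_centralizer_singleton_iff] at hx
    refine centralizer_le_normalizer _ ?_
    rw [mem_centralizer_iff]
    intro y hy
    rcases (hs y).1 hy with rfl | rfl
    · rw [one_mul, mul_one]
    · exact hx.symm

theorem QF_eq {i : ι} {s : G} (hs : ∀ x, x ∈ R i ↔ x = 1 ∨ x = s) : QF s = QQ (R i) := by
  unfold QF
  rw [← normalizer_eq b hs]

/-- `r t` is the third involution -/
theorem mul_mem_third {i j k : ι} (hij : i ≠ j) (hki : k ≠ i) (hkj : k ≠ j) {s t : G}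
    (hs : s ∈ R i) (hs1 : s ≠ 1) (ht : t ∈ R j) (ht1 : t ≠ 1) : s * t ∈ R k := by
  obtain ⟨l, hl⟩ := b.R_cov _ (mul_mem (b.R_le i hs) (b.R_le j ht))
  have hli : l ≠ i := by
    rintro rfl
    have h1 : t ∈ R l := by
      have := mul_mem (inv_mem hs) hl
      rwa [inv_mul_cancel_left] at this
    exact ht1 (b.eq_one hij h1 ht)
  have hlj : l ≠ j := by
    rintro rfl
    have h1 : s ∈ R l := by
      have := mul_mem hl (inv_mem ht)
      rwa [mul_inv_cancel_right] at this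
    exact hs1 (b.eq_one hij hs h1)
  rcases b.eq_of_ne (l := l) hij (Ne.symm hki) (Ne.symm hkj) with h | h | h
  · exact absurd h hli
  · exact absurd h hlj
  · rwa [h] at hl

/-- `Q i` moves the involution of `R j` -/
theorem exists_q {i j : ι} (hij : i ≠ j) {s t : G} (hs : s ∈ R i) (hs1 : s ≠ 1) (ht : t ∈ R j) (ht1 : t ≠ 1) :
    ∃ q ∈ QQ (R i), q * t * q⁻¹ = s * t := by
  obtain ⟨k, hki, hkj⟩ := b.third i j
  obtain ⟨w, hw, e⟩ := b.trans i (Ne.symm hij) hki
  refine ⟨w, b.W_le_Q i hw, ?_⟩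
  have h1 : w * t * w⁻¹ ∈ R k := by rw [← e]; exact conj_mem_cj ht
  have h2 := mul_mem_third b hij hki hkj hs hs1 ht ht1
  have h3 : s * t ≠ 1 := by
    intro h
    have h4 : s = t⁻¹ := eq_inv_of_mul_eq_one_left h
    exact hs1 (b.eq_one hij hs (h4 ▸ inv_mem ht))
  exact eq_of_card_two (b.card_R k) h2 h3 h1 (fun h => ht1 (conj_eq_one_iff.1 h))

variable {r : G} (hr : ∀ x, x ∈ R o ↔ x = 1 ∨ x = r) (hr1 : r ≠ 1) {E : Subgroup G}
  (hE : E ≤ zc (S : Subgroup G) ⊓ centralizer (P : Set G)) (hE1 : E ≠ ⊥)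

include hE

theorem E_cenX : E ≤ CenX V R := hE.trans b.cz_le

theorem X_le_cenE : XX V R ≤ centralizer (E : Set G) := by
  have h1 : E ≤ centralizer (XX V R : Set G) := hE.trans b.cz_le
  exact le_centralizer_iff.1 h1

theorem S_le_cenE : (S : Subgroup G) ≤ centralizer (E : Set G) := by
  intro s hs
  rw [mem_centralizer_iff]
  exact fun e he => ((ZN.mem_zc.1 (hE he).1).2.1 s hs).symm

theorem ME_le_cen : ME V R o E ≤ centralizer (E : Set G) := sup_le inf_le_right (X_le_cenE b hE)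

theorem S_le_ME : (S : Subgroup G) ≤ ME V R o E :=
  (le_inf b.S_R (S_le_cenE b hE)).trans le_sup_left

theorem Q_le_ME : QQ (R o) ≤ ME V R o E := b.Q_le_S.trans (S_le_ME b hE)

omit hE in
theorem X_le_ME : XX V R ≤ ME V R o E := by
  have _ := b
  exact le_sup_right

theorem Qi_le_ME (i : ι) : QQ (R i) ≤ ME V R o E := by
  obtain ⟨x, hx, e⟩ := b.trans_X_one o i
  rw [← b.cj_QQ e, cj_le_iff]
  intro q hq
  exact mul_mem (mul_mem (X_le_ME b hx) (Q_le_ME b hE hq)) (inv_mem (X_le_ME b hx))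

omit hE in
theorem V_le_X : V ≤ XX V R := by
  obtain ⟨i⟩ := b.toBT.nonempty
  exact (V_le_WW V (R i)).trans (W_le_X V R i)

include hr in
omit hE in
theorem exists_X {v : G} (hv : v ∈ V) (hv1 : v ≠ 1) : ∃ c ∈ XX V R, c * r * c⁻¹ = v :=
  AlphaP.exists_conj_X b hr hv hv1

include hr hr1 in
/-- `⟨r^M⟩ = ⟨V^M⟩` for `M ≥ X` -/
theorem UU_eq {M : Subgroup G} (hX : XX V R ≤ M) : UU M r = UM V M := by
  apply le_antisymm
  · show closure (Om M r) ≤ UM V M
    rw [closure_le]
    rintro _ ⟨m, hm, rfl⟩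
    exact cj_le_cl hm (conj_mem_cj (b.R_le o ((hr r).2 (Or.inr rfl))))
  · refine cl_le ?_ ?_
    · intro v hv
      by_cases hv1 : v = 1
      · rw [hv1]; exact one_mem _
      obtain ⟨c, hc, rfl⟩ := exists_X b hr hv hv1
      exact subset_closure ⟨c, hX hc, rfl⟩
    · intro m hm
      rw [← cj_eq_self_iff]
      have key : ∀ m ∈ M, cj m (UU M r) ≤ UU M r := by
        intro m hm
        rw [cj_le_iff]
        intro x hx
        change x ∈ closure (Om M r) at hx
        change m * x * m⁻¹ ∈ closure (Om M r)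
        induction hx using closure_induction with
        | mem x hx =>
          obtain ⟨k, hk, rfl⟩ := hx
          exact subset_closure ⟨m * k, mul_mem hm hk, by group⟩
        | one => rw [mul_one, mul_inv_cancel]; exact one_mem _
        | mul x y _ _ hx hy =>
          have : m * (x * y) * m⁻¹ = (m * x * m⁻¹) * (m * y * m⁻¹) := by group
          rw [this]; exact mul_mem hx hy
        | inv x _ hx =>
          have : m * x⁻¹ * m⁻¹ = (m * x * m⁻¹)⁻¹ := by group
          rw [this]; exact inv_mem hx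
      apply le_antisymm (key m hm)
      have h1 := cj_mono (g := m) (key m⁻¹ (inv_mem hm))
      rwa [cj_cj_inv] at h1

include hr hr1 hE1

/-- `U` is abelian, in `Ω₁(Z(O₂(C(e))))` -/
theorem UU_le : ∃ z ∈ E, z ≠ 1 ∧ UU (ME V R o E) r ≤ UM V (centralizer ({z} : Set G)) ∧
    z ∈ zc (S : Subgroup G) ⊓ centralizer (P : Set G) := by
  obtain ⟨⟨z, hz⟩, hz1⟩ := (Subgroup.ne_bot_iff_exists_ne_one).1 hE1
  refine ⟨z, hz, fun e => hz1 (Subtype.ext e), ?_, hE hz⟩
  rw [UU_eq b hr hr1 hE (X_le_ME b)]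
  refine cl_le (le_cl _ _) ?_
  refine le_trans ?_ (le_normalizer_cl V _)
  refine (ME_le_cen b hE).trans (centralizer_le ?_)
  rintro _ rfl
  exact hz

theorem UU_comm {u v : G} (hu : u ∈ UU (ME V R o E) r) (hv : v ∈ UU (ME V R o E) r) : u * v = v * u := by
  obtain ⟨z, -, hz1, h1, h2⟩ := UU_le b hr hr1 hE hE1
  exact (b.dt h2 hz1).U_comm (h1 hu) (h1 hv)

theorem UU_sq {u : G} (hu : u ∈ UU (ME V R o E) r) : u * u = 1 := by
  obtain ⟨z, -, hz1, h1, h2⟩ := UU_le b hr hr1 hE hE1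
  exact (b.dt h2 hz1).U_sq (h1 hu)

theorem UU_le_cenV : UU (ME V R o E) r ≤ centralizer (V : Set G) := by
  obtain ⟨z, -, hz1, h1, h2⟩ := UU_le b hr hr1 hE hE1
  exact h1.trans (b.dt h2 hz1).U_le_cen

theorem UU_pgroup : IsPGroup 2 (UU (ME V R o E) r) := by
  rintro ⟨x, hx⟩
  refine ⟨1, Subtype.ext ?_⟩
  show x ^ 2 ^ 1 = 1
  rw [pow_one, pow_two]
  exact UU_sq b hr hr1 hE hE1 hx

omit hE1 in
theorem M_norm_UU {m u : G} (hm : m ∈ ME V R o E) (hu : u ∈ UU (ME V R o E) r) :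
    m * u * m⁻¹ ∈ UU (ME V R o E) r := by
  rw [UU_eq b hr hr1 hE (X_le_ME b)] at hu ⊢
  exact conj_mem_of_normalizer (le_normalizer_cl V _ hm) hu

omit hE1 hr1 in
theorem E_cen_Q (i : ι) : E ≤ centralizer (QQ (R i) : Set G) := by
  have h1 := (E_cenX b hE).trans (cenX_le_ZQ b.toBTS (Alpha.HT.le_all b) i)
  exact h1.trans inf_le_right

omit hE1 in
/-- `N r ≤ C(Q r)` -/
theorem NF_le : NF r E r ≤ centralizer (QQ (R o) : Set G) := by
  unfold NF
  rw [closure_le]
  rintro _ ⟨g, hg, e, he, rfl⟩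
  have h1 : g ∈ normalizer (R o : Set G) := by
    rw [normalizer_eq b hr, mem_centralizer_singleton_iff]
    exact mul_inv_eq_iff_eq_mul.1 hg
  exact conj_mem_of_normalizer (normalizer_le_normalizer_centralizer _ (le_normalizer_O2 _ h1))
    (E_cen_Q b hr hE o he)

omit hE1 in
theorem ZC_le : centralizer (QQ (R o) : Set G) ≤ QQ (R o) := by
  intro x hx
  have h1 : r ∈ QQ (R o) := b.V_Q o (b.R_le o ((hr r).2 (Or.inr rfl)))
  have h2 : x ∈ centralizer ({r} : Set G) := by
    rw [mem_centralizer_singleton_iff]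
    exact (mem_centralizer_iff.1 hx r h1).symm
  rw [← normalizer_eq b hr] at h2
  exact b.cenQ o (mem_inf.2 ⟨h2, hx⟩)

omit hE1 in
/-- `H₁` normalises `N r` -/
theorem H_norm_NF : normalizer (R o : Set G) ≤ normalizer (NF r E r : Set G) := by
  have _ := hE
  refine HOne.TvHSide.le_normalizer_of fun g hg x hx => ?_
  rw [normalizer_eq b hr, mem_centralizer_singleton_iff] at hg
  have h1 := NF_conj (g := g) hx
  have h2 : g * r * g⁻¹ = r := by rw [hg, mul_inv_cancel_right]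
  rwa [h2] at h1

omit hE1 in
theorem NF_comm {m n : G} (hm : m ∈ NF r E r) (hn : n ∈ NF r E r) : m * n = n * m := by
  have h1 := NF_le b hr hr1 hE hm
  have h2 := ZC_le b hr hr1 hE (NF_le b hr hr1 hE hn)
  exact (mem_centralizer_iff.1 h1 n h2).symm

omit hE1 in
theorem NF_sq {n : G} (hn : n ∈ NF r E r) : n * n = 1 := by
  have key : ∀ n ∈ NF r E r, n ∈ NF r E r ∧ n * n = 1 := by
    intro n hn
    unfold NF at hn
    induction hn using closure_induction with
    | mem x hx =>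
      have h0 : x ∈ NF r E r := subset_closure hx
      obtain ⟨g, hg, e, he, rfl⟩ := hx
      refine ⟨h0, ?_⟩
      have h1 : e * e = 1 := by rw [← pow_two]; exact (ZN.mem_zc.1 (hE he).1).2.2
      calc g * e * g⁻¹ * (g * e * g⁻¹) = g * (e * e) * g⁻¹ := by group
        _ = 1 := by rw [h1]; group
    | one => exact ⟨one_mem _, one_mul 1⟩
    | mul x y _ _ hx hy =>
      refine ⟨mul_mem hx.1 hy.1, ?_⟩
      have h1 := NF_comm b hr hr1 hE hx.1 hy.1
      calc x * y * (x * y) = x * (y * x) * y := by group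
        _ = (x * x) * (y * y) := by rw [← h1]; group
        _ = 1 := by rw [hx.2, hy.2, one_mul]
    | inv x _ hx => exact ⟨inv_mem hx.1, by rw [← mul_inv_rev, hx.2, inv_one]⟩
  exact (key n hn).2

/-- `C_U(N r) ≤ Q r` -/
theorem UN {u : G} (hu : u ∈ UU (ME V R o E) r) (h : ∀ n ∈ NF r E r, u * n = n * u) : u ∈ QQ (R o) := by
  set U := UU (ME V R o E) r with hU
  set C := normalizer (R o : Set G) ⊓ centralizer (NF r E r : Set G) with hC
  have hCM : C ≤ ME V R o E := by
    refine le_trans (inf_le_inf_left _ (centralizer_le ?_)) le_sup_left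
    exact fun e he => NF_base he
  have hUN : U ≤ normalizer (R o : Set G) := (UU_le_cenV b hr hr1 hE hE1).trans (b.cen_le_N o)
  have key : U ⊓ centralizer (NF r E r : Set G) ≤ O2 (normalizer (R o : Set G)) := by
    refine le_O2_of_chain (B := C) (C := C) (inf_le_inf_right _ hUN) le_rfl inf_le_left
      ((UU_pgroup b hr hr1 hE hE1).to_le inf_le_left) ?_ ?_ ?_
    · rintro g hg u ⟨hu, hu'⟩
      exact ⟨M_norm_UU b hr hr1 hE (hCM hg) hu, Hat.cmem hg.2 hu'⟩
    · exact fun g hg x hx => Hat.cmem hg hx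
    · rintro g hg x ⟨hx, hx'⟩
      refine mem_inf.2 ⟨Hat.cmem hg hx, ?_⟩
      exact conj_mem_of_normalizer
        (normalizer_le_normalizer_centralizer _ (H_norm_NF b hr hr1 hE hg)) hx'
  refine key (mem_inf.2 ⟨hu, ?_⟩)
  rw [mem_centralizer_iff]
  exact fun n hn => (h n hn).symm

omit hE1 in
/-- 2-reduced, for every normal subgroup of `H₁` -/
theorem hred (K : Subgroup G) (hK : K ≤ normalizer (R o : Set G))
    (hn : normalizer (R o : Set G) ≤ normalizer (K : Set G))
    (h2 : ∀ x ∈ K, ∃ k : ℕ, x ^ 2 ^ k ∈ centralizer (NF r E r : Set G)) :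
    K ≤ centralizer (NF r E r : Set G) := by
  refine HOne.TvHSide.red_of (S := (S : Subgroup G)) (Z₀ := (E : Set G)) b.S_R S.isPGroup'
    (MinSimple.Basic.not_dvd_relIndex S b.S_R) (fun x hx e he => (ZN.mem_zc.1 (hE he).1).2.1 x hx)
    (H_norm_NF b hr hr1 hE) (fun e he => NF_base he) ?_ K hK hn h2
  unfold NF
  rw [closure_le]
  rintro _ ⟨g, hg, e, he, rfl⟩
  refine subset_closure ⟨g, ?_, e, he, rfl⟩
  rw [normalizer_eq b hr, mem_centralizer_singleton_iff]
  exact mul_inv_eq_iff_eq_mul.1 hg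

omit hE1 in
/-- the subgroup of `H₁` which acts trivially on `N r / R` centralises `N r` -/
theorem red {u : G} (hu : u ∈ normalizer (R o : Set G))
    (h : ∀ n ∈ NF r E r, u * n * u⁻¹ * n⁻¹ = 1 ∨ u * n * u⁻¹ * n⁻¹ = r) :
    ∀ n ∈ NF r E r, u * n = n * u := by
  set N := NF r E r with hN
  set H := normalizer (R o : Set G) with hH
  have hrH : ∀ g ∈ H, g * r = r * g := by
    intro g hg
    rw [hH, normalizer_eq b hr, mem_centralizer_singleton_iff] at hg
    exact hg
  let K : Subgroup G :=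
    { carrier := {x | x ∈ H ∧ ∀ n ∈ N, x * n * x⁻¹ * n⁻¹ ∈ R o}
      one_mem' := ⟨one_mem _, fun n _ => by
        have : (1 : G) * n * 1⁻¹ * n⁻¹ = 1 := by group
        rw [this]; exact one_mem _⟩
      mul_mem' := by
        rintro x y ⟨hx, hx'⟩ ⟨hy, hy'⟩
        refine ⟨mul_mem hx hy, fun n hn => ?_⟩
        have h1 : y * n * y⁻¹ ∈ N := conj_mem_of_normalizer (H_norm_NF b hr hr1 hE hy) hn
        have e : x * y * n * (x * y)⁻¹ * n⁻¹ =
            (x * (y * n * y⁻¹) * x⁻¹ * (y * n * y⁻¹)⁻¹) * (y * n * y⁻¹ * n⁻¹) := by group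
        rw [e]
        exact mul_mem (hx' _ h1) (hy' n hn)
      inv_mem' := by
        rintro x ⟨hx, hx'⟩
        refine ⟨inv_mem hx, fun n hn => ?_⟩
        have h1 : x⁻¹ * n * x⁻¹⁻¹ ∈ N := conj_mem_of_normalizer (H_norm_NF b hr hr1 hE (inv_mem hx)) hn
        rw [inv_inv] at h1
        have e : x⁻¹ * n * x⁻¹⁻¹ * n⁻¹ = (x * (x⁻¹ * n * x) * x⁻¹ * (x⁻¹ * n * x)⁻¹)⁻¹ := by group
        rw [e]
        exact inv_mem (hx' _ h1) }
  have hKH : K ≤ H := fun x hx => hx.1
  have hHK : H ≤ normalizer (K : Set G) := by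
    refine HOne.TvHSide.le_normalizer_of ?_
    rintro g hg x ⟨hx, hx'⟩
    refine ⟨mul_mem (mul_mem hg hx) (inv_mem hg), fun n hn => ?_⟩
    have h1 : g⁻¹ * n * g⁻¹⁻¹ ∈ N := conj_mem_of_normalizer (H_norm_NF b hr hr1 hE (inv_mem hg)) hn
    rw [inv_inv] at h1
    have e : g * x * g⁻¹ * n * (g * x * g⁻¹)⁻¹ * n⁻¹ =
        g * (x * (g⁻¹ * n * g) * x⁻¹ * (g⁻¹ * n * g)⁻¹) * g⁻¹ := by group
    rw [e]
    exact conj_mem_of_normalizer hg (hx' _ h1)
  have hK2 : ∀ x ∈ K, ∃ k : ℕ, x ^ 2 ^ k ∈ centralizer (N : Set G) := by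
    rintro x ⟨hx, hx'⟩
    refine ⟨1, ?_⟩
    rw [mem_centralizer_iff, pow_one, pow_two]
    intro n hn
    set f := x * n * x⁻¹ * n⁻¹ with hf
    have hfR := hx' n hn
    have hff : f * f = 1 := b.V_sq f (b.R_le o hfR)
    have hxf : x * f = f * x := by
      rcases (hr f).1 hfR with h1 | h1
      · rw [h1, one_mul, mul_one]
      · rw [h1]; exact hrH x hx
    have h1 : x * n = f * n * x := by rw [hf]; group
    have h2 : x * x * n = n * (x * x) := by
      calc x * x * n = x * (x * n) := by group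
        _ = (x * f) * n * x := by rw [h1]; group
        _ = f * (x * n) * x := by rw [hxf]; group
        _ = (f * f) * n * (x * x) := by rw [h1]; group
        _ = n * (x * x) := by rw [hff, one_mul]
    exact h2.symm
  have huK : u ∈ K := ⟨hu, fun n hn => by
    rcases h n hn with h1 | h1
    · rw [h1]; exact one_mem _
    · rw [h1]; exact (hr r).2 (Or.inr rfl)⟩
  have h3 := hred b hr hr1 hE K hKH hHK hK2 huK
  exact fun n hn => (mem_centralizer_iff.1 h3 n hn).symm

variable {j : ι} (hj : j ≠ o) {t : G} (ht : ∀ x, x ∈ R j ↔ x = 1 ∨ x = t) (ht1 : t ≠ 1)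

include hj ht ht1

omit hE1 in
theorem gen {T : Subgroup G} (h1 : ∀ m ∈ ME V R o E, m * r = r * m → m ∈ T) (h2 : QQ (R o) ≤ T)
    (h3 : QQ (R j) ≤ T) : ME V R o E ≤ T := by
  refine sup_le ?_ ?_
  · intro m hm
    refine h1 m (mem_sup_left hm) ?_
    have h4 : m ∈ centralizer ({r} : Set G) := by
      rw [← normalizer_eq b hr]; exact hm.1
    rwa [mem_centralizer_singleton_iff] at h4
  · refine iSup_le fun k => ?_
    by_cases hk : k = o
    · rw [hk]; exact (b.W_le_Q o).trans h2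
    by_cases hk' : k = j
    · rw [hk']; exact (b.W_le_Q j).trans h3
    obtain ⟨w, hw, e⟩ := b.trans o hj hk
    have hwT : w ∈ T := h2 (b.W_le_Q o hw)
    rw [← b.cj_WW e, cj_le_iff]
    exact fun x hx => mul_mem (mul_mem hwT (h3 (b.W_le_Q j hx))) (inv_mem hwT)

/-- **from `HT` to (H)** (without `noPar`) -/
theorem tvH0 (hbeta : ∃ u ∈ UU (ME V R o E) r, u ∉ QF r) : TvH0 (ME V R o E) r t QF (NF r E) := by
  have hQr : QF r = QQ (R o) := QF_eq b hr
  have hQt : QF t = QQ (R j) := QF_eq b ht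
  have hrR : r ∈ R o := (hr r).2 (Or.inr rfl)
  have htR : t ∈ R j := (ht t).2 (Or.inr rfl)
  have hLE := Alpha.HT.le_all b
  exact
    { Qc := fun g s x hx => QF_conj hx
      Nc := fun g s x hx => NF_conj hx
      r_sq := b.V_sq r (b.R_le o hrR)
      r_ne := hr1
      t_ne := ht1
      t_ne_r := by
        rintro rfl
        exact ht1 (b.eq_one hj htR hrR)
      Q_le := by rw [hQr]; exact Q_le_ME b hE
      r_mem := by rw [hQr]; exact b.V_Q o (b.R_le o hrR)
      t_mem := by rw [hQr]; exact b.V_Q o (b.R_le j htR)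
      Q_comm := by
        rw [hQr]
        intro x hx y hy
        exact (hr _).1 (ThmA.Q_comm b.toBTS (hLE o) hx hy)
      Q_sq := by
        rw [hQr]
        intro x hx
        exact (hr _).1 (ThmA.Q_sq b.toBTS (hLE o) hx)
      ZC_le := by
        show centralizer (QF r : Set G) ≤ QF r
        rw [hQr]; exact ZC_le b hr hr1 hE
      N_le := by
        show NF r E r ≤ centralizer (QF r : Set G)
        rw [hQr]; exact NF_le b hr hr1 hE
      q12 := by rw [hQr]; exact exists_q b (Ne.symm hj) hrR hr1 htR ht1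
      q21 := by
        rw [hQt]
        obtain ⟨q, hq, e⟩ := exists_q b hj htR ht1 hrR hr1
        exact ⟨q, hq, by rw [e, b.V_comm r (b.R_le o hrR) t (b.R_le j htR)]⟩
      gen := by
        intro T h1 h2 h3
        rw [hQr] at h2
        rw [hQt] at h3
        exact gen b hr hr1 hE hj ht ht1 h1 h2 h3
      Qt_le := by rw [hQt]; exact Qi_le_ME b hE j
      ab := by
        intro m hm
        exact UU_comm b hr hr1 hE hE1 (subset_closure ⟨m, hm, rfl⟩) (subset_closure ⟨1, one_mem _, by group⟩)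
      UN := by
        rw [hQr]
        exact fun u hu h => UN b hr hr1 hE hE1 hu h
      ZQ := by
        intro x hx hxt
        rw [hQt] at hxt
        have hx' : x ∈ centralizer (QQ (R o) : Set G) := by
          have : x ∈ centralizer (QF r : Set G) := hx
          rwa [hQr] at this
        have h1 : x ∈ ZQ R o := ⟨ZC_le b hr hr1 hE hx', hx'⟩
        obtain ⟨a, ha, h2⟩ := ZQ_Q b.toBTS (Ne.symm hj) h1 hxt
        have h3 : a * x ∈ centralizer (QF t : Set G) := by
          rw [hQt]; exact (cenX_le_ZQ b.toBTS hLE j h2).2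
        rcases (hr a).1 ha with rfl | rfl
        · rw [one_mul] at h3; exact Or.inl h3
        · exact Or.inr h3
      red := by
        intro u hu h
        exact red b hr hr1 hE ((UU_le_cenV b hr hr1 hE hE1).trans (b.cen_le_N o) hu) h
      beta := hbeta }

/-- **from `HT` to (H)** -/
theorem tvH (hbeta : ∃ u ∈ UU (ME V R o E) r, u ∉ QF r)
    (hpar : ∀ x y, Adj (ME V R o E) r t r x → Adj (ME V R o E) r t r y → x * y ∈ ZC QF r → y = x ∨ y = r * x) :
    TvH (ME V R o E) r t QF (NF r E) :=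
  { toTvH0 := tvH0 b hr hr1 hE hE1 hj ht ht1 hbeta, noPar := hpar }

/-- **from `HT` to the Sylow part of (H)** -/
theorem tvS : TvS (ME V R o E) (S : Subgroup G) r t (NF r E) := by
  have hrR : r ∈ R o := (hr r).2 (Or.inr rfl)
  have htR : t ∈ R j := (ht t).2 (Or.inr rfl)
  obtain ⟨k, hko, hkj⟩ := b.third o j
  refine
    { S_le := S_le_ME b hE
      S_p := S.isPGroup'
      S_r := fun x hx => by
        have := b.S_R hx
        rwa [normalizer_eq b hr, mem_centralizer_singleton_iff] at this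
      S_t := ?_
      N_S := ?_
      hside := ?_ }
  · intro x hx
    obtain ⟨l, hl⟩ := b.perm x (b.S_V hx) j
    have hlo : l ≠ o := by
      rintro rfl
      exact hj (b.R_index (cj_injective (hl.trans (cj_eq_self_iff.2 (b.S_R hx)).symm)))
    have h1 : x * t * x⁻¹ ∈ R l := by rw [← hl]; exact conj_mem_cj htR
    have h2 : x * t * x⁻¹ ≠ 1 := fun h => ht1 (conj_eq_one_iff.1 h)
    by_cases hlj : l = j
    · left
      rw [hlj] at h1
      exact ((ht _).1 h1).resolve_left h2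
    · right
      have h3 := mul_mem_third b (Ne.symm hj) hlo hlj hrR hr1 htR ht1
      have h4 : r * t ≠ 1 := by
        intro h
        have h5 : r = t⁻¹ := eq_inv_of_mul_eq_one_left h
        exact hr1 (b.eq_one (Ne.symm hj) hrR (h5 ▸ inv_mem htR))
      exact eq_of_card_two (b.card_R l) h3 h4 h1 h2
  · -- `N t ≤ C_{Q_t}(V) ≤ O₂(C(V)) ≤ S`
    obtain ⟨x, hx, e⟩ := b.trans_X_one o j
    have hxt : x * r * x⁻¹ = t := by
      have h1 : x * r * x⁻¹ ∈ R j := by rw [← e]; exact conj_mem_cj hrR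
      exact ((ht _).1 h1).resolve_left (fun h => hr1 (conj_eq_one_iff.1 h))
    have hNt : NF r E t ≤ EE V R j := by
      intro n hn
      have h1 := NF_conj (g := x⁻¹) hn
      have h2 : x⁻¹ * t * x⁻¹⁻¹ = r := by rw [← hxt]; group
      rw [h2] at h1
      have h3 := NF_le b hr hr1 hE h1
      have h4 : x⁻¹ * n * x⁻¹⁻¹ ∈ ZQ R o := ⟨ZC_le b hr hr1 hE h3, h3⟩
      have h5 : n ∈ ZQ R j := by
        rw [← cj_ZQ b.toBT e, mem_cj]
        rwa [inv_inv] at h4
      exact ZQ_le_EE b.toBT j h5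
    refine hNt.trans ?_
    have h6 : EE V R j ≤ O2 (normalizer (V : Set G)) := by
      have hVN : V ≤ normalizer (V : Set G) := le_normalizer
      refine le_O2_of_chain (B := centralizer (V : Set G)) (C := centralizer (V : Set G)) inf_le_right le_rfl
        (centralizer_le_normalizer _) ((O2_isPGroup _).to_le inf_le_left) ?_ ?_ ?_
      · rintro g hg y ⟨hy, hy'⟩
        exact ⟨conj_mem_of_normalizer (cen_le_NQ b.toBT j hg) hy, Hat.cmem hg hy'⟩
      · exact fun g hg y hy => Hat.cmem hg hy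
      · exact fun g hg y hy => conj_mem_of_normalizer (normalizer_le_normalizer_centralizer _ hg) hy
    refine h6.trans ?_
    exact le_of_le_normalizer S (O2_isPGroup _) (b.S_V.trans (le_normalizer_O2 _))
  · rw [← normalizer_eq b hr]
    exact HOne.TvHSide.hside_of b.S_R S.isPGroup' (MinSimple.Basic.not_dvd_relIndex S b.S_R)
      (H_norm_NF b hr hr1 hE) (fun n hn => NF_sq b hr hr1 hE hn)
      (fun m hm n hn => NF_comm b hr hr1 hE hm hn) (hred b hr hr1 hE)

end main

end Cfsg.Agent.Omega.HTwo.EntryTv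

end

section


/-!
# II.0h1, `q = 2`, over a 2-group `S` Sylow in `N(R o)`: from `HTT` to the setting (H) of `HOne.TvDef`

Port of `HTwo/EntryTv` to `HTT`; `LE V R i` (LEMMA E) at all points is a hypothesis. `QF`, `NF`, `ME` are the
definitions of `HTwo/EntryTv`.

* `bts`, `dt` : `BTS V R`, `Dt V R z (C(z))`;
* `tvH0`, `tvH`, `tvS`.
-/

set_option autoImplicit false
set_option linter.unusedSectionVars false

namespace Cfsg.Agent.Omega.HT.EntryTv

open Subgroup Cfsg Cfsg.Agent.ZN Cfsg.Agent.Omega.BTwo Cfsg.Agent.Omega.HT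
open Cfsg.Agent.Omega.HOneTwo (cl cj_le_cl le_cl le_normalizer_cl cl_le eq_of_card_two normalizer_le_cen_of_card UM Dt)
open Cfsg.Agent.Omega.HTwo.Hat Cfsg.Agent.Omega.HTwo.ThmA Cfsg.Agent.Omega.MinPar
open Cfsg.Agent.Omega.HOne.TvDef
open Cfsg.Agent.Omega.HTwo.EntryTv (QF NF ME QF_conj NF_conj NF_base)

universe u

section main

variable {G : Type u} [Group G] [Finite G] {ι : Type*} {S P V : Subgroup G}
  {R : ι → Subgroup G} {o : ι} (b : HTT S P V R o) (hLE : ∀ i, LE V R i)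

include b

theorem bts : BTS V R where
  toBT := b.toBT
  nonloc := fun i T hT _ _ h1 h2 => b.nonloc i T hT (b.P_V.trans h1) h2
  cenQ := b.cenQ

/-- a 2-subgroup of `N(R o)` normalised by `S` lies in `S` -/
theorem le_S_of_norm {U : Subgroup G} (hU : IsPGroup 2 U) (hUN : U ≤ normalizer (R o : Set G))
    (hS : S ≤ normalizer (U : Set G)) : U ≤ S := by
  have h1 : IsPGroup 2 (U ⊔ S : Subgroup G) := IsPGroup.to_sup_of_normal_left' hU b.S_p hS
  have h2 := Nat.le_of_dvd Nat.card_pos (card_dvd_card b.S_R b.S_odd h1 (sup_le hUN b.S_R))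
  have h3 : S = U ⊔ S := eq_of_le_of_card_ge le_sup_right h2
  rw [h3]
  exact le_sup_left

theorem dt {z : G} (hz : z ∈ zc S ⊓ centralizer (P : Set G)) (hz1 : z ≠ 1) :
    Dt V R z (centralizer ({z} : Set G)) where
  M_eq := rfl
  X_M := b.X_le_cen hz
  V_M := b.V_le_zc_o2 (b.isLoc_cen hz.1 hz1) (b.X_le_cen hz)
  z_Q := by
    intro i
    obtain ⟨x, hx, e⟩ := b.trans_X_one o i
    have h1 := b.zc_le_zc_Q hz.1
    have h2 : x * z * x⁻¹ = z := by
      rw [mem_centralizer_iff.1 (b.cz_le hz) x hx, mul_inv_cancel_right]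
    have h3 : cj x (zc (QQ (R o))) = zc (QQ (R i)) := by
      rw [← b.cj_QQ e]
      exact (zc_map (MulAut.conj x).toMonoidHom (MulAut.conj x).injective _).symm
    rw [← h3, ← h2]
    exact conj_mem_cj h1

/-- `N(R i) = C(s)`, `s` the involution of `R i` -/
theorem normalizer_eq {i : ι} {s : G} (hs : ∀ x, x ∈ R i ↔ x = 1 ∨ x = s) :
    normalizer (R i : Set G) = centralizer ({s} : Set G) := by
  apply le_antisymm
  · intro x hx
    rw [mem_centralizer_singleton_iff]
    exact (mem_centralizer_iff.1 (normalizer_le_cen_of_card (b.card_R i) hx) s ((hs s).2 (Or.inr rfl))).symm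
  · intro x hx
    rw [mem_centralizer_singleton_iff] at hx
    refine centralizer_le_normalizer _ ?_
    rw [mem_centralizer_iff]
    intro y hy
    rcases (hs y).1 hy with rfl | rfl
    · rw [one_mul, mul_one]
    · exact hx.symm

theorem QF_eq {i : ι} {s : G} (hs : ∀ x, x ∈ R i ↔ x = 1 ∨ x = s) : QF s = QQ (R i) := by
  unfold QF
  rw [← normalizer_eq b hs]

/-- `r t` is the third involution -/
theorem mul_mem_third {i j k : ι} (hij : i ≠ j) (hki : k ≠ i) (hkj : k ≠ j) {s t : G}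
    (hs : s ∈ R i) (hs1 : s ≠ 1) (ht : t ∈ R j) (ht1 : t ≠ 1) : s * t ∈ R k := by
  obtain ⟨l, hl⟩ := b.R_cov _ (mul_mem (b.R_le i hs) (b.R_le j ht))
  have hli : l ≠ i := by
    rintro rfl
    have h1 : t ∈ R l := by
      have := mul_mem (inv_mem hs) hl
      rwa [inv_mul_cancel_left] at this
    exact ht1 (b.eq_one hij h1 ht)
  have hlj : l ≠ j := by
    rintro rfl
    have h1 : s ∈ R l := by
      have := mul_mem hl (inv_mem ht)
      rwa [mul_inv_cancel_right] at this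
    exact hs1 (b.eq_one hij hs h1)
  rcases b.eq_of_ne (l := l) hij (Ne.symm hki) (Ne.symm hkj) with h | h | h
  · exact absurd h hli
  · exact absurd h hlj
  · rwa [h] at hl

/-- `Q i` moves the involution of `R j` -/
theorem exists_q {i j : ι} (hij : i ≠ j) {s t : G} (hs : s ∈ R i) (hs1 : s ≠ 1) (ht : t ∈ R j) (ht1 : t ≠ 1) :
    ∃ q ∈ QQ (R i), q * t * q⁻¹ = s * t := by
  obtain ⟨k, hki, hkj⟩ := b.third i j
  obtain ⟨w, hw, e⟩ := b.trans i (Ne.symm hij) hki
  refine ⟨w, b.W_le_Q i hw, ?_⟩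
  have h1 : w * t * w⁻¹ ∈ R k := by rw [← e]; exact conj_mem_cj ht
  have h2 := mul_mem_third b hij hki hkj hs hs1 ht ht1
  have h3 : s * t ≠ 1 := by
    intro h
    have h4 : s = t⁻¹ := eq_inv_of_mul_eq_one_left h
    exact hs1 (b.eq_one hij hs (h4 ▸ inv_mem ht))
  exact eq_of_card_two (b.card_R k) h2 h3 h1 (fun h => ht1 (conj_eq_one_iff.1 h))

variable {r : G} (hr : ∀ x, x ∈ R o ↔ x = 1 ∨ x = r) (hr1 : r ≠ 1) {E : Subgroup G}
  (hE : E ≤ zc S ⊓ centralizer (P : Set G)) (hE1 : E ≠ ⊥)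

include hE

theorem E_cenX : E ≤ CenX V R := hE.trans b.cz_le

theorem X_le_cenE : XX V R ≤ centralizer (E : Set G) := by
  have h1 : E ≤ centralizer (XX V R : Set G) := hE.trans b.cz_le
  exact le_centralizer_iff.1 h1

theorem S_le_cenE : S ≤ centralizer (E : Set G) := by
  intro s hs
  rw [mem_centralizer_iff]
  exact fun e he => ((ZN.mem_zc.1 (hE he).1).2.1 s hs).symm

theorem ME_le_cen : ME V R o E ≤ centralizer (E : Set G) := sup_le inf_le_right (X_le_cenE b hE)

theorem S_le_ME : S ≤ ME V R o E :=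
  (le_inf b.S_R (S_le_cenE b hE)).trans le_sup_left

theorem Q_le_ME : QQ (R o) ≤ ME V R o E := b.Q_le_S.trans (S_le_ME b hE)

omit hE in
theorem X_le_ME : XX V R ≤ ME V R o E := by
  have _ := b
  exact le_sup_right

theorem Qi_le_ME (i : ι) : QQ (R i) ≤ ME V R o E := by
  obtain ⟨x, hx, e⟩ := b.trans_X_one o i
  rw [← b.cj_QQ e, cj_le_iff]
  intro q hq
  exact mul_mem (mul_mem (X_le_ME b hx) (Q_le_ME b hE hq)) (inv_mem (X_le_ME b hx))

omit hE in
theorem V_le_X : V ≤ XX V R := by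
  obtain ⟨i⟩ := b.toBT.nonempty
  exact (V_le_WW V (R i)).trans (W_le_X V R i)

include hr in
omit hE in
theorem exists_X {v : G} (hv : v ∈ V) (hv1 : v ≠ 1) : ∃ c ∈ XX V R, c * r * c⁻¹ = v :=
by
  obtain ⟨j, hj⟩ := b.R_cov v hv
  obtain ⟨x, hx, e⟩ := b.trans_X_one o j
  have hr1 : r ≠ 1 := by
    obtain ⟨s, hs1, -, hs⟩ := b.exists_gen o
    rintro rfl
    have := (hr s).1 ((hs s).2 (Or.inr rfl))
    rcases this with h | h
    · exact hs1 h
    · exact hs1 h
  refine ⟨x, hx, ?_⟩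
  have h1 : x * r * x⁻¹ ∈ R j := by rw [← e]; exact conj_mem_cj ((hr r).2 (Or.inr rfl))
  have h2 : x * r * x⁻¹ ≠ 1 := fun h => hr1 (conj_eq_one_iff.1 h)
  exact eq_of_card_two (b.card_R j) hj hv1 h1 h2

include hr hr1 in
/-- `⟨r^M⟩ = ⟨V^M⟩` for `M ≥ X` -/
theorem UU_eq {M : Subgroup G} (hX : XX V R ≤ M) : UU M r = UM V M := by
  apply le_antisymm
  · show closure (Om M r) ≤ UM V M
    rw [closure_le]
    rintro _ ⟨m, hm, rfl⟩
    exact cj_le_cl hm (conj_mem_cj (b.R_le o ((hr r).2 (Or.inr rfl))))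
  · refine cl_le ?_ ?_
    · intro v hv
      by_cases hv1 : v = 1
      · rw [hv1]; exact one_mem _
      obtain ⟨c, hc, rfl⟩ := exists_X b hr hv hv1
      exact subset_closure ⟨c, hX hc, rfl⟩
    · intro m hm
      rw [← cj_eq_self_iff]
      have key : ∀ m ∈ M, cj m (UU M r) ≤ UU M r := by
        intro m hm
        rw [cj_le_iff]
        intro x hx
        change x ∈ closure (Om M r) at hx
        change m * x * m⁻¹ ∈ closure (Om M r)
        induction hx using closure_induction with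
        | mem x hx =>
          obtain ⟨k, hk, rfl⟩ := hx
          exact subset_closure ⟨m * k, mul_mem hm hk, by group⟩
        | one => rw [mul_one, mul_inv_cancel]; exact one_mem _
        | mul x y _ _ hx hy =>
          have : m * (x * y) * m⁻¹ = (m * x * m⁻¹) * (m * y * m⁻¹) := by group
          rw [this]; exact mul_mem hx hy
        | inv x _ hx =>
          have : m * x⁻¹ * m⁻¹ = (m * x * m⁻¹)⁻¹ := by group
          rw [this]; exact inv_mem hx
      apply le_antisymm (key m hm)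
      have h1 := cj_mono (g := m) (key m⁻¹ (inv_mem hm))
      rwa [cj_cj_inv] at h1

include hr hr1 hE1

/-- `U` is abelian, in `Ω₁(Z(O₂(C(e))))` -/
theorem UU_le : ∃ z ∈ E, z ≠ 1 ∧ UU (ME V R o E) r ≤ UM V (centralizer ({z} : Set G)) ∧
    z ∈ zc S ⊓ centralizer (P : Set G) := by
  obtain ⟨⟨z, hz⟩, hz1⟩ := (Subgroup.ne_bot_iff_exists_ne_one).1 hE1
  refine ⟨z, hz, fun e => hz1 (Subtype.ext e), ?_, hE hz⟩
  rw [UU_eq b hr hr1 hE (X_le_ME b)]
  refine cl_le (le_cl _ _) ?_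
  refine le_trans ?_ (le_normalizer_cl V _)
  refine (ME_le_cen b hE).trans (centralizer_le ?_)
  rintro _ rfl
  exact hz

theorem UU_comm {u v : G} (hu : u ∈ UU (ME V R o E) r) (hv : v ∈ UU (ME V R o E) r) : u * v = v * u := by
  obtain ⟨z, -, hz1, h1, h2⟩ := UU_le b hr hr1 hE hE1
  exact (dt b h2 hz1).U_comm (h1 hu) (h1 hv)

theorem UU_sq {u : G} (hu : u ∈ UU (ME V R o E) r) : u * u = 1 := by
  obtain ⟨z, -, hz1, h1, h2⟩ := UU_le b hr hr1 hE hE1
  exact (dt b h2 hz1).U_sq (h1 hu)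

theorem UU_le_cenV : UU (ME V R o E) r ≤ centralizer (V : Set G) := by
  obtain ⟨z, -, hz1, h1, h2⟩ := UU_le b hr hr1 hE hE1
  exact h1.trans (dt b h2 hz1).U_le_cen

theorem UU_pgroup : IsPGroup 2 (UU (ME V R o E) r) := by
  rintro ⟨x, hx⟩
  refine ⟨1, Subtype.ext ?_⟩
  show x ^ 2 ^ 1 = 1
  rw [pow_one, pow_two]
  exact UU_sq b hr hr1 hE hE1 hx

omit hE1 in
theorem M_norm_UU {m u : G} (hm : m ∈ ME V R o E) (hu : u ∈ UU (ME V R o E) r) :
    m * u * m⁻¹ ∈ UU (ME V R o E) r := by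
  rw [UU_eq b hr hr1 hE (X_le_ME b)] at hu ⊢
  exact conj_mem_of_normalizer (le_normalizer_cl V _ hm) hu

omit hE1 hr1 in
include hLE in
theorem E_cen_Q (i : ι) : E ≤ centralizer (QQ (R i) : Set G) := by
  have h1 := (E_cenX b hE).trans (cenX_le_ZQ (bts b) hLE i)
  exact h1.trans inf_le_right

omit hE1 in
include hLE in
/-- `N r ≤ C(Q r)` -/
theorem NF_le : NF r E r ≤ centralizer (QQ (R o) : Set G) := by
  unfold NF
  rw [closure_le]
  rintro _ ⟨g, hg, e, he, rfl⟩
  have h1 : g ∈ normalizer (R o : Set G) := by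
    rw [normalizer_eq b hr, mem_centralizer_singleton_iff]
    exact mul_inv_eq_iff_eq_mul.1 hg
  exact conj_mem_of_normalizer (normalizer_le_normalizer_centralizer _ (le_normalizer_O2 _ h1))
    (E_cen_Q b hLE hr hE o he)

omit hE1 in
theorem ZC_le : centralizer (QQ (R o) : Set G) ≤ QQ (R o) := by
  intro x hx
  have h1 : r ∈ QQ (R o) := b.V_Q o (b.R_le o ((hr r).2 (Or.inr rfl)))
  have h2 : x ∈ centralizer ({r} : Set G) := by
    rw [mem_centralizer_singleton_iff]
    exact (mem_centralizer_iff.1 hx r h1).symm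
  rw [← normalizer_eq b hr] at h2
  exact b.cenQ o (mem_inf.2 ⟨h2, hx⟩)

omit hE1 in
/-- `H₁` normalises `N r` -/
theorem H_norm_NF : normalizer (R o : Set G) ≤ normalizer (NF r E r : Set G) := by
  have _ := hE
  refine HOne.TvHSide.le_normalizer_of fun g hg x hx => ?_
  rw [normalizer_eq b hr, mem_centralizer_singleton_iff] at hg
  have h1 := NF_conj (g := g) hx
  have h2 : g * r * g⁻¹ = r := by rw [hg, mul_inv_cancel_right]
  rwa [h2] at h1

omit hE1 in
include hLE in
theorem NF_comm {m n : G} (hm : m ∈ NF r E r) (hn : n ∈ NF r E r) : m * n = n * m := by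
  have h1 := NF_le b hLE hr hr1 hE hm
  have h2 := ZC_le b hr hr1 hE (NF_le b hLE hr hr1 hE hn)
  exact (mem_centralizer_iff.1 h1 n h2).symm

omit hE1 in
include hLE in
theorem NF_sq {n : G} (hn : n ∈ NF r E r) : n * n = 1 := by
  have key : ∀ n ∈ NF r E r, n ∈ NF r E r ∧ n * n = 1 := by
    intro n hn
    unfold NF at hn
    induction hn using closure_induction with
    | mem x hx =>
      have h0 : x ∈ NF r E r := subset_closure hx
      obtain ⟨g, hg, e, he, rfl⟩ := hx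
      refine ⟨h0, ?_⟩
      have h1 : e * e = 1 := by rw [← pow_two]; exact (ZN.mem_zc.1 (hE he).1).2.2
      calc g * e * g⁻¹ * (g * e * g⁻¹) = g * (e * e) * g⁻¹ := by group
        _ = 1 := by rw [h1]; group
    | one => exact ⟨one_mem _, one_mul 1⟩
    | mul x y _ _ hx hy =>
      refine ⟨mul_mem hx.1 hy.1, ?_⟩
      have h1 := NF_comm b hLE hr hr1 hE hx.1 hy.1
      calc x * y * (x * y) = x * (y * x) * y := by group
        _ = (x * x) * (y * y) := by rw [← h1]; group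
        _ = 1 := by rw [hx.2, hy.2, one_mul]
    | inv x _ hx => exact ⟨inv_mem hx.1, by rw [← mul_inv_rev, hx.2, inv_one]⟩
  exact (key n hn).2

/-- `C_U(N r) ≤ Q r` -/
theorem UN {u : G} (hu : u ∈ UU (ME V R o E) r) (h : ∀ n ∈ NF r E r, u * n = n * u) : u ∈ QQ (R o) := by
  set U := UU (ME V R o E) r with hU
  set C := normalizer (R o : Set G) ⊓ centralizer (NF r E r : Set G) with hC
  have hCM : C ≤ ME V R o E := by
    refine le_trans (inf_le_inf_left _ (centralizer_le ?_)) le_sup_left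
    exact fun e he => NF_base he
  have hUN : U ≤ normalizer (R o : Set G) := (UU_le_cenV b hr hr1 hE hE1).trans (b.cen_le_N o)
  have key : U ⊓ centralizer (NF r E r : Set G) ≤ O2 (normalizer (R o : Set G)) := by
    refine le_O2_of_chain (B := C) (C := C) (inf_le_inf_right _ hUN) le_rfl inf_le_left
      ((UU_pgroup b hr hr1 hE hE1).to_le inf_le_left) ?_ ?_ ?_
    · rintro g hg u ⟨hu, hu'⟩
      exact ⟨M_norm_UU b hr hr1 hE (hCM hg) hu, HTwo.Hat.cmem hg.2 hu'⟩
    · exact fun g hg x hx => HTwo.Hat.cmem hg hx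
    · rintro g hg x ⟨hx, hx'⟩
      refine mem_inf.2 ⟨HTwo.Hat.cmem hg hx, ?_⟩
      exact conj_mem_of_normalizer
        (normalizer_le_normalizer_centralizer _ (H_norm_NF b hr hr1 hE hg)) hx'
  refine key (mem_inf.2 ⟨hu, ?_⟩)
  rw [mem_centralizer_iff]
  exact fun n hn => (h n hn).symm

omit hE1 in
/-- 2-reduced, for every normal subgroup of `H₁` -/
theorem hred (K : Subgroup G) (hK : K ≤ normalizer (R o : Set G))
    (hn : normalizer (R o : Set G) ≤ normalizer (K : Set G))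
    (h2 : ∀ x ∈ K, ∃ k : ℕ, x ^ 2 ^ k ∈ centralizer (NF r E r : Set G)) :
    K ≤ centralizer (NF r E r : Set G) := by
  refine HOne.TvHSide.red_of (S := S) (Z₀ := (E : Set G)) b.S_R b.S_p
    b.S_odd (fun x hx e he => (ZN.mem_zc.1 (hE he).1).2.1 x hx)
    (H_norm_NF b hr hr1 hE) (fun e he => NF_base he) ?_ K hK hn h2
  unfold NF
  rw [closure_le]
  rintro _ ⟨g, hg, e, he, rfl⟩
  refine subset_closure ⟨g, ?_, e, he, rfl⟩
  rw [normalizer_eq b hr, mem_centralizer_singleton_iff]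
  exact mul_inv_eq_iff_eq_mul.1 hg

omit hE1 in
/-- the subgroup of `H₁` which acts trivially on `N r / R` centralises `N r` -/
theorem red {u : G} (hu : u ∈ normalizer (R o : Set G))
    (h : ∀ n ∈ NF r E r, u * n * u⁻¹ * n⁻¹ = 1 ∨ u * n * u⁻¹ * n⁻¹ = r) :
    ∀ n ∈ NF r E r, u * n = n * u := by
  set N := NF r E r with hN
  set H := normalizer (R o : Set G) with hH
  have hrH : ∀ g ∈ H, g * r = r * g := by
    intro g hg
    rw [hH, normalizer_eq b hr, mem_centralizer_singleton_iff] at hg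
    exact hg
  let K : Subgroup G :=
    { carrier := {x | x ∈ H ∧ ∀ n ∈ N, x * n * x⁻¹ * n⁻¹ ∈ R o}
      one_mem' := ⟨one_mem _, fun n _ => by
        have : (1 : G) * n * 1⁻¹ * n⁻¹ = 1 := by group
        rw [this]; exact one_mem _⟩
      mul_mem' := by
        rintro x y ⟨hx, hx'⟩ ⟨hy, hy'⟩
        refine ⟨mul_mem hx hy, fun n hn => ?_⟩
        have h1 : y * n * y⁻¹ ∈ N := conj_mem_of_normalizer (H_norm_NF b hr hr1 hE hy) hn
        have e : x * y * n * (x * y)⁻¹ * n⁻¹ =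
            (x * (y * n * y⁻¹) * x⁻¹ * (y * n * y⁻¹)⁻¹) * (y * n * y⁻¹ * n⁻¹) := by group
        rw [e]
        exact mul_mem (hx' _ h1) (hy' n hn)
      inv_mem' := by
        rintro x ⟨hx, hx'⟩
        refine ⟨inv_mem hx, fun n hn => ?_⟩
        have h1 : x⁻¹ * n * x⁻¹⁻¹ ∈ N := conj_mem_of_normalizer (H_norm_NF b hr hr1 hE (inv_mem hx)) hn
        rw [inv_inv] at h1
        have e : x⁻¹ * n * x⁻¹⁻¹ * n⁻¹ = (x * (x⁻¹ * n * x) * x⁻¹ * (x⁻¹ * n * x)⁻¹)⁻¹ := by group
        rw [e]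
        exact inv_mem (hx' _ h1) }
  have hKH : K ≤ H := fun x hx => hx.1
  have hHK : H ≤ normalizer (K : Set G) := by
    refine HOne.TvHSide.le_normalizer_of ?_
    rintro g hg x ⟨hx, hx'⟩
    refine ⟨mul_mem (mul_mem hg hx) (inv_mem hg), fun n hn => ?_⟩
    have h1 : g⁻¹ * n * g⁻¹⁻¹ ∈ N := conj_mem_of_normalizer (H_norm_NF b hr hr1 hE (inv_mem hg)) hn
    rw [inv_inv] at h1
    have e : g * x * g⁻¹ * n * (g * x * g⁻¹)⁻¹ * n⁻¹ =
        g * (x * (g⁻¹ * n * g) * x⁻¹ * (g⁻¹ * n * g)⁻¹) * g⁻¹ := by group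
    rw [e]
    exact conj_mem_of_normalizer hg (hx' _ h1)
  have hK2 : ∀ x ∈ K, ∃ k : ℕ, x ^ 2 ^ k ∈ centralizer (N : Set G) := by
    rintro x ⟨hx, hx'⟩
    refine ⟨1, ?_⟩
    rw [mem_centralizer_iff, pow_one, pow_two]
    intro n hn
    set f := x * n * x⁻¹ * n⁻¹ with hf
    have hfR := hx' n hn
    have hff : f * f = 1 := b.V_sq f (b.R_le o hfR)
    have hxf : x * f = f * x := by
      rcases (hr f).1 hfR with h1 | h1
      · rw [h1, one_mul, mul_one]
      · rw [h1]; exact hrH x hx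
    have h1 : x * n = f * n * x := by rw [hf]; group
    have h2 : x * x * n = n * (x * x) := by
      calc x * x * n = x * (x * n) := by group
        _ = (x * f) * n * x := by rw [h1]; group
        _ = f * (x * n) * x := by rw [hxf]; group
        _ = (f * f) * n * (x * x) := by rw [h1]; group
        _ = n * (x * x) := by rw [hff, one_mul]
    exact h2.symm
  have huK : u ∈ K := ⟨hu, fun n hn => by
    rcases h n hn with h1 | h1
    · rw [h1]; exact one_mem _
    · rw [h1]; exact (hr r).2 (Or.inr rfl)⟩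
  have h3 := hred b hr hr1 hE K hKH hHK hK2 huK
  exact fun n hn => (mem_centralizer_iff.1 h3 n hn).symm

variable {j : ι} (hj : j ≠ o) {t : G} (ht : ∀ x, x ∈ R j ↔ x = 1 ∨ x = t) (ht1 : t ≠ 1)

include hj ht ht1

omit hE1 in
theorem gen {T : Subgroup G} (h1 : ∀ m ∈ ME V R o E, m * r = r * m → m ∈ T) (h2 : QQ (R o) ≤ T)
    (h3 : QQ (R j) ≤ T) : ME V R o E ≤ T := by
  refine sup_le ?_ ?_
  · intro m hm
    refine h1 m (mem_sup_left hm) ?_
    have h4 : m ∈ centralizer ({r} : Set G) := by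
      rw [← normalizer_eq b hr]; exact hm.1
    rwa [mem_centralizer_singleton_iff] at h4
  · refine iSup_le fun k => ?_
    by_cases hk : k = o
    · rw [hk]; exact (b.W_le_Q o).trans h2
    by_cases hk' : k = j
    · rw [hk']; exact (b.W_le_Q j).trans h3
    obtain ⟨w, hw, e⟩ := b.trans o hj hk
    have hwT : w ∈ T := h2 (b.W_le_Q o hw)
    rw [← b.cj_WW e, cj_le_iff]
    exact fun x hx => mul_mem (mul_mem hwT (h3 (b.W_le_Q j hx))) (inv_mem hwT)

include hLE in
/-- **from `HT` to (H)** (without `noPar`) -/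
theorem tvH0 (hbeta : ∃ u ∈ UU (ME V R o E) r, u ∉ QF r) : TvH0 (ME V R o E) r t QF (NF r E) := by
  have hQr : QF r = QQ (R o) := QF_eq b hr
  have hQt : QF t = QQ (R j) := QF_eq b ht
  have hrR : r ∈ R o := (hr r).2 (Or.inr rfl)
  have htR : t ∈ R j := (ht t).2 (Or.inr rfl)
  exact
    { Qc := fun g s x hx => QF_conj hx
      Nc := fun g s x hx => NF_conj hx
      r_sq := b.V_sq r (b.R_le o hrR)
      r_ne := hr1
      t_ne := ht1
      t_ne_r := by
        rintro rfl
        exact ht1 (b.eq_one hj htR hrR)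
      Q_le := by rw [hQr]; exact Q_le_ME b hE
      r_mem := by rw [hQr]; exact b.V_Q o (b.R_le o hrR)
      t_mem := by rw [hQr]; exact b.V_Q o (b.R_le j htR)
      Q_comm := by
        rw [hQr]
        intro x hx y hy
        exact (hr _).1 (HTwo.ThmA.Q_comm (bts b) (hLE o) hx hy)
      Q_sq := by
        rw [hQr]
        intro x hx
        exact (hr _).1 (HTwo.ThmA.Q_sq (bts b) (hLE o) hx)
      ZC_le := by
        show centralizer (QF r : Set G) ≤ QF r
        rw [hQr]; exact ZC_le b hr hr1 hE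
      N_le := by
        show NF r E r ≤ centralizer (QF r : Set G)
        rw [hQr]; exact NF_le b hLE hr hr1 hE
      q12 := by rw [hQr]; exact exists_q b (Ne.symm hj) hrR hr1 htR ht1
      q21 := by
        rw [hQt]
        obtain ⟨q, hq, e⟩ := exists_q b hj htR ht1 hrR hr1
        exact ⟨q, hq, by rw [e, b.V_comm r (b.R_le o hrR) t (b.R_le j htR)]⟩
      gen := by
        intro T h1 h2 h3
        rw [hQr] at h2
        rw [hQt] at h3
        exact gen b hr hr1 hE hj ht ht1 h1 h2 h3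
      Qt_le := by rw [hQt]; exact Qi_le_ME b hE j
      ab := by
        intro m hm
        exact UU_comm b hr hr1 hE hE1 (subset_closure ⟨m, hm, rfl⟩) (subset_closure ⟨1, one_mem _, by group⟩)
      UN := by
        rw [hQr]
        exact fun u hu h => UN b hr hr1 hE hE1 hu h
      ZQ := by
        intro x hx hxt
        rw [hQt] at hxt
        have hx' : x ∈ centralizer (QQ (R o) : Set G) := by
          have : x ∈ centralizer (QF r : Set G) := hx
          rwa [hQr] at this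
        have h1 : x ∈ ZQ R o := ⟨ZC_le b hr hr1 hE hx', hx'⟩
        obtain ⟨a, ha, h2⟩ := ZQ_Q (bts b) (Ne.symm hj) h1 hxt
        have h3 : a * x ∈ centralizer (QF t : Set G) := by
          rw [hQt]; exact (cenX_le_ZQ (bts b) hLE j h2).2
        rcases (hr a).1 ha with rfl | rfl
        · rw [one_mul] at h3; exact Or.inl h3
        · exact Or.inr h3
      red := by
        intro u hu h
        exact red b hr hr1 hE ((UU_le_cenV b hr hr1 hE hE1).trans (b.cen_le_N o) hu) h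
      beta := hbeta }

include hLE in
/-- **from `HT` to (H)** -/
theorem tvH (hbeta : ∃ u ∈ UU (ME V R o E) r, u ∉ QF r)
    (hpar : ∀ x y, Adj (ME V R o E) r t r x → Adj (ME V R o E) r t r y → x * y ∈ ZC QF r → y = x ∨ y = r * x) :
    TvH (ME V R o E) r t QF (NF r E) :=
  { toTvH0 := tvH0 b hLE hr hr1 hE hE1 hj ht ht1 hbeta, noPar := hpar }

include hLE in
/-- **from `HT` to the Sylow part of (H)** -/
theorem tvS : TvS (ME V R o E) S r t (NF r E) := by
  have hrR : r ∈ R o := (hr r).2 (Or.inr rfl)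
  have htR : t ∈ R j := (ht t).2 (Or.inr rfl)
  obtain ⟨k, hko, hkj⟩ := b.third o j
  refine
    { S_le := S_le_ME b hE
      S_p := b.S_p
      S_r := fun x hx => by
        have := b.S_R hx
        rwa [normalizer_eq b hr, mem_centralizer_singleton_iff] at this
      S_t := ?_
      N_S := ?_
      hside := ?_ }
  · intro x hx
    obtain ⟨l, hl⟩ := b.perm x (b.S_V hx) j
    have hlo : l ≠ o := by
      rintro rfl
      exact hj (b.R_index (cj_injective (hl.trans (cj_eq_self_iff.2 (b.S_R hx)).symm)))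
    have h1 : x * t * x⁻¹ ∈ R l := by rw [← hl]; exact conj_mem_cj htR
    have h2 : x * t * x⁻¹ ≠ 1 := fun h => ht1 (conj_eq_one_iff.1 h)
    by_cases hlj : l = j
    · left
      rw [hlj] at h1
      exact ((ht _).1 h1).resolve_left h2
    · right
      have h3 := mul_mem_third b (Ne.symm hj) hlo hlj hrR hr1 htR ht1
      have h4 : r * t ≠ 1 := by
        intro h
        have h5 : r = t⁻¹ := eq_inv_of_mul_eq_one_left h
        exact hr1 (b.eq_one (Ne.symm hj) hrR (h5 ▸ inv_mem htR))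
      exact eq_of_card_two (b.card_R l) h3 h4 h1 h2
  · -- `N t ≤ C_{Q_t}(V) ≤ O₂(C(V)) ≤ S`
    obtain ⟨x, hx, e⟩ := b.trans_X_one o j
    have hxt : x * r * x⁻¹ = t := by
      have h1 : x * r * x⁻¹ ∈ R j := by rw [← e]; exact conj_mem_cj hrR
      exact ((ht _).1 h1).resolve_left (fun h => hr1 (conj_eq_one_iff.1 h))
    have hNt : NF r E t ≤ EE V R j := by
      intro n hn
      have h1 := NF_conj (g := x⁻¹) hn
      have h2 : x⁻¹ * t * x⁻¹⁻¹ = r := by rw [← hxt]; group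
      rw [h2] at h1
      have h3 := NF_le b hLE hr hr1 hE h1
      have h4 : x⁻¹ * n * x⁻¹⁻¹ ∈ ZQ R o := ⟨ZC_le b hr hr1 hE h3, h3⟩
      have h5 : n ∈ ZQ R j := by
        rw [← cj_ZQ b.toBT e, mem_cj]
        rwa [inv_inv] at h4
      exact ZQ_le_EE b.toBT j h5
    refine hNt.trans ?_
    have h6 : EE V R j ≤ O2 (centralizer (V : Set G)) := by
      refine le_O2_of_chain (B := centralizer (V : Set G)) (C := centralizer (V : Set G)) inf_le_right le_rfl
        le_rfl ((O2_isPGroup _).to_le inf_le_left) ?_ ?_ ?_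
      · rintro g hg y ⟨hy, hy'⟩
        exact ⟨conj_mem_of_normalizer (cen_le_NQ b.toBT j hg) hy, HTwo.Hat.cmem hg hy'⟩
      · exact fun g hg y hy => HTwo.Hat.cmem hg hy
      · exact fun g hg y hy => HTwo.Hat.cmem hg hy
    refine h6.trans ?_
    refine le_S_of_norm b (O2_isPGroup _) ((O2_le _).trans (b.cen_le_N o)) ?_
    intro x hx
    have h7 := normalizer_le_normalizer_centralizer _ (b.S_V hx)
    rw [← cj_eq_self_iff] at h7 ⊢
    rw [cj_O2, h7]
  · rw [← normalizer_eq b hr]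
    exact HOne.TvHSide.hside_of b.S_R b.S_p b.S_odd
      (H_norm_NF b hr hr1 hE) (fun n hn => NF_sq b hLE hr hr1 hE hn)
      (fun m hm n hn => NF_comm b hLE hr hr1 hE hm hn) (hred b hr hr1 hE)

end main

end Cfsg.Agent.Omega.HT.EntryTv

end

section


/-!
# `HTT`: `core` in the form of `EntryTs.tsOf.ho2`
-/

set_option autoImplicit false
set_option linter.unusedSectionVars false

namespace Cfsg.Agent.Omega.HT.Core

open Subgroup Cfsg Cfsg.Agent.ZN Cfsg.Agent.Omega.BTwo
open Cfsg.Agent.Omega.MinPar Cfsg.Agent.Omega.HT.EntryTv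
open Cfsg.Agent.Omega.HOneTwo (cl cj_le_cl le_cl le_normalizer_cl cl_le UM)
open Cfsg.Agent.Omega.HTwo.AlphaFive (mem_C)
open Cfsg.Agent.Omega.HTwo.EntryTv (QF NF ME)
open Cfsg.Agent.Omega.HOne.TvDef

universe u

variable {G : Type u} [Group G] [Finite G] {ι : Type*} {S P V : Subgroup G} {R : ι → Subgroup G} {o : ι}

variable (b : HTT S P V R o)
include b

/-- the core statement for `ME V R o E`, `1 ≠ E ≤ C_Z(P)` (`ho2` of `EntryTs.tsOf`) -/
theorem core_ME (hcard : ∀ Q : Subgroup G, IsPGroup 2 Q → Nat.card Q ≤ 2 * Nat.card S) {r : G}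
    (hr : ∀ x, x ∈ R o ↔ x = 1 ∨ x = r) (hr1 : r ≠ 1) {E : Subgroup G}
    (hE : E ≤ zc S ⊓ centralizer (P : Set G)) (hE1 : E ≠ ⊥)
    (B : Subgroup G) (hB : B ≤ ME V R o E) (hn : ∀ m ∈ ME V R o E, ∀ b ∈ B, m * b * m⁻¹ ∈ B)
    (h2 : ∀ b ∈ B, ∀ u ∈ UU (ME V R o E) r, b * b * u = u * (b * b)) :
    ∀ b ∈ B, ∀ u ∈ UU (ME V R o E) r, b * u = u * b := by
  obtain ⟨⟨z, hz⟩, hz'⟩ := (Subgroup.ne_bot_iff_exists_ne_one).mp hE1
  have hz1 : z ≠ 1 := fun h => hz' (Subtype.ext h)
  have hM : ME V R o E ≤ centralizer ({z} : Set G) := by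
    refine sup_le (inf_le_right.trans (centralizer_le ?_)) (b.X_le_cen (hE hz))
    rw [Set.singleton_subset_iff]
    exact hz
  have e : UU (ME V R o E) r = cl (R o) (ME V R o E) := by
    rw [UU_eq b hr hr1 hE (X_le_ME b), b.cl_R_eq (fun i => b.trans_of_X (X_le_ME b) i)]
  rw [e] at h2 ⊢
  exact core_X b hcard (S_le_ME b hE) (X_le_ME b) (sq_of_le b (hE hz) hz1 hM) B hB hn h2

/-- `ho2` of `EntryTs.tsOf` -/
theorem ho2 (hcard : ∀ Q : Subgroup G, IsPGroup 2 Q → Nat.card Q ≤ 2 * Nat.card S) {r : G}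
    (hr : ∀ x, x ∈ R o ↔ x = 1 ∨ x = r) (hr1 : r ≠ 1) {z : G} (hz : z ∈ zc S ⊓ centralizer (P : Set G)) (hz1 : z ≠ 1)
    (B : Subgroup G) (hB : B ≤ ME V R o (zpowers z))
    (hn : ∀ m ∈ ME V R o (zpowers z), ∀ b ∈ B, m * b * m⁻¹ ∈ B)
    (h2 : ∀ b ∈ B, ∀ u ∈ UU (ME V R o (zpowers z)) r, b * b * u = u * (b * b)) :
    ∀ b ∈ B, ∀ u ∈ UU (ME V R o (zpowers z)) r, b * u = u * b :=
  core_ME b hcard hr hr1 (by rw [zpowers_le]; exact hz) (fun h => hz1 (zpowers_eq_bot.1 h)) B hB hn h2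

end Cfsg.Agent.Omega.HT.Core

end

section


/-!
# II.0h1, `q = 2`: the further input at the junction

* `ME_MZ` : `ME V R o (C_Z(P)) = MZ S V R` (helper202); `ME_z` : `ME V R o ⟨z⟩ = MP V R o z`;
* `beta_of` : `¬ U ≤ Q o` gives `beta`; `beta_z` : `beta` for `E = ⟨z⟩` (helper972's `not_alpha'`);
* `NF_gen` : `NF r ⟨z⟩ r = Trans.gen r z`; `M_z`, `M_r`, `z_ZC`, `o2` : the fields of `Trans.TS.ofTv`;
* `not_dvd` : `S` is a Sylow subgroup of `ME V R o E`.
* `tsOf` : `TS G` from `HT`, `z`, `noPar` and `JEnd` with the constant `z`.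
-/

set_option autoImplicit false
set_option linter.unusedSectionVars false

namespace Cfsg.Agent.Omega.HTwo.EntryTv

open Subgroup Cfsg Cfsg.Agent.ZN Cfsg.Agent.Omega.BTwo Cfsg.Agent.Omega.HOneTwo
open Cfsg.Agent.Omega.HTwo.Hat Cfsg.Agent.Omega.HTwo.ThmA Cfsg.Agent.Omega.MinPar
open Cfsg.Agent.Omega.HOne.TvDef
open Cfsg.Agent.Omega.HTwo.AlphaP (MP not_alpha')

universe u

section basic

variable {G : Type u} [Group G]

theorem NF_gen (r z : G) : NF r (zpowers z) r = Trans.gen r z := by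
  unfold NF Trans.gen
  apply le_antisymm
  · rw [closure_le]
    rintro _ ⟨g, hg, e, he, rfl⟩
    obtain ⟨k, rfl⟩ := mem_zpowers_iff.1 he
    have h1 : g * z ^ k * g⁻¹ = (g * z * g⁻¹) ^ k := by rw [conj_zpow]
    rw [h1]
    have h2 : g * z * g⁻¹ ∈ Subgroup.closure (Trans.Delta r z) :=
      Subgroup.subset_closure ⟨g, mul_inv_eq_iff_eq_mul.1 hg, rfl⟩
    exact Subgroup.zpow_mem _ h2 k
  · rw [closure_le]
    rintro _ ⟨m, hm, rfl⟩
    exact subset_closure ⟨m, mul_inv_eq_iff_eq_mul.2 hm, z, mem_zpowers z, rfl⟩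

theorem cen_zpowers (z : G) : centralizer ((zpowers z : Subgroup G) : Set G) = centralizer ({z} : Set G) := by
  rw [zpowers_eq_closure, centralizer_closure]

/-- `ME V R o ⟨z⟩ = MP V R o z` -/
theorem ME_z {ι : Type*} (V : Subgroup G) (R : ι → Subgroup G) (o : ι) (z : G) :
    ME V R o (zpowers z) = MP V R o z := by
  unfold ME MP
  rw [cen_zpowers]

end basic

section main

variable {G : Type u} [Group G] [Finite G] {ι : Type*} {S : Sylow 2 G} {P V : Subgroup G}
  {R : ι → Subgroup G} {o : ι} (b : HT S P V R o)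

include b

/-- `ME V R o (C_Z(P)) = MZ S V R` -/
theorem ME_MZ : ME V R o (zc (S : Subgroup G) ⊓ centralizer (P : Set G)) = HOne.JunAB.MZ S V R := by
  have h1 : normalizer (R o : Set G) = centralizer (R o : Set G) :=
    le_antisymm (normalizer_le_cen_of_card (b.card_R o)) (centralizer_le_normalizer _)
  unfold ME HOne.JunAB.MZ
  rw [h1]
  congr 1
  conv_rhs => rw [b.zc_eq]
  apply le_antisymm
  · rintro x ⟨hx, hx'⟩
    have h2 : R o ⊔ (zc (S : Subgroup G) ⊓ centralizer (P : Set G)) ≤ centralizer ({x} : Set G) := by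
      refine sup_le ?_ ?_
      · intro y hy
        rw [mem_centralizer_singleton_iff]
        exact mem_centralizer_iff.1 hx y hy
      · intro y hy
        rw [mem_centralizer_singleton_iff]
        exact mem_centralizer_iff.1 hx' y hy
    rw [mem_centralizer_iff]
    intro y hy
    have h3 := h2 hy
    rwa [mem_centralizer_singleton_iff] at h3
  · exact le_inf (centralizer_le (SetLike.coe_subset_coe.2 le_sup_left))
      (centralizer_le (SetLike.coe_subset_coe.2 le_sup_right))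

variable {r : G} (hr : ∀ x, x ∈ R o ↔ x = 1 ∨ x = r) (hr1 : r ≠ 1) {E : Subgroup G}
  (hE : E ≤ zc (S : Subgroup G) ⊓ centralizer (P : Set G)) (hE1 : E ≠ ⊥)

include hr hr1 in
/-- `beta` -/
theorem beta_of {E : Subgroup G} (hE : E ≤ zc (S : Subgroup G) ⊓ centralizer (P : Set G))
    (h : ¬ UM V (ME V R o E) ≤ QQ (R o)) : ∃ u ∈ UU (ME V R o E) r, u ∉ QF r := by
  by_contra hcon
  push Not at hcon
  apply h
  rw [← UU_eq b hr hr1 hE (X_le_ME b), ← QF_eq b hr]
  exact hcon

include hE in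
theorem not_dvd : ¬ 2 ∣ (S : Subgroup G).relIndex (ME V R o E) :=
  MinSimple.Basic.not_dvd_relIndex S (S_le_ME b hE)

include hr hr1 hE hE1 in
/-- `U` is 2-reduced in `M` -/
theorem o2 (B : Subgroup G) (hB : B ≤ ME V R o E) (hn : ∀ m ∈ ME V R o E, ∀ b ∈ B, m * b * m⁻¹ ∈ B)
    (h2 : ∀ b ∈ B, ∀ u ∈ UU (ME V R o E) r, b * b * u = u * (b * b)) :
    ∀ b ∈ B, ∀ u ∈ UU (ME V R o E) r, b * u = u * b := by
  have h1 : B ≤ centralizer (UU (ME V R o E) r : Set G) := by
    refine HOne.TvHSide.red_of (S := (S : Subgroup G)) (H := ME V R o E) (Z₀ := {r}) (S_le_ME b hE) S.isPGroup'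
      (not_dvd b hE) ?_ ?_ ?_ ?_ B hB (HOne.TvHSide.le_normalizer_of hn) ?_
    · rintro x hx _ rfl
      have := b.S_R hx
      rwa [normalizer_eq b hr, mem_centralizer_singleton_iff] at this
    · exact HOne.TvHSide.le_normalizer_of fun m hm u hu => M_norm_UU b hr hr1 hE hm hu
    · rintro _ rfl
      exact subset_closure ⟨1, one_mem _, by group⟩
    · show closure (Om (ME V R o E) r) ≤ _
      rw [closure_le]
      rintro _ ⟨m, hm, rfl⟩
      exact subset_closure ⟨m, hm, r, rfl, rfl⟩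
    · intro x hx
      refine ⟨1, ?_⟩
      rw [mem_centralizer_iff, pow_one, pow_two]
      exact fun u hu => (h2 x hx u hu).symm
  exact fun b hb u hu => (mem_centralizer_iff.1 (h1 hb) u hu).symm

end main

section z

variable {G : Type u} [Group G] [Finite G] {ι : Type*} {S : Sylow 2 G} {P V : Subgroup G}
  {R : ι → Subgroup G} {o : ι} (b : HT S P V R o)
  {r z : G} (hr : ∀ x, x ∈ R o ↔ x = 1 ∨ x = r) (hr1 : r ≠ 1)
  (hz : z ∈ zc (S : Subgroup G) ⊓ centralizer (P : Set G)) (hz1 : z ≠ 1)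

theorem zpowers_le_cz (hz : z ∈ zc (S : Subgroup G) ⊓ centralizer (P : Set G)) :
    zpowers z ≤ zc (S : Subgroup G) ⊓ centralizer (P : Set G) := by
  rwa [zpowers_le]

include b hr hr1 hz hz1 in
/-- `beta` for `E = ⟨z⟩` -/
theorem beta_z : ∃ u ∈ UU (ME V R o (zpowers z)) r, u ∉ QF r := by
  refine beta_of b hr hr1 (zpowers_le_cz hz) ?_
  rw [ME_z]
  exact not_alpha' b hz hz1

include b hz in
/-- `M ≤ C(z)` -/
theorem M_z {m : G} (hm : m ∈ ME V R o (zpowers z)) : m * z = z * m := by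
  have h1 := ME_le_cen b (zpowers_le_cz hz) hm
  exact (mem_centralizer_iff.1 h1 z (mem_zpowers z)).symm

include b hr in
/-- `C(r) ∩ C(z) ≤ M` -/
theorem M_r {g : G} (hg : g * r = r * g) (hgz : g * z = z * g) : g ∈ ME V R o (zpowers z) := by
  refine mem_sup_left ⟨?_, ?_⟩
  · show g ∈ normalizer (R o : Set G)
    rw [normalizer_eq b hr, mem_centralizer_singleton_iff]
    exact hg
  · show g ∈ centralizer ((zpowers z : Subgroup G) : Set G)
    rw [cen_zpowers, mem_centralizer_singleton_iff]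
    exact hgz

include b hr hz in
/-- `z ∈ C_G(Q r) ∩ C_G(Q t)` -/
theorem z_ZC {i : ι} {s : G} (hs : ∀ x, x ∈ R i ↔ x = 1 ∨ x = s) : z ∈ ZC QF s := by
  show z ∈ centralizer (QF s : Set G)
  rw [QF_eq b hs]
  exact E_cen_Q b hr (zpowers_le_cz hz) i (mem_zpowers z)

/-- **`TS G`** from `HT`, `noPar` and `JEnd` with the constant `z` -/
noncomputable def tsOf {j : ι} (hj : j ≠ o) {t : G} (ht : ∀ x, x ∈ R j ↔ x = 1 ∨ x = t) (ht1 : t ≠ 1)
    (b : HT S P V R o) (hr : ∀ x, x ∈ R o ↔ x = 1 ∨ x = r) (hr1 : r ≠ 1)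
    (hz : z ∈ zc (S : Subgroup G) ⊓ centralizer (P : Set G)) (hz1 : z ≠ 1)
    (hpar : ∀ x y, Adj (ME V R o (zpowers z)) r t r x → Adj (ME V R o (zpowers z)) r t r y →
      x * y ∈ ZC QF r → y = x ∨ y = r * x)
    (hE : JEnd (ME V R o (zpowers z)) r QF (NF r (zpowers z)) z) : Trans.TS G :=
  Trans.TS.ofTv (tvH b hr hr1 (zpowers_le_cz hz) (fun h => hz1 (zpowers_eq_bot.1 h)) hj ht ht1
      (beta_z b hr hr1 hz hz1) hpar) hE (NF_gen r z)
    (by rw [← pow_two]; exact (ZN.mem_zc.1 hz.1).2.2) hz1 ⟨z_ZC b hr hz hr, z_ZC b hr hz ht⟩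
    (fun _ hm => M_z b hz hm) (fun _ hg hgz => M_r b hr hg hgz)
    (o2 b hr hr1 (zpowers_le_cz hz) (fun h => hz1 (zpowers_eq_bot.1 h)))

end z

end Cfsg.Agent.Omega.HTwo.EntryTv

end

section


/-!
# II.0h1, `q = 2`, over a 2-group `S` Sylow in `N(R o)`: the further input at the junction

Port of `HTwo/EntryTs` and of the abstract part of `HTwo/TSMain` to `HTT` (`LE V R i` a hypothesis).

* `ME_MZ`, `beta_of`, `M_z`, `M_r`, `z_ZC`;
* `o2` : `O₂(M/C(U)) = 1`, hypothesis: `S` has odd index in `M`;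
* `jend` : `Tv.main` for `M = ME V R o E`; `hA`, `c_eq` : the BS-trick; `tsOf : Trans.TS G`.
-/

set_option autoImplicit false
set_option linter.unusedSectionVars false

namespace Cfsg.Agent.Omega.HT.EntryTs

open Subgroup Cfsg Cfsg.Agent.ZN Cfsg.Agent.Omega.BTwo Cfsg.Agent.Omega.HT Cfsg.Agent.Omega.HT.EntryTv
open Cfsg.Agent.Omega.HOneTwo (cl cj_le_cl le_cl le_normalizer_cl cl_le eq_of_card_two normalizer_le_cen_of_card UM Dt)
open Cfsg.Agent.Omega.HTwo.Hat Cfsg.Agent.Omega.HTwo.ThmA Cfsg.Agent.Omega.MinPar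
open Cfsg.Agent.Omega.HOne.TvDef
open Cfsg.Agent.Omega.HTwo.EntryTv (QF NF ME QF_conj NF_conj NF_base NF_gen cen_zpowers ME_z)
open Cfsg.Agent.Omega.HTwo.AlphaP (MP)

universe u

section main

variable {G : Type u} [Group G] [Finite G] {ι : Type*} {S : Subgroup G} {P V : Subgroup G}
  {R : ι → Subgroup G} {o : ι} (b : HTT S P V R o) (hLE : ∀ i, LE V R i)

include b

/-- `ME V R o (C_Z(P)) = ⟨C(Z), X⟩` -/
theorem ME_MZ : ME V R o (zc S ⊓ centralizer (P : Set G)) = centralizer (zc S : Set G) ⊔ XX V R := by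
  have h1 : normalizer (R o : Set G) = centralizer (R o : Set G) :=
    le_antisymm (normalizer_le_cen_of_card (b.card_R o)) (centralizer_le_normalizer _)
  unfold ME
  rw [h1]
  congr 1
  conv_rhs => rw [b.zc_eq]
  apply le_antisymm
  · rintro x ⟨hx, hx'⟩
    have h2 : R o ⊔ (zc S ⊓ centralizer (P : Set G)) ≤ centralizer ({x} : Set G) := by
      refine sup_le ?_ ?_
      · intro y hy
        rw [mem_centralizer_singleton_iff]
        exact mem_centralizer_iff.1 hx y hy
      · intro y hy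
        rw [mem_centralizer_singleton_iff]
        exact mem_centralizer_iff.1 hx' y hy
    rw [mem_centralizer_iff]
    intro y hy
    have h3 := h2 hy
    rwa [mem_centralizer_singleton_iff] at h3
  · exact le_inf (centralizer_le (SetLike.coe_subset_coe.2 le_sup_left))
      (centralizer_le (SetLike.coe_subset_coe.2 le_sup_right))

variable {r : G} (hr : ∀ x, x ∈ R o ↔ x = 1 ∨ x = r) (hr1 : r ≠ 1) {E : Subgroup G}
  (hE : E ≤ zc S ⊓ centralizer (P : Set G)) (hE1 : E ≠ ⊥)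

include hr hr1 in
/-- `beta` -/
theorem beta_of {E : Subgroup G} (hE : E ≤ zc S ⊓ centralizer (P : Set G))
    (h : ¬ UM V (ME V R o E) ≤ QQ (R o)) : ∃ u ∈ UU (ME V R o E) r, u ∉ QF r := by
  by_contra hcon
  push Not at hcon
  apply h
  rw [← UU_eq b hr hr1 hE (X_le_ME b), ← QF_eq b hr]
  exact hcon

include hr hr1 hE hE1 in
/-- `U` is 2-reduced in `M` -/
theorem o2 (hodd : ¬ 2 ∣ S.relIndex (ME V R o E)) (B : Subgroup G) (hB : B ≤ ME V R o E) (hn : ∀ m ∈ ME V R o E, ∀ b ∈ B, m * b * m⁻¹ ∈ B)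
    (h2 : ∀ b ∈ B, ∀ u ∈ UU (ME V R o E) r, b * b * u = u * (b * b)) :
    ∀ b ∈ B, ∀ u ∈ UU (ME V R o E) r, b * u = u * b := by
  have h1 : B ≤ centralizer (UU (ME V R o E) r : Set G) := by
    refine HOne.TvHSide.red_of (S := S) (H := ME V R o E) (Z₀ := {r}) (S_le_ME b hE) b.S_p
      hodd ?_ ?_ ?_ ?_ B hB (HOne.TvHSide.le_normalizer_of hn) ?_
    · rintro x hx _ rfl
      have := b.S_R hx
      rwa [normalizer_eq b hr, mem_centralizer_singleton_iff] at this
    · exact HOne.TvHSide.le_normalizer_of fun m hm u hu => M_norm_UU b hr hr1 hE hm hu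
    · rintro _ rfl
      exact subset_closure ⟨1, one_mem _, by group⟩
    · show closure (Om (ME V R o E) r) ≤ _
      rw [closure_le]
      rintro _ ⟨m, hm, rfl⟩
      exact subset_closure ⟨m, hm, r, rfl, rfl⟩
    · intro x hx
      refine ⟨1, ?_⟩
      rw [mem_centralizer_iff, pow_one, pow_two]
      exact fun u hu => (h2 x hx u hu).symm
  exact fun b hb u hu => (mem_centralizer_iff.1 (h1 hb) u hu).symm

variable {j : ι} (hj : j ≠ o) {t : G} (ht : ∀ x, x ∈ R j ↔ x = 1 ∨ x = t) (ht1 : t ≠ 1)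

include hr in
theorem QF_le_S : QF r ≤ S := by
  rw [QF_eq b hr]
  exact b.Q_le_S

include hr hr1 hE hE1 hLE hj ht ht1 in
/-- the transvection statement for `M = ME V R o E` -/
theorem jend (hbeta : ∃ u ∈ UU (ME V R o E) r, u ∉ QF r)
    (hpar : ∀ x y, Adj (ME V R o E) r t r x → Adj (ME V R o E) r t r y → x * y ∈ ZC QF r → y = x ∨ y = r * x) :
    ∃ c, JConst (ME V R o E) r t QF (NF r E) c ∧ JEnd (ME V R o E) r QF (NF r E) c := by
  have h := tvH b hLE hr hr1 hE hE1 hj ht ht1 hbeta hpar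
  exact HOne.TvMain.main h (tvS b hLE hr hr1 hE hE1 hj ht ht1) (QF_le_S b hr)

include hr hr1 hE hE1 in
/-- the 2-local subgroups over `M` -/
theorem hA (f : G) (hf1 : f ≠ 1) (hff : f * f = 1) (hfM : ∀ m ∈ ME V R o E, m * f = f * m) :
    ∃ A : Subgroup G, IsPGroup 2 A ∧ UU (ME V R o E) r ≤ A ∧ centralizer ({f} : Set G) ≤ normalizer (A : Set G) := by
  have hff' : f ^ 2 = 1 := by rw [pow_two, hff]
  have hfS : ∀ s ∈ S, s * f = f * s := fun s hs => hfM s (S_le_ME b hE hs)
  have hrV : r ∈ V := b.R_le o ((hr r).2 (Or.inr rfl))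
  have hfmem : f ∈ S := by
    have h1 : zpowers f ≤ S := by
      refine le_S_of_norm b (MinSimple.Basic.isPGroup_zpowers hff') ?_ ?_
      · rw [zpowers_le, normalizer_eq b hr, mem_centralizer_singleton_iff]
        exact (hfS r (b.V_le_S hrV)).symm
      · rw [MinSimple.Basic.normalizer_zpowers_eq hff']
        intro s hs
        rw [mem_centralizer_singleton_iff]
        exact hfS s hs
    exact h1 (mem_zpowers f)
  have hfz : f ∈ zc S ⊓ centralizer (P : Set G) := by
    rw [b.cz_eq]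
    refine mem_inf.2 ⟨mem_zc.2 ⟨hfmem, hfS, hff'⟩, ?_⟩
    rw [mem_centralizer_iff]
    exact fun x hx => hfM x (X_le_ME b hx)
  have d := dt b hfz hf1
  refine ⟨UM V (centralizer ({f} : Set G)), ?_, ?_, le_normalizer_cl V _⟩
  · rintro ⟨x, hx⟩
    refine ⟨1, Subtype.ext ?_⟩
    show x ^ 2 ^ 1 = 1
    rw [pow_one, pow_two]
    exact d.U_sq hx
  · rw [UU_eq b hr hr1 hE (X_le_ME b)]
    refine cl_le (le_cl _ _) ?_
    refine le_trans ?_ (le_normalizer_cl V _)
    intro m hm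
    rw [mem_centralizer_singleton_iff]
    exact hfM m hm

include hr hr1 hE hE1 hLE hj ht ht1 in
/-- **the BS-trick** : `c` is the only involution of `E` -/
theorem c_eq (hbeta : ∃ u ∈ UU (ME V R o E) r, u ∉ QF r)
    (hpar : ∀ x y, Adj (ME V R o E) r t r x → Adj (ME V R o E) r t r y → x * y ∈ ZC QF r → y = x ∨ y = r * x) {c : G}
    (hC : JConst (ME V R o E) r t QF (NF r E) c) (hJ : JEnd (ME V R o E) r QF (NF r E) c) {z : G} (hz : z ∈ E)
    (hz1 : z ≠ 1) : c = z := by
  have h := tvH b hLE hr hr1 hE hE1 hj ht ht1 hbeta hpar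
  refine HOne.JunE.c_eq_z h rfl (NF_base hz) ?_ hz1 ?_ (hA b hr hr1 hE hE1) hC hJ
  · rw [← pow_two]; exact (mem_zc.1 (hE hz).1).2.2
  · exact fun m hm => (mem_centralizer_iff.1 (ME_le_cen b hE hm) z hz).symm

end main

section z

variable {G : Type u} [Group G] [Finite G] {ι : Type*} {S : Subgroup G} {P V : Subgroup G}
  {R : ι → Subgroup G} {o : ι} (b : HTT S P V R o) (hLE : ∀ i, LE V R i)
  {r z : G} (hr : ∀ x, x ∈ R o ↔ x = 1 ∨ x = r) (hr1 : r ≠ 1)
  (hz : z ∈ zc S ⊓ centralizer (P : Set G)) (hz1 : z ≠ 1)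

theorem zpowers_le_cz (hz : z ∈ zc S ⊓ centralizer (P : Set G)) :
    zpowers z ≤ zc S ⊓ centralizer (P : Set G) := by
  rwa [zpowers_le]

include b hr hr1 hz in
/-- `beta` for `E = ⟨z⟩` -/
theorem beta_z (hα : ¬ UM V (MP V R o z) ≤ QQ (R o)) : ∃ u ∈ UU (ME V R o (zpowers z)) r, u ∉ QF r := by
  refine beta_of b hr hr1 (zpowers_le_cz hz) ?_
  rw [ME_z]
  exact hα

include b hz in
/-- `M ≤ C(z)` -/
theorem M_z {m : G} (hm : m ∈ ME V R o (zpowers z)) : m * z = z * m := by
  have h1 := ME_le_cen b (zpowers_le_cz hz) hm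
  exact (mem_centralizer_iff.1 h1 z (mem_zpowers z)).symm

include b hr in
/-- `C(r) ∩ C(z) ≤ M` -/
theorem M_r {g : G} (hg : g * r = r * g) (hgz : g * z = z * g) : g ∈ ME V R o (zpowers z) := by
  refine mem_sup_left ⟨?_, ?_⟩
  · show g ∈ normalizer (R o : Set G)
    rw [normalizer_eq b hr, mem_centralizer_singleton_iff]
    exact hg
  · show g ∈ centralizer ((zpowers z : Subgroup G) : Set G)
    rw [cen_zpowers, mem_centralizer_singleton_iff]
    exact hgz

include b hLE hr hz in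
/-- `z ∈ C_G(Q r) ∩ C_G(Q t)` -/
theorem z_ZC {i : ι} {s : G} (hs : ∀ x, x ∈ R i ↔ x = 1 ∨ x = s) : z ∈ ZC QF s := by
  show z ∈ centralizer (QF s : Set G)
  rw [QF_eq b hs]
  exact E_cen_Q b hLE hr (zpowers_le_cz hz) i (mem_zpowers z)

variable {j : ι} (hj : j ≠ o) {t : G} (ht : ∀ x, x ∈ R j ↔ x = 1 ∨ x = t) (ht1 : t ≠ 1)

include b hLE hr hr1 hz hz1 hj ht ht1 in
/-- **TS(z)** with the constant `z` -/
theorem jend_z (hα : ¬ UM V (MP V R o z) ≤ QQ (R o))
    (hpar : ∀ x y, Adj (ME V R o (zpowers z)) r t r x → Adj (ME V R o (zpowers z)) r t r y →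
      x * y ∈ ZC QF r → y = x ∨ y = r * x) :
    JConst (ME V R o (zpowers z)) r t QF (NF r (zpowers z)) z ∧
      JEnd (ME V R o (zpowers z)) r QF (NF r (zpowers z)) z := by
  have hE := zpowers_le_cz hz
  have hE1 : zpowers z ≠ ⊥ := fun h => hz1 (zpowers_eq_bot.1 h)
  have hbeta := beta_z b hr hr1 hz hα
  obtain ⟨c, hC, hJ⟩ := jend b hLE hr hr1 hE hE1 hj ht ht1 hbeta hpar
  have hc := c_eq b hLE hr hr1 hE hE1 hj ht ht1 hbeta hpar hC hJ (mem_zpowers z) hz1
  rw [hc] at hC hJ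
  exact ⟨hC, hJ⟩

/-- **`TS G`** from `HTT`, `noPar` and `JEnd` with the constant `z`; `ho2` : `O₂(M/C_M(U)) = 1` -/
noncomputable def tsOf {j : ι} (hj : j ≠ o) {t : G} (ht : ∀ x, x ∈ R j ↔ x = 1 ∨ x = t) (ht1 : t ≠ 1)
    (b : HTT S P V R o) (hLE : ∀ i, LE V R i) (hr : ∀ x, x ∈ R o ↔ x = 1 ∨ x = r) (hr1 : r ≠ 1)
    (hz : z ∈ zc S ⊓ centralizer (P : Set G)) (hz1 : z ≠ 1) (hα : ¬ UM V (MP V R o z) ≤ QQ (R o))
    (hpar : ∀ x y, Adj (ME V R o (zpowers z)) r t r x → Adj (ME V R o (zpowers z)) r t r y →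
      x * y ∈ ZC QF r → y = x ∨ y = r * x)
    (ho2 : ∀ B : Subgroup G, B ≤ ME V R o (zpowers z) → (∀ m ∈ ME V R o (zpowers z), ∀ b ∈ B, m * b * m⁻¹ ∈ B) →
      (∀ b ∈ B, ∀ u ∈ UU (ME V R o (zpowers z)) r, b * b * u = u * (b * b)) →
      ∀ b ∈ B, ∀ u ∈ UU (ME V R o (zpowers z)) r, b * u = u * b) : HOneTwo.Trans.TS G :=
  HOneTwo.Trans.TS.ofTv (tvH b hLE hr hr1 (zpowers_le_cz hz) (fun h => hz1 (zpowers_eq_bot.1 h)) hj ht ht1
      (beta_z b hr hr1 hz hα) hpar) (jend_z b hLE hr hr1 hz hz1 hj ht ht1 hα hpar).2 (NF_gen r z)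
    (by rw [← pow_two]; exact (ZN.mem_zc.1 hz.1).2.2) hz1 ⟨z_ZC b hLE hr hz hr, z_ZC b hLE hr hz ht⟩
    (fun _ hm => M_z b hz hm) (fun _ hg hgz => M_r b hr hg hgz) ho2

end z

end Cfsg.Agent.Omega.HT.EntryTs

end

section


/-!
# II.0h1, `q = 2`, over a 2-group `S` Sylow in `N(R o)`: (C) of #17185, the case not (alpha)₀

`E = C_Z(P)`, `Z = Ω₁(Z(S))`, `M₀ = ME V R o E = ⟨C(Z), X⟩`, `S` of odd index in `M₀`.

* `noPar_Z` : no parallels for `M₀` (`TvPar`), from `beta`;
* `eq_zpowers` : not (alpha)₀ implies `E = ⟨z⟩`;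
* `ts_Z` : not (alpha)₀ implies TS(z) with `noPar` for `ME V R o ⟨z⟩`, `z` the involution of `E`;
* `exists_c` : (alpha)₀: the element `c ∈ E` with `r₂ c R o` fixed by `Σ = N_{H}(V Z(Q))`; `noPar_of` : no parallels for
  every `z ∈ E` which is centralised by the elements of `Σ` centralising it only if they centralise `c`
  (`z = c` or `c = 1`);
* `ts_alpha` : (alpha)₀ and `¬ U_z ≤ Q o` imply TS(z) for `z = c`, and for all `z` if `c = 1`;
* `exists_ts` : the conclusion of (C).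
-/

set_option autoImplicit false
set_option linter.unusedSectionVars false

namespace Cfsg.Agent.Omega.HT.JunC

open Subgroup Cfsg Cfsg.Agent.ZN Cfsg.Agent.Omega.BTwo Cfsg.Agent.Omega.HT Cfsg.Agent.Omega.HT.EntryTv
open Cfsg.Agent.Omega.HT.EntryTs
open Cfsg.Agent.Omega.HOneTwo (cl cj_le_cl le_cl le_normalizer_cl cl_le eq_of_card_two normalizer_le_cen_of_card UM Dt)
open Cfsg.Agent.Omega.HTwo.Hat Cfsg.Agent.Omega.HTwo.ThmA Cfsg.Agent.Omega.MinPar
open Cfsg.Agent.Omega.HOne.TvDef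
open Cfsg.Agent.Omega.HTwo.EntryTv (QF NF ME QF_conj NF_conj NF_base NF_gen cen_zpowers ME_z)
open Cfsg.Agent.Omega.HTwo.AlphaP (MP)

universe u

variable {G : Type u} [Group G] [Finite G] {ι : Type*} {S P V : Subgroup G}
  {R : ι → Subgroup G} {o : ι} (b : HTT S P V R o) (hLE : ∀ i, LE V R i)
  {r : G} (hr : ∀ x, x ∈ R o ↔ x = 1 ∨ x = r) (hr1 : r ≠ 1)
  {j : ι} (hj : j ≠ o) {t : G} (ht : ∀ x, x ∈ R j ↔ x = 1 ∨ x = t) (ht1 : t ≠ 1)

include b hr hj ht

/-- an element centralising `Q r` and `Q t` is in `C_X` -/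
theorem mem_cenX {c : G} (h1 : c ∈ ZC QF r) (h2 : c ∈ ZC QF t) : c ∈ CenX V R := by
  have h3 : c ∈ centralizer (QQ (R o) : Set G) := by
    have : c ∈ centralizer (QF r : Set G) := h1
    rwa [QF_eq b hr] at this
  have h4 : c ∈ centralizer (QQ (R j) : Set G) := by
    have : c ∈ centralizer (QF t : Set G) := h2
    rwa [QF_eq b ht] at this
  change c ∈ centralizer (XX V R : Set G)
  rw [b.X_eq (Ne.symm hj), mem_centralizer_iff]
  have h5 : WW V (R o) ⊔ WW V (R j) ≤ centralizer ({c} : Set G) := by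
    refine sup_le ?_ ?_
    · intro x hx
      rw [mem_centralizer_singleton_iff]
      exact mem_centralizer_iff.1 h3 x (b.W_le_Q o hx)
    · intro x hx
      rw [mem_centralizer_singleton_iff]
      exact mem_centralizer_iff.1 h4 x (b.W_le_Q j hx)
  intro x hx
  have := h5 hx
  rwa [mem_centralizer_singleton_iff] at this

include hr1 ht1 hLE

/-- `noPar` for `E = C_Z(P)`, `S` of odd index in `M₀` -/
theorem noPar_Z {E : Subgroup G} (hEe : E = zc S ⊓ centralizer (P : Set G)) (hE1 : E ≠ ⊥)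
    (hodd : ¬ 2 ∣ S.relIndex (ME V R o E)) (hbeta : ∃ u ∈ UU (ME V R o E) r, u ∉ QF r) :
    ∀ x y, Adj (ME V R o E) r t r x → Adj (ME V R o E) r t r y → x * y ∈ ZC QF r → y = x ∨ y = r * x := by
  have h0 := tvH0 b hLE hr hr1 hEe.le hE1 hj ht ht1 hbeta
  have hS := tvS b hLE hr hr1 hEe.le hE1 hj ht ht1
  refine HOne.TvPar.noPar h0 hS.S_le hS.S_r hS.S_t hS.N_S hodd ?_
  intro c _ hcr hct hcS m hm
  have h1 := mem_cenX b hr hj ht hcr hct
  have h2 : c ∈ E := by
    rw [hEe, b.cz_eq]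
    refine mem_inf.2 ⟨?_, h1⟩
    have h3 : c ∈ centralizer (QQ (R o) : Set G) := by
      have : c ∈ centralizer (QF r : Set G) := hcr
      rwa [QF_eq b hr] at this
    have h4 : c ∈ QQ (R o) := by
      refine b.cenQ o (mem_inf.2 ⟨?_, h3⟩)
      exact centralizer_le_normalizer _ (centralizer_le ((b.R_le o).trans (b.V_Q o)) h3)
    refine mem_zc.2 ⟨b.Q_le_S h4, hcS, ?_⟩
    rw [pow_two]
    exact UU_sq b hr hr1 hEe.le hE1 ‹c ∈ UU (ME V R o E) r›
  exact (mem_centralizer_iff.1 (ME_le_cen b hEe.le hm) c h2).symm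

/-- not (alpha)₀ implies `|C_Z(P)| = 2` -/
theorem eq_zpowers {E : Subgroup G} (hEe : E = zc S ⊓ centralizer (P : Set G))
    (hodd : ¬ 2 ∣ S.relIndex (ME V R o E)) (hα : ¬ UM V (ME V R o E) ≤ QQ (R o)) {z : G} (hz : z ∈ E)
    (hz1 : z ≠ 1) : E = zpowers z := by
  have hE1 : E ≠ ⊥ := fun h => hz1 (by rw [h] at hz; exact mem_bot.1 hz)
  have hbeta := beta_of b hr hr1 hEe.le hα
  have hpar := noPar_Z b hLE hr hr1 hj ht ht1 hEe hE1 hodd hbeta
  obtain ⟨c, hC, hJ⟩ := jend b hLE hr hr1 hEe.le hE1 hj ht ht1 hbeta hpar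
  have hc : ∀ y ∈ E, y ≠ 1 → c = y := fun y hy hy1 =>
    c_eq b hLE hr hr1 hEe.le hE1 hj ht ht1 hbeta hpar hC hJ hy hy1
  apply le_antisymm
  · intro y hy
    by_cases hy1 : y = 1
    · rw [hy1]; exact one_mem _
    · rw [← hc y hy hy1, hc z hz hz1]; exact mem_zpowers z
  · rwa [zpowers_le]

/-- TS(z) in the case not (alpha)₀ -/
theorem ts_Z {E : Subgroup G} (hEe : E = zc S ⊓ centralizer (P : Set G))
    (hodd : ¬ 2 ∣ S.relIndex (ME V R o E)) (hα : ¬ UM V (ME V R o E) ≤ QQ (R o)) {z : G} (hz : z ∈ E)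
    (hz1 : z ≠ 1) : E = zpowers z ∧
      (∀ x y, Adj (ME V R o (zpowers z)) r t r x → Adj (ME V R o (zpowers z)) r t r y → x * y ∈ ZC QF r →
        y = x ∨ y = r * x) ∧
      JConst (ME V R o (zpowers z)) r t QF (NF r (zpowers z)) z ∧
      JEnd (ME V R o (zpowers z)) r QF (NF r (zpowers z)) z := by
  have hEz := eq_zpowers b hLE hr hr1 hj ht ht1 hEe hodd hα hz hz1
  have hz' : z ∈ zc S ⊓ centralizer (P : Set G) := hEe ▸ hz
  have hE1 : E ≠ ⊥ := fun h => hz1 (by rw [h] at hz; exact mem_bot.1 hz)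
  have hpar := noPar_Z b hLE hr hr1 hj ht ht1 hEe hE1 hodd (beta_of b hr hr1 hEe.le hα)
  rw [hEz] at hpar hα
  refine ⟨hEz, hpar, ?_⟩
  rw [ME_z] at hα
  exact jend_z b hLE hr hr1 hz' hz1 hj ht ht1 hα hpar

/-! ### (alpha)₀ -/

omit hr1 ht1 hLE ht hj in
/-- no parallels for `M_z` if the elements of `Σ` which centralise `z` normalise `V` -/
theorem noPar_of {z : G} (hz : z ∈ zc S ⊓ centralizer (P : Set G))
    (H : ∀ a ∈ normalizer (R o : Set G), a * z = z * a → (∀ v ∈ V, a * v * a⁻¹ ∈ V ⊔ ZQ R o) →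
      a ∈ normalizer (V : Set G)) (hj : j ≠ o) (ht : ∀ x, x ∈ R j ↔ x = 1 ∨ x = t) (ht1 : t ≠ 1) :
    ∀ x y, Adj (ME V R o (zpowers z)) r t r x → Adj (ME V R o (zpowers z)) r t r y → x * y ∈ ZC QF r →
      y = x ∨ y = r * x := by
  refine JunAB.noPar b hr ?_ H hj ((ht t).2 (Or.inr rfl)) ht1 (QF_eq b hr)
  refine (ME_le_cen b (zpowers_le_cz hz)).trans (centralizer_le ?_)
  rintro _ rfl
  exact mem_zpowers _

omit hr1 in
/-- **(A), (B)** : the element `c` of (alpha)₀ -/
theorem exists_c (hodd : ¬ 2 ∣ S.relIndex (JunAB.MZ S V R)) {z₀ : G}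
    (hz₀ : z₀ ∈ zc S ⊓ centralizer (P : Set G)) (hz₀1 : z₀ ≠ 1) (hα : UM V (JunAB.MZ S V R) ≤ QQ (R o)) :
    ∃ c ∈ zc S ⊓ centralizer (P : Set G),
      (∀ g ∈ normalizer (R o : Set G), (∀ v ∈ V, g * v * g⁻¹ ∈ V ⊔ ZQ R o) →
        (t * c)⁻¹ * g * (t * c) * g⁻¹ ∈ R o) ∧
      (∀ g ∈ normalizer (V : Set G), g ∈ normalizer (R o : Set G) → g * c = c * g) ∧
      ∀ g ∈ normalizer (R o : Set G), g * c = c * g → (∀ v ∈ V, g * v * g⁻¹ ∈ V ⊔ ZQ R o) →
        g ∈ normalizer (V : Set G) := by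
  have hNr := fun g => HT.Two.mem_N_iff b hr (g := g)
  have h2j : t ∈ R j := (ht t).2 (Or.inr rfl)
  have h2V := b.R_le j h2j
  obtain ⟨c, hc, H⟩ := JunAB.exists_avg b hr hj h2j ht1 hLE
  have hVn : ∀ a ∈ normalizer (V : Set G), ∀ v ∈ V, a * v * a⁻¹ ∈ V ⊔ ZQ R o := fun a ha v hv =>
    mem_sup_left (conj_mem_of_normalizer ha hv)
  obtain ⟨a, ha, hac⟩ := JunAB.mem_of_alpha b hr hLE (JunAB.gsys_MZ b hr hz₀ hz₀1 hodd) hz₀ hz₀1 hα hc
    fun g hgV hgR => JunAB.fix_c b hr hj h2j ht1 hc hgV hgR (H g hgR (hVn g hgV))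
  -- `[g, a c] ∈ R o` for `g ∈ N(V) ∩ N(R o)`
  have hfix : ∀ g ∈ normalizer (V : Set G), g ∈ normalizer (R o : Set G) →
      g * (a * c) * g⁻¹ * (a * c)⁻¹ ∈ R o := by
    intro s hsV hsR
    have h3 := JunAB.fix_c b hr hj h2j ht1 hc hsV hsR (H s hsR (hVn s hsV))
    have e : s * (a * c) * s⁻¹ * (a * c)⁻¹ = (s * a * s⁻¹) * (s * c * s⁻¹ * c⁻¹) * a⁻¹ := by group
    rw [e]
    exact mul_mem (mul_mem (conj_mem_of_normalizer hsR ha) h3) (inv_mem ha)
  have hZ := JunAB.mem_zc_of b hr hLE hac (fun s hs => hfix s (b.S_V hs) (b.S_R hs))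
  have hga : ∀ g ∈ normalizer (R o : Set G), g * a = a * g := by
    intro g hg
    rcases (hr a).1 ha with rfl | rfl
    · rw [one_mul, mul_one]
    · exact (hNr g).1 hg
  -- the coset `t a c R o` is fixed
  have H' : ∀ g ∈ normalizer (R o : Set G), (∀ v ∈ V, g * v * g⁻¹ ∈ V ⊔ ZQ R o) →
      (t * (a * c))⁻¹ * g * (t * (a * c)) * g⁻¹ ∈ R o := by
    intro g hg hgV
    have h1 := H g hg hgV
    have h2 := hga g hg
    have h3 : t * a = a * t := b.V_comm t h2V a (b.R_le o ha)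
    have e : (t * (a * c))⁻¹ * g * (t * (a * c)) * g⁻¹ = (t * c)⁻¹ * g * (t * c) * g⁻¹ := by
      calc (t * (a * c))⁻¹ * g * (t * (a * c)) * g⁻¹ = (t * a * c)⁻¹ * g * (t * a * c) * g⁻¹ := by group
        _ = (a * t * c)⁻¹ * g * (a * t * c) * g⁻¹ := by rw [h3]
        _ = (t * c)⁻¹ * a⁻¹ * (g * a) * (t * c) * g⁻¹ := by group
        _ = (t * c)⁻¹ * a⁻¹ * (a * g) * (t * c) * g⁻¹ := by rw [h2]
        _ = _ := by group
    rw [e]
    exact h1
  refine ⟨a * c, hZ, H', ?_, ?_⟩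
  · intro g hgV hgR
    have h1 := hfix g hgV hgR
    -- `g (a c) g⁻¹ (a c)⁻¹ ∈ R o ∩ C_X = 1`
    have hXn : g ∈ normalizer (CenX V R : Set G) := by
      have h2 : g ∈ normalizer (XX V R : Set G) := by
        rw [← cj_eq_self_iff, XX, cj_iSup]
        apply le_antisymm
        · refine iSup_le fun i => ?_
          obtain ⟨l, hl⟩ := b.perm g hgV i
          rw [b.cj_WW hl]
          exact le_iSup (fun i => WW V (R i)) l
        · refine iSup_le fun i => ?_
          obtain ⟨l, hl⟩ := b.perm g⁻¹ (inv_mem hgV) i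
          have h3 : cj g (R l) = R i := by rw [← hl, cj_cj_inv]
          rw [← b.cj_WW h3]
          exact le_iSup (fun i => cj g (WW V (R i))) l
      exact normalizer_le_normalizer_centralizer _ h2
    have h2 : g * (a * c) * g⁻¹ * (a * c)⁻¹ ∈ CenX V R := mul_mem (conj_mem_of_normalizer hXn hac) (inv_mem hac)
    have h3 := b.cen_VX (b.R_le o h1) h2
    exact mul_inv_eq_iff_eq_mul.1 (mul_inv_eq_one.1 h3)
  · intro g hg hgc hgV
    refine BTwo.mem_normalizer_of_conj fun v hv => ?_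
    have h6 := H' g hg hgV
    have e1 : (t * (a * c))⁻¹ * g * (t * (a * c)) * g⁻¹ = (a * c)⁻¹ * (t⁻¹ * g * t * g⁻¹) * (a * c) := by
      have e2 : a * c * g⁻¹ = g⁻¹ * (a * c) := by
        rw [eq_inv_mul_iff_mul_eq, ← mul_assoc, hgc, mul_inv_cancel_right]
      calc (t * (a * c))⁻¹ * g * (t * (a * c)) * g⁻¹ = (a * c)⁻¹ * t⁻¹ * g * t * (a * c * g⁻¹) := by group
        _ = _ := by rw [e2]; group
    rw [e1] at h6
    have hdN : a * c ∈ normalizer (R o : Set G) := b.S_R (zc_le _ hZ.1)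
    have h7 := conj_mem_of_normalizer hdN h6
    have e2 : a * c * ((a * c)⁻¹ * (t⁻¹ * g * t * g⁻¹) * (a * c)) * (a * c)⁻¹ = t⁻¹ * g * t * g⁻¹ := by group
    rw [e2] at h7
    have h8 : g * t * g⁻¹ ∈ V := by
      have e : g * t * g⁻¹ = t * (t⁻¹ * g * t * g⁻¹) := by group
      rw [e]
      exact mul_mem h2V (b.R_le o h7)
    rcases JunAB.mem_V b hr hj h2j ht1 hv with h9 | h9
    · exact b.R_le o (conj_mem_of_normalizer hg h9)
    · have e : g * v * g⁻¹ = (g * t * g⁻¹) * (g * (t⁻¹ * v) * g⁻¹) := by group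
      rw [e]
      exact mul_mem h8 (b.R_le o (conj_mem_of_normalizer hg h9))

/-- **(C)** for a class of good `z`: `Good` contains the element `c` of (alpha)₀ (if `c ≠ 1`) or all of it
(if `c = 1`), and `¬ U_z ≤ Q o` for the good `z` -/
theorem exists_ts (Good : G → Prop) (hodd : ¬ 2 ∣ S.relIndex (JunAB.MZ S V R)) {z₀ : G}
    (hz₀ : z₀ ∈ zc S ⊓ centralizer (P : Set G)) (hz₀1 : z₀ ≠ 1)
    (hg₀ : UM V (JunAB.MZ S V R) ≤ QQ (R o) → Good z₀)
    (hgood : UM V (JunAB.MZ S V R) ≤ QQ (R o) → ∀ c ∈ zc S ⊓ centralizer (P : Set G), c ≠ 1 →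
      (∀ g ∈ normalizer (R o : Set G), (∀ v ∈ V, g * v * g⁻¹ ∈ V ⊔ ZQ R o) →
        (t * c)⁻¹ * g * (t * c) * g⁻¹ ∈ R o) →
      (∀ g ∈ normalizer (V : Set G), g ∈ normalizer (R o : Set G) → g * c = c * g) → Good c)
    (hα : ∀ z ∈ zc S ⊓ centralizer (P : Set G), z ≠ 1 → Good z → ¬ UM V (MP V R o z) ≤ QQ (R o)) :
    ∃ z ∈ zc S ⊓ centralizer (P : Set G), z ≠ 1 ∧
      (Good z ∨ zc S ⊓ centralizer (P : Set G) = zpowers z) ∧
      ¬ UM V (MP V R o z) ≤ QQ (R o) ∧
      (∀ x y, Adj (ME V R o (zpowers z)) r t r x → Adj (ME V R o (zpowers z)) r t r y → x * y ∈ ZC QF r →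
        y = x ∨ y = r * x) ∧
      JConst (ME V R o (zpowers z)) r t QF (NF r (zpowers z)) z ∧
      JEnd (ME V R o (zpowers z)) r QF (NF r (zpowers z)) z := by
  have hMM : ME V R o (zc S ⊓ centralizer (P : Set G)) = JunAB.MZ S V R := ME_MZ b
  by_cases hα0 : UM V (JunAB.MZ S V R) ≤ QQ (R o)
  · obtain ⟨c, hc, H1, H2, H3⟩ := exists_c b hLE hr hj ht ht1 hodd hz₀ hz₀1 hα0
    by_cases hc1 : c = 1
    · have hpar := noPar_of b hr hz₀ (fun g hg _ hgV => H3 g hg (by rw [hc1, mul_one, one_mul]) hgV) hj ht ht1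
      have h1 := hα z₀ hz₀ hz₀1 (hg₀ hα0)
      exact ⟨z₀, hz₀, hz₀1, Or.inl (hg₀ hα0), h1, hpar, jend_z b hLE hr hr1 hz₀ hz₀1 hj ht ht1 h1 hpar⟩
    · have hpar := noPar_of b hr hc H3 hj ht ht1
      have h0 := hgood hα0 c hc hc1 H1 H2
      have h1 := hα c hc hc1 h0
      exact ⟨c, hc, hc1, Or.inl h0, h1, hpar, jend_z b hLE hr hr1 hc hc1 hj ht ht1 h1 hpar⟩
  · have hα1 : ¬ UM V (ME V R o (zc S ⊓ centralizer (P : Set G))) ≤ QQ (R o) := by rw [hMM]; exact hα0
    obtain ⟨h1, h2, h3⟩ := ts_Z b hLE hr hr1 hj ht ht1 rfl (by rw [hMM]; exact hodd) hα1 hz₀ hz₀1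
    refine ⟨z₀, hz₀, hz₀1, Or.inr h1, ?_, h2, h3⟩
    rw [← ME_z, ← h1]
    exact hα1

end Cfsg.Agent.Omega.HT.JunC

end

end
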