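import Cfsg.Agent.Mrg.Omega.BTwo.Split
import Cfsg.Agent.Omega.HTwo.EightLin
import Cfsg.Agent.Lib.ProductSet

-- merged: Cfsg.Agent.Mrg.Omega.HTwo.EightTwo
section

/-!
# #15507 (helper779): elementary consequences of RESULT A
-/

set_option autoImplicit false
set_option Elab.async false

namespace Cfsg.Agent.Omega.HTwo.Eight

open Subgroup Cfsg.Agent.Omega.BTwo

variable {G : Type*} [Group G]

/-! ### conjugation -/

theorem mem_Cp {p g : G} : g ∈ Cp p ↔ g * p = p * g := by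
  rw [mem_centralizer_singleton_iff]

theorem cj_Cp (m p : G) : cj m (Cp p) = Cp (m * p * m⁻¹) := by
  ext x
  rw [mem_cj, mem_Cp, mem_Cp]
  constructor
  · intro h
    calc x * (m * p * m⁻¹) = m * (m⁻¹ * x * m * p) * m⁻¹ := by group
      _ = m * (p * (m⁻¹ * x * m)) * m⁻¹ := by rw [h]
      _ = m * p * m⁻¹ * x := by group
  · intro h
    calc m⁻¹ * x * m * p = m⁻¹ * (x * (m * p * m⁻¹)) * m := by group
      _ = m⁻¹ * (m * p * m⁻¹ * x) * m := by rw [h]
      _ = p * (m⁻¹ * x * m) := by group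

theorem cj_Qp (m p : G) : cj m (Qp p) = Qp (m * p * m⁻¹) := by
  rw [Qp, cj_O2, cj_Cp]; rfl

theorem cj_Zp (m p : G) : cj m (Zp p) = Zp (m * p * m⁻¹) := by
  rw [Zp, cj_inf, ← centralizer_cj, cj_Qp]; rfl

theorem cj_Np {z m : G} (hm : m ∈ Cp z) (p : G) : cj m (Np z p) = Np z (m * p * m⁻¹) := by
  have hz : m * z = z * m := mem_Cp.1 hm
  have key : ∀ m : G, m * z = z * m → ∀ p, cj m (Np z p) ≤ Np z (m * p * m⁻¹) := by
    intro m hz p
    rw [cj, Np, MonoidHom.map_closure, closure_le]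
    rintro _ ⟨_, ⟨h, hh, rfl⟩, rfl⟩
    refine subset_closure ⟨m * h * m⁻¹, ?_, ?_⟩
    · rw [← cj_Cp]; exact conj_mem_cj hh
    · change m * (h * z * h⁻¹) * m⁻¹ = m * h * m⁻¹ * z * (m * h * m⁻¹)⁻¹
      have e : m⁻¹ * z * m = z := by rw [mul_assoc, ← hz, inv_mul_cancel_left]
      calc m * (h * z * h⁻¹) * m⁻¹ = m * h * z * h⁻¹ * m⁻¹ := by group
        _ = m * h * (m⁻¹ * z * m) * h⁻¹ * m⁻¹ := by rw [e]
        _ = m * h * m⁻¹ * z * (m * h * m⁻¹)⁻¹ := by group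
  refine le_antisymm (key m hz p) ?_
  have hz' : m⁻¹ * z = z * m⁻¹ := by
    rw [inv_mul_eq_iff_eq_mul, ← mul_assoc, hz, mul_inv_cancel_right]
  have h1 := key m⁻¹ hz' (m * p * m⁻¹)
  have e : m⁻¹ * (m * p * m⁻¹) * m⁻¹⁻¹ = p := by group
  rw [e] at h1
  have h2 := cj_mono (g := m) h1
  rwa [cj_cj_inv] at h2

theorem N_normal {z p h n : G} (hh : h ∈ Cp p) (hn : n ∈ Np z p) : h * n * h⁻¹ ∈ Np z p := by
  have h1 : Np z p ≤ cj h⁻¹ (Np z p) := by
    rw [Np, closure_le]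
    rintro _ ⟨k, hk, rfl⟩
    change k * z * k⁻¹ ∈ cj h⁻¹ (closure _)
    rw [mem_cj, inv_inv]
    refine subset_closure ⟨h * k, mul_mem hh hk, ?_⟩
    group
  have h2 := h1 hn
  rwa [mem_cj, inv_inv] at h2

theorem Q_normal {p h x : G} (hh : h ∈ Cp p) (hx : x ∈ Qp p) : h * x * h⁻¹ ∈ Qp p :=
  conj_mem_of_normalizer (le_normalizer_O2 _ hh) hx

theorem Q_le (p : G) : Qp p ≤ Cp p := O2_le _

theorem z_N (z p : G) : z ∈ Np z p := subset_closure ⟨1, one_mem _, by group⟩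

theorem Z_normal {p h x : G} (hh : h ∈ Cp p) (hx : x ∈ Zp p) : h * x * h⁻¹ ∈ Zp p := by
  refine ⟨Q_normal hh hx.1, ?_⟩
  exact conj_mem_of_normalizer
    (normalizer_le_normalizer_centralizer _ (le_normalizer_O2 (Cp p) hh)) hx.2

theorem Z_comm {p n x : G} (hn : n ∈ Zp p) (hx : x ∈ Qp p) : n * x = x * n :=
  ((mem_centralizer_iff.1 hn.2) x hx).symm

/-- `g^c` -/
def pw (g : G) (c : ZMod 2) : G := if c = 0 then 1 else g

theorem pw_zero (g : G) : pw g 0 = 1 := if_pos rfl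

theorem pw_one (g : G) : pw g 1 = g := if_neg (by decide)

theorem pw_add {g : G} (hg : g * g = 1) (a b : ZMod 2) : pw g (a + b) = pw g a * pw g b := by
  rcases z2 a with rfl | rfl
  · rw [zero_add, pw_zero, one_mul]
  · rcases z2 b with rfl | rfl
    · rw [add_zero, pw_zero, mul_one]
    · have e : (1 : ZMod 2) + 1 = 0 := by decide
      rw [e, pw_zero, pw_one, hg]

theorem pw_sq {g : G} (hg : g * g = 1) (a : ZMod 2) : pw g a * pw g a = 1 := by
  rw [← pw_add hg]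
  have e : a + a = 0 := by revert a; decide
  rw [e, pw_zero]

theorem pw_inj {g : G} (hg : g ≠ 1) {a b : ZMod 2} (h : pw g a = pw g b) : a = b := by
  rcases z2 a with rfl | rfl <;> rcases z2 b with rfl | rfl
  · rfl
  · rw [pw_zero, pw_one] at h; exact absurd h.symm hg
  · rw [pw_zero, pw_one] at h; exact absurd h hg
  · rfl

theorem pw_mem {H : Subgroup G} {g : G} (hg : g ∈ H) (a : ZMod 2) : pw g a ∈ H := by
  rcases z2 a with rfl | rfl
  · rw [pw_zero]; exact one_mem _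
  · rw [pw_one]; exact hg

theorem conj_pw (x g : G) (a : ZMod 2) : x * pw g a * x⁻¹ = pw (x * g * x⁻¹) a := by
  rcases z2 a with rfl | rfl
  · rw [pw_zero, pw_zero, mul_one, mul_inv_cancel]
  · rw [pw_one, pw_one]

namespace Res

variable {z : G} {M U : Subgroup G} {Δ : Set G} {f : G → G → ZMod 2} {t : G → G} (A : Res z M U Δ f t)
include A

theorem one_f {u : G} (hu : u ∈ U) : f 1 u = 0 := by
  have h := A.f_add 1 (one_mem _) 1 (one_mem _) u hu
  rw [mul_one] at h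
  exact left_eq_add.1 h

theorem f_one {u : G} (hu : u ∈ U) : f u 1 = 0 := by
  rw [A.f_symm u hu 1 (one_mem _), A.one_f hu]

theorem f_add' {u v w : G} (hu : u ∈ U) (hv : v ∈ U) (hw : w ∈ U) : f u (v * w) = f u v + f u w := by
  rw [A.f_symm u hu _ (mul_mem hv hw), A.f_add v hv w hw u hu, A.f_symm v hv u hu, A.f_symm w hw u hu]

theorem f_z' {u : G} (hu : u ∈ U) : f u z = 0 := by
  rw [A.f_symm u hu z A.z_U, A.f_z u hu]

theorem inv_eq {u : G} (hu : u ∈ U) : u⁻¹ = u := inv_eq_of_mul_eq_one_left (A.U_sq u hu)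

theorem U_le_M : U ≤ M := A.U_le.trans (O2_le M)

theorem U_cen {p : G} (hp : p ∈ Δ) : U ≤ Cp p := fun u hu => mem_Cp.2 (A.U_comm u hu p (A.Δ_U p hp))

theorem pz_U {p : G} (hp : p ∈ Δ) : p * z ∈ U := mul_mem (A.Δ_U p hp) A.z_U

theorem pz_sq {p : G} (hp : p ∈ Δ) : p * z * (p * z) = 1 := A.U_sq _ (A.pz_U hp)

theorem p_ne_one {p : G} (hp : p ∈ Δ) : p ≠ 1 := fun h => A.Δ_1 (h ▸ hp)

theorem p_ne_z {p : G} (hp : p ∈ Δ) : p ≠ z := fun h => A.Δ_z (h ▸ hp)

theorem pz_ne_one {p : G} (hp : p ∈ Δ) : p * z ≠ 1 := fun h => by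
  apply A.p_ne_z hp
  rw [mul_eq_one_iff_eq_inv] at h
  rw [h, inv_eq_of_mul_eq_one_left A.zz]

theorem mz {m : G} (hm : m ∈ M) : m * z = z * m := mem_Cp.1 (A.M_z hm)

theorem conj_z {m : G} (hm : m ∈ M) : m * z * m⁻¹ = z := by rw [A.mz hm, mul_inv_cancel_right]

theorem N_le_C {p : G} (hp : p ∈ Δ) : Np z p ≤ Cp p := (A.N_Z p hp).trans (inf_le_left.trans (Q_le p))

theorem N_comm {p : G} (hp : p ∈ Δ) {n m : G} (hn : n ∈ Np z p) (hm : m ∈ Np z p) : n * m = m * n :=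
  Z_comm (A.N_Z p hp hn) (A.N_Z p hp hm).1

theorem Q_comm_z {p : G} (hp : p ∈ Δ) {x : G} (hx : x ∈ Qp p) : x * z = z * x :=
  (Z_comm (A.N_Z p hp (z_N z p)) hx).symm

theorem Q_M {p : G} (hp : p ∈ Δ) : Qp p ≤ M := fun x hx =>
  A.M_p p hp ⟨Q_le p hx, mem_Cp.2 (A.Q_comm_z hp hx)⟩

theorem N_le_Q {p : G} (hp : p ∈ Δ) : Np z p ≤ Qp p := (A.N_Z p hp).trans inf_le_left

theorem N_M {p : G} (hp : p ∈ Δ) : Np z p ≤ M := (A.N_le_Q hp).trans (A.Q_M hp)

theorem N_inv {p : G} (hp : p ∈ Δ) {n : G} (hn : n ∈ Np z p) : n⁻¹ = n :=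
  inv_eq_of_mul_eq_one_left (A.N_sq p hp n hn)

theorem t_N {p : G} (hp : p ∈ Δ) : t p ∈ Np z p := by
  obtain ⟨h, hh, e⟩ := A.t_ZZ p hp
  exact subset_closure ⟨h, hh, e⟩

theorem t_M {p : G} (hp : p ∈ Δ) : t p ∈ M := A.N_M hp (A.t_N hp)

theorem t_inv {p : G} (hp : p ∈ Δ) : (t p)⁻¹ = t p := A.N_inv hp (A.t_N hp)

/-- the action of `t p` -/
theorem t_act {p : G} (hp : p ∈ Δ) {u : G} (hu : u ∈ U) : t p * u * (t p)⁻¹ = u * pw (p * z) (f p u) := by
  rcases z2 (f p u) with h | h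
  · rw [h, pw_zero, mul_one, A.t_0 p hp u hu h, mul_inv_cancel_right]
  · rw [h, pw_one, A.t_1 p hp u hu h]

/-- `u^{t_p}` on `u ∈ U`, the other way round -/
theorem u_act {p : G} (hp : p ∈ Δ) {u : G} (hu : u ∈ U) : u * t p * u⁻¹ = t p * pw (p * z) (f p u) := by
  have h1 := A.t_act hp hu
  have h2 : (t p)⁻¹ * u * t p = u * pw (p * z) (f p u) := by
    rw [A.t_inv hp] at h1 ⊢
    exact h1
  calc u * t p * u⁻¹ = t p * ((t p)⁻¹ * u * t p) * u⁻¹ := by group
    _ = t p * (u * pw (p * z) (f p u)) * u⁻¹ := by rw [h2]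
    _ = t p * (pw (p * z) (f p u) * u) * u⁻¹ := by rw [A.U_comm u hu _ (pw_mem (A.pz_U hp) _)]
    _ = t p * pw (p * z) (f p u) := by group

/-- `p ∉ Rad f` -/
theorem exists_f1 {p : G} (hp : p ∈ Δ) : ∃ u ∈ U, f p u = 1 := by
  by_contra hcon
  push Not at hcon
  have h1 : ∀ v ∈ U, f p v = 0 := fun v hv => (z2 (f p v)).resolve_right (hcon v hv)
  rcases A.f_rad p (A.Δ_U p hp) h1 with h | h
  · exact A.p_ne_one hp h
  · exact A.p_ne_z hp h

/-- `p ∉ Rad f` -/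
theorem exists_q1 {p : G} (hp : p ∈ Δ) : ∃ q ∈ Δ, f p q = 1 := by
  obtain ⟨u, hu, h1⟩ := A.exists_f1 hp
  have hpU := A.Δ_U p hp
  rcases A.cover u hu with rfl | rfl | h | h
  · rw [A.f_one hpU] at h1; exact absurd h1 (by decide)
  · rw [A.f_z' hpU] at h1; exact absurd h1 (by decide)
  · exact ⟨u, h, h1⟩
  · exact ⟨u * z, h, by rw [A.f_add' hpU hu A.z_U, A.f_z' hpU, add_zero, h1]⟩

theorem p_N {p : G} (hp : p ∈ Δ) : p ∈ Np z p := by
  obtain ⟨u, hu, h1⟩ := A.exists_f1 hp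
  have h2 := A.u_act hp hu
  rw [h1, pw_one] at h2
  have h3 : p * z = (t p)⁻¹ * (u * t p * u⁻¹) := by rw [h2]; group
  have h4 : p * z ∈ Np z p := by
    rw [h3]
    exact mul_mem (inv_mem (A.t_N hp)) (N_normal (A.U_cen hp hu) (A.t_N hp))
  have h5 := mul_mem h4 (z_N z p)
  rwa [mul_assoc, A.zz, mul_one] at h5

theorem CN_le {p : G} (hp : p ∈ Δ) : Kp z p ≤ Cp p := fun g hg =>
  mem_Cp.2 ((mem_centralizer_iff.1 hg) p (A.p_N hp)).symm

theorem CN_le_M {p : G} (hp : p ∈ Δ) : Kp z p ≤ M := fun g hg =>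
  A.M_p p hp ⟨A.CN_le hp hg, mem_Cp.2 ((mem_centralizer_iff.1 hg) z (z_N z p)).symm⟩

theorem K_normal {p h k : G} (hh : h ∈ Cp p) (hk : k ∈ Kp z p) : h * k * h⁻¹ ∈ Kp z p := by
  have _ := A
  rw [mem_centralizer_iff] at hk ⊢
  intro n hn
  have h1 := hk (h⁻¹ * n * h) (by
    have := N_normal (z := z) (inv_mem hh) hn
    rwa [inv_inv] at this)
  calc n * (h * k * h⁻¹) = h * (h⁻¹ * n * h * k) * h⁻¹ := by group
    _ = h * (k * (h⁻¹ * n * h)) * h⁻¹ := by rw [h1]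
    _ = h * k * h⁻¹ * n := by group

/-- a normal 2-subgroup of `K_p` is in `Q_p` -/
theorem le_Q_of_K {p : G} (hp : p ∈ Δ) {B : Subgroup G} (hB : B ≤ Kp z p) (h2 : IsPGroup 2 B)
    (hn : ∀ k ∈ Kp z p, ∀ b ∈ B, k * b * k⁻¹ ∈ B) : B ≤ Qp p :=
  le_O2_of_chain hB (A.CN_le hp) le_rfl h2 hn (fun _ hc _ hb => A.K_normal hc hb)
    (fun _ hg _ hc => mul_mem (mul_mem hg hc) (inv_mem hg))

/-- elements of `O_M` centralising `N_p` are in `Q_p` -/
theorem O_inf_K {p : G} (hp : p ∈ Δ) {x : G} (hx : x ∈ O2 M) (hk : x ∈ Kp z p) : x ∈ Qp p := by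
  have h1 : O2 M ⊓ Kp z p ≤ Qp p := by
    refine A.le_Q_of_K hp inf_le_right ((O2_isPGroup M).to_le inf_le_left) ?_
    rintro k hk b ⟨hb1, hb2⟩
    exact ⟨conj_mem_of_normalizer (le_normalizer_O2 M (A.CN_le_M hp hk)) hb1,
      (Kp z p).mul_mem ((Kp z p).mul_mem hk hb2) ((Kp z p).inv_mem hk)⟩
  exact h1 ⟨hx, hk⟩

/-- an element of `N_p` centralises `U` or acts like `t_p` -/
theorem act_or {p : G} (hp : p ∈ Δ) {n : G} (hn : n ∈ Np z p) :
    (∀ u ∈ U, n * u = u * n) ∨ ∀ u ∈ U, n * u * n⁻¹ = u * pw (p * z) (f p u) := by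
  by_cases h0 : ∀ u ∈ U, n * u = u * n
  · exact Or.inl h0
  refine Or.inr ?_
  push Not at h0
  obtain ⟨v, hv, hne⟩ := h0
  -- elements with `f p u = 0`
  have h00 : ∀ u ∈ U, f p u = 0 → n * u * n⁻¹ = u := by
    intro u hu h
    rw [Z_comm (A.N_Z p hp hn) ((A.Q_f p hp u hu).2 h), mul_inv_cancel_right]
  have hv1 : f p v = 1 := by
    refine (z2 _).resolve_left fun h => hne ?_
    have := h00 v hv h
    rwa [mul_inv_eq_iff_eq_mul] at this
  have hnv : n * v * n⁻¹ = v * (p * z) := by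
    refine (A.N_act p hp n hn v hv).resolve_left fun h => hne ?_
    rwa [mul_inv_eq_iff_eq_mul] at h
  intro u hu
  rcases z2 (f p u) with h | h
  · rw [h, pw_zero, mul_one, h00 u hu h]
  · rw [h, pw_one]
    have h1 : f p (u * v) = 0 := by
      rw [A.f_add' (A.Δ_U p hp) hu hv, h, hv1]; decide
    have h2 := h00 _ (mul_mem hu hv) h1
    have h3 : n * u * n⁻¹ * (n * v * n⁻¹) = u * v := by rw [← h2]; group
    rw [hnv] at h3
    have h4 : n * u * n⁻¹ = u * v * (v * (p * z))⁻¹ := by rw [← h3]; group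
    rw [h4, mul_inv_rev, A.inv_eq hv, A.inv_eq (A.pz_U hp), A.U_comm _ (A.pz_U hp) v hv]
    calc u * v * (v * (p * z)) = u * (v * v) * (p * z) := by group
      _ = u * (p * z) := by rw [A.U_sq v hv, mul_one]

end Res

end Cfsg.Agent.Omega.HTwo.Eight

end

-- merged: Cfsg.Agent.Mrg.Omega.HTwo.EightOne
section

/-!
# #15507 (helper779) (6)(i), and #16429 (14): elements of `O_M` acting on every `N_p` as `1` or as `u_z`

* `Good z M U Δ t x` : `x ∈ O_M` centralises `N_p ∩ C(U)` and `[x, t_p] ∈ ⟨p z⟩` for all `p ∈ Δ`;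
* `Res.good` : then `x w ∈ ⋂ ζ_q` for some `w ∈ U`.
-/

set_option autoImplicit false
set_option Elab.async false

namespace Cfsg.Agent.Omega.HTwo.Eight

open Subgroup Cfsg.Agent.Omega.BTwo

variable {G : Type*} [Group G]

/-- `x ∈ O_M` acts on every `N_p` as `1` or as `u_z` -/
structure Good (z : G) (M U : Subgroup G) (Δ : Set G) (t : G → G) (x : G) : Prop where
  O : x ∈ O2 M
  cen : ∀ p ∈ Δ, ∀ n ∈ Np z p, (∀ u ∈ U, n * u = u * n) → x * n = n * x
  mv : ∀ p ∈ Δ, x * t p * x⁻¹ = t p ∨ x * t p * x⁻¹ = t p * (p * z)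

open Classical in
/-- `ψ_x(p)` -/
noncomputable def ps (t : G → G) (x p : G) : ZMod 2 := if x * t p * x⁻¹ = t p then 0 else 1

open Classical in
/-- the extension of `ψ_x` to `U` -/
noncomputable def Ps (z : G) (Δ : Set G) (t : G → G) (x u : G) : ZMod 2 :=
  if u ∈ Δ then ps t x u else if u * z ∈ Δ then ps t x (u * z) else 0

namespace Res

variable {z : G} {M U : Subgroup G} {Δ : Set G} {f : G → G → ZMod 2} {t : G → G} (A : Res z M U Δ f t)
include A

theorem xU {x u : G} (hx : x ∈ O2 M) (hu : u ∈ U) : x * u = u * x := A.U_O x hx u hu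

theorem good_t {x : G} (hx : Good z M U Δ t x) {p : G} (hp : p ∈ Δ) :
    x * t p * x⁻¹ = t p * pw (p * z) (ps t x p) := by
  by_cases h : x * t p * x⁻¹ = t p
  · rw [ps, if_pos h, pw_zero, mul_one, h]
  · rw [ps, if_neg h, pw_one]
    exact (hx.mv p hp).resolve_left h

/-- `ψ_x(p)` is determined by any element of `N_p` moving `U` -/
theorem good_n {x : G} (hx : Good z M U Δ t x) {p : G} (hp : p ∈ Δ) {n : G} (hn : n ∈ Np z p)
    (hm : ¬ ∀ u ∈ U, n * u = u * n) : x * n * x⁻¹ = n * pw (p * z) (ps t x p) := by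
  have h1 := (A.act_or hp hn).resolve_left hm
  have h2 : ∀ u ∈ U, n * (t p)⁻¹ * u = u * (n * (t p)⁻¹) := by
    intro u hu
    rw [← mul_inv_eq_iff_eq_mul]
    have h3 : (t p)⁻¹ * u * t p = u * pw (p * z) (f p u) := by
      have := A.t_act hp hu
      rw [A.t_inv hp] at this ⊢
      exact this
    calc n * (t p)⁻¹ * u * (n * (t p)⁻¹)⁻¹ = n * ((t p)⁻¹ * u * t p) * n⁻¹ := by group
      _ = n * (u * pw (p * z) (f p u)) * n⁻¹ := by rw [h3]
      _ = (n * u * n⁻¹) * (n * pw (p * z) (f p u) * n⁻¹) := by group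
      _ = u * pw (p * z) (f p u) * (n * pw (p * z) (f p u) * n⁻¹) := by rw [h1 u hu]
      _ = u * pw (p * z) (f p u) * pw (p * z) (f p u) := by
        have h4 := h1 _ (pw_mem (A.pz_U hp) (f p u))
        have h5 : f p (pw (p * z) (f p u)) = 0 := by
          rcases z2 (f p u) with h | h
          · rw [h, pw_zero, A.f_one (A.Δ_U p hp)]
          · rw [h, pw_one, A.f_add' (A.Δ_U p hp) (A.Δ_U p hp) A.z_U, A.f_self _ (A.Δ_U p hp),
              A.f_z' (A.Δ_U p hp), add_zero]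
        rw [h5, pw_zero, mul_one] at h4
        rw [h4]
      _ = u * (pw (p * z) (f p u) * pw (p * z) (f p u)) := mul_assoc _ _ _
      _ = u := by rw [pw_sq (A.pz_sq hp), mul_one]
  have h3 := hx.cen p hp (n * (t p)⁻¹) (mul_mem hn (inv_mem (A.t_N hp))) h2
  have h4 : x * n * x⁻¹ = x * (n * (t p)⁻¹) * x⁻¹ * (x * t p * x⁻¹) := by group
  rw [h4, h3, A.good_t hx hp]
  group

/-- for `t_p t_q t_p⁻¹` -/
theorem tt_N {p q : G} (hp : p ∈ Δ) (hq : q ∈ Δ) (h : f p q = 1) : t p * t q * (t p)⁻¹ ∈ Np z (p * q * z) := by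
  have e : t p * q * (t p)⁻¹ = p * q * z := by
    rw [A.t_act hp (A.Δ_U q hq), h, pw_one, ← mul_assoc, A.U_comm q (A.Δ_U q hq) p (A.Δ_U p hp)]
  rw [← e, ← cj_Np (A.M_z (A.t_M hp))]
  exact conj_mem_cj (A.t_N hq)

theorem t_mv {q : G} (hq : q ∈ Δ) : ¬ ∀ u ∈ U, t q * u = u * t q := by
  intro h
  obtain ⟨u, hu, h1⟩ := A.exists_f1 hq
  have h2 := A.t_act hq hu
  rw [h1, pw_one, h u hu, mul_inv_cancel_right] at h2
  exact A.pz_ne_one hq (left_eq_mul.1 h2)

theorem conj_mv {m n : G} (hm : m ∈ M) (hn : ¬ ∀ u ∈ U, n * u = u * n) :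
    ¬ ∀ u ∈ U, (m * n * m⁻¹) * u = u * (m * n * m⁻¹) := by
  intro h
  apply hn
  intro u hu
  have h1 := h _ (A.U_M m hm u hu)
  calc n * u = m⁻¹ * (m * n * m⁻¹ * (m * u * m⁻¹)) * m := by group
    _ = m⁻¹ * (m * u * m⁻¹ * (m * n * m⁻¹)) * m := by rw [h1]
    _ = u * n := by group

/-- `ψ_x(p q z) = ψ_x(p) + ψ_x(q)` if `f(p, q) = 1` -/
theorem ps_mul1 {x : G} (hx : Good z M U Δ t x) {p q : G} (hp : p ∈ Δ) (hq : q ∈ Δ) (h : f p q = 1) :
    ps t x (p * q * z) = ps t x p + ps t x q := by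
  have hpU := A.Δ_U p hp
  have hqU := A.Δ_U q hq
  have hr := A.mul1 p hp q hq h
  have e1 := A.good_n hx hr (A.tt_N hp hq h) (A.conj_mv (A.t_M hp) (A.t_mv hq))
  have hpq : p * q * z * z = p * q := by rw [mul_assoc, A.zz, mul_one]
  rw [hpq] at e1
  have hne : p * q ≠ 1 := by
    intro h0
    have : p = q := by rw [← A.inv_eq hqU]; exact mul_eq_one_iff_eq_inv.1 h0
    rw [this, A.f_self q hqU] at h
    exact absurd h (by decide)
  have hPZ := A.pz_U hp
  have hQZ := A.pz_U hq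
  set a := ps t x p with ha
  set b := ps t x q with hb
  -- `t_q` on `pw (pz) a`
  have h2 : (t q)⁻¹ * pw (p * z) a * t q = pw (p * z) a * pw (q * z) a := by
    have h3 := A.t_act hq (pw_mem hPZ a)
    rw [A.t_inv hq] at h3 ⊢
    rw [h3]
    congr 2
    rcases z2 a with h0 | h0
    · rw [h0, pw_zero, A.f_one hqU]
    · rw [h0, pw_one, A.f_add' hqU hpU A.z_U, A.f_z' hqU, add_zero, A.f_symm q hqU p hpU, h]
  have h4 : t p * (q * z) * (t p)⁻¹ = p * q := by
    rw [A.t_act hp hQZ, A.f_add' hpU hqU A.z_U, A.f_z' hpU, add_zero, h, pw_one]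
    calc q * z * (p * z) = q * (z * p) * z := by group
      _ = q * (p * z) * z := by rw [A.U_comm z A.z_U p hpU]
      _ = q * p * (z * z) := by group
      _ = p * q := by rw [A.zz, mul_one, A.U_comm q hqU p hpU]
  have e2 : x * (t p * t q * (t p)⁻¹) * x⁻¹ = t p * t q * (t p)⁻¹ * pw (p * q) (a + b) := by
    have e3 : x * (t p * t q * (t p)⁻¹) * x⁻¹ = (x * t p * x⁻¹) * (x * t q * x⁻¹) * (x * t p * x⁻¹)⁻¹ := by group
    rw [e3, A.good_t hx hp, A.good_t hx hq, ← ha, ← hb]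
    calc t p * pw (p * z) a * (t q * pw (q * z) b) * (t p * pw (p * z) a)⁻¹
        = t p * t q * ((t q)⁻¹ * pw (p * z) a * t q) * pw (q * z) b * (pw (p * z) a)⁻¹ * (t p)⁻¹ := by group
      _ = t p * t q * (pw (p * z) a * pw (q * z) a) * pw (q * z) b * (pw (p * z) a)⁻¹ * (t p)⁻¹ := by rw [h2]
      _ = t p * t q * (pw (p * z) a * (pw (q * z) a * pw (q * z) b)) * (pw (p * z) a)⁻¹ * (t p)⁻¹ := by group
      _ = t p * t q * (pw (p * z) a * pw (q * z) (a + b)) * (pw (p * z) a)⁻¹ * (t p)⁻¹ := by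
        rw [pw_add (A.pz_sq hq)]
      _ = t p * t q * (pw (q * z) (a + b) * pw (p * z) a) * (pw (p * z) a)⁻¹ * (t p)⁻¹ := by
        rw [A.U_comm _ (pw_mem hPZ a) _ (pw_mem hQZ _)]
      _ = t p * t q * (t p)⁻¹ * (t p * pw (q * z) (a + b) * (t p)⁻¹) := by group
      _ = t p * t q * (t p)⁻¹ * pw (p * q) (a + b) := by rw [conj_pw, h4]
  rw [e2] at e1
  exact (pw_inj hne (mul_left_cancel e1)).symm

/-- `ψ_x(p q) = ψ_x(q)` if `f(p, q) = 0`, `p ≠ q`, `ψ_x(p) = 0` -/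
theorem ps_mul00 {x : G} (hx : Good z M U Δ t x) {p q : G} (hp : p ∈ Δ) (hq : q ∈ Δ) (hne : p ≠ q)
    (h : f p q = 0) (h0 : ps t x p = 0) : ps t x (p * q) = ps t x q := by
  have hpU := A.Δ_U p hp
  have hqU := A.Δ_U q hq
  -- `x ∈ Q_p`
  have hxK : x ∈ Kp z p := by
    rw [mem_centralizer_iff]
    intro n hn
    by_cases hm : ∀ u ∈ U, n * u = u * n
    · exact (hx.cen p hp n hn hm).symm
    · have := A.good_n hx hp hn hm
      rw [h0, pw_zero, mul_one, mul_inv_eq_iff_eq_mul] at this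
      exact this.symm
  have hxQ := A.O_inf_K hp hx.O hxK
  obtain ⟨g, hg, e⟩ := A.Q_mv p hp q hq hne h
  have hgM := A.Q_M hp hg
  have hpq := A.mul0 p hp q hq hne h
  have hqp : q * p = p * q := A.U_comm q hqU p hpU
  have hs : g * t q * g⁻¹ ∈ Np z (p * q) := by
    rw [← hqp, ← e, ← cj_Np (A.M_z hgM)]
    exact conj_mem_cj (A.t_N hq)
  have hsm := A.conj_mv hgM (A.t_mv hq)
  have e1 := A.good_n hx hpq hs hsm
  have e2 := A.good_t hx hq
  set s := g * t q * g⁻¹ with hsdef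
  set b := ps t x q with hb
  set c := ps t x (p * q) with hc
  -- `d = t_q s⁻¹ ∈ Q_p`
  have htq : t q ∈ Cp p := mem_Cp.2 (A.t_0 q hq p hpU (by rw [A.f_symm q hqU p hpU, h]))
  have hd : t q * s⁻¹ ∈ Qp p := by
    have e3 : t q * s⁻¹ = (t q * g * (t q)⁻¹) * g⁻¹ := by rw [hsdef]; group
    rw [e3]
    exact mul_mem (Q_normal htq hg) (inv_mem hg)
  -- `s` centralises `q z`, `p q z`
  have hsact := (A.act_or hpq hs).resolve_left hsm
  have hpqU : p * q ∈ U := mul_mem hpU hqU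
  have hs1 : s * (q * z) * s⁻¹ = q * z := by
    rw [hsact _ (A.pz_U hq), A.f_add' hpqU hqU A.z_U, A.f_z' hpqU, add_zero, A.f_add p hpU q hqU q hqU, h,
      A.f_self q hqU, add_zero, pw_zero, mul_one]
  have hs2 : s * (p * q * z) * s⁻¹ = p * q * z := by
    rw [hsact _ (A.pz_U hpq), A.f_add' hpqU hpqU A.z_U, A.f_z' hpqU, A.f_self _ hpqU, add_zero, pw_zero, mul_one]
  have e4 : x * (t q * s⁻¹) * x⁻¹ = t q * s⁻¹ * (pw (q * z) b * pw (p * q * z) c) := by
    have e5 : x * (t q * s⁻¹) * x⁻¹ = (x * t q * x⁻¹) * (x * s * x⁻¹)⁻¹ := by group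
    rw [e5, e1, e2]
    have h6 : (pw (p * q * z) c)⁻¹ = pw (p * q * z) c := A.inv_eq (pw_mem (A.pz_U hpq) c)
    calc t q * pw (q * z) b * (s * pw (p * q * z) c)⁻¹
        = t q * pw (q * z) b * (pw (p * q * z) c)⁻¹ * s⁻¹ := by group
      _ = t q * pw (q * z) b * pw (p * q * z) c * s⁻¹ := by rw [h6]
      _ = t q * s⁻¹ * ((s * pw (q * z) b * s⁻¹) * (s * pw (p * q * z) c * s⁻¹)) := by group
      _ = t q * s⁻¹ * (pw (q * z) b * pw (p * q * z) c) := by rw [conj_pw, conj_pw, hs1, hs2]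
  have e6 : pw (q * z) b * pw (p * q * z) c = 1 ∨ pw (q * z) b * pw (p * q * z) c = p := by
    have hdp : t q * s⁻¹ * p = p * (t q * s⁻¹) := mem_Cp.1 (Q_le p hd)
    rcases A.Q_comm p hp x hxQ _ hd with h7 | h7
    · left
      rw [h7, mul_inv_cancel_right] at e4
      exact left_eq_mul.1 e4
    · right
      rw [h7, ← mul_assoc, mul_inv_cancel_right, ← hdp] at e4
      exact (mul_left_cancel e4).symm
  -- the four cases
  rcases z2 b with hb0 | hb0 <;> rcases z2 c with hc0 | hc0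
  · rw [hb0, hc0]
  · exfalso
    rw [hb0, hc0, pw_zero, pw_one, one_mul] at e6
    rcases e6 with h8 | h8
    · exact A.pz_ne_one hpq h8
    · apply A.p_ne_z hq
      have : q * z = 1 := by
        have h9 : p * (q * z) = p * 1 := by rw [← mul_assoc, h8, mul_one]
        exact mul_left_cancel h9
      exact absurd this (A.pz_ne_one hq)
  · exfalso
    rw [hb0, hc0, pw_zero, pw_one, mul_one] at e6
    rcases e6 with h8 | h8
    · exact A.pz_ne_one hq h8
    · exact A.inj q hq (h8 ▸ hp)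
  · rw [hb0, hc0]

/-- `x u` for `u ∈ U` -/
theorem good_mul {x : G} (hx : Good z M U Δ t x) {u : G} (hu : u ∈ U) : Good z M U Δ t (x * u) where
  O := mul_mem hx.O (A.U_le hu)
  cen := fun p hp n hn hm => by
    rw [mul_assoc, ← hm u hu, ← mul_assoc, hx.cen p hp n hn hm, mul_assoc]
  mv := fun p hp => by
    have e : x * u * t p * (x * u)⁻¹ = x * (u * t p * u⁻¹) * x⁻¹ := by group
    have e2 : x * (u * t p * u⁻¹) * x⁻¹ = t p * pw (p * z) (ps t x p + f p u) := by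
      rw [A.u_act hp hu]
      calc x * (t p * pw (p * z) (f p u)) * x⁻¹ = (x * t p * x⁻¹) * (x * pw (p * z) (f p u) * x⁻¹) := by group
        _ = t p * pw (p * z) (ps t x p) * pw (p * z) (f p u) := by
          rw [A.good_t hx hp, A.xU hx.O (pw_mem (A.pz_U hp) _), mul_inv_cancel_right]
        _ = t p * pw (p * z) (ps t x p + f p u) := by rw [pw_add (A.pz_sq hp), mul_assoc]
    rw [e, e2]
    rcases z2 (ps t x p + f p u) with h | h
    · left; rw [h, pw_zero, mul_one]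
    · right; rw [h, pw_one]

theorem ps_mulU {x : G} (hx : Good z M U Δ t x) {u : G} (hu : u ∈ U) {p : G} (hp : p ∈ Δ) :
    ps t (x * u) p = ps t x p + f p u := by
  have h1 := A.good_t (A.good_mul hx hu) hp
  have e : x * u * t p * (x * u)⁻¹ = x * (u * t p * u⁻¹) * x⁻¹ := by group
  have e2 : x * (u * t p * u⁻¹) * x⁻¹ = t p * pw (p * z) (ps t x p + f p u) := by
    rw [A.u_act hp hu]
    calc x * (t p * pw (p * z) (f p u)) * x⁻¹ = (x * t p * x⁻¹) * (x * pw (p * z) (f p u) * x⁻¹) := by group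
      _ = t p * pw (p * z) (ps t x p) * pw (p * z) (f p u) := by
        rw [A.good_t hx hp, A.xU hx.O (pw_mem (A.pz_U hp) _), mul_inv_cancel_right]
      _ = t p * pw (p * z) (ps t x p + f p u) := by rw [pw_add (A.pz_sq hp), mul_assoc]
  rw [e, e2] at h1
  exact (pw_inj (A.pz_ne_one hp) (mul_left_cancel h1)).symm

/-- `ψ_x(p q) = ψ_x(p) + ψ_x(q)` if `f(p, q) = 0`, `p ≠ q` -/
theorem ps_mul0 {x : G} (hx : Good z M U Δ t x) {p q : G} (hp : p ∈ Δ) (hq : q ∈ Δ) (hne : p ≠ q)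
    (h : f p q = 0) : ps t x (p * q) = ps t x p + ps t x q := by
  rcases z2 (ps t x p) with h0 | h0
  · rw [A.ps_mul00 hx hp hq hne h h0, h0, zero_add]
  · obtain ⟨u, hu, h1⟩ := A.exists_f1 hp
    have h2 := A.ps_mul00 (A.good_mul hx hu) hp hq hne h (by rw [A.ps_mulU hx hu hp, h0, h1]; decide)
    rw [A.ps_mulU hx hu (A.mul0 p hp q hq hne h), A.ps_mulU hx hu hq,
      A.f_add p (A.Δ_U p hp) q (A.Δ_U q hq) u hu, h1] at h2
    rw [h0]
    generalize ps t x (p * q) = a at h2 ⊢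
    generalize ps t x q = b at h2 ⊢
    generalize f q u = c at h2
    revert a b c; decide

theorem Ps_Δ {x u : G} (hu : u ∈ Δ) : Ps z Δ t x u = ps t x u := by
  have _ := A
  exact if_pos hu

theorem Ps_Δz {x u : G} (hu : u * z ∈ Δ) : Ps z Δ t x u = ps t x (u * z) := by
  have h : u ∉ Δ := fun h => A.inj u h hu
  rw [Ps, if_neg h, if_pos hu]

theorem Ps_one (x : G) : Ps z Δ t x 1 = 0 := by
  rw [Ps, if_neg A.Δ_1, if_neg (by rw [one_mul]; exact A.Δ_z)]

theorem Ps_z (x : G) : Ps z Δ t x z = 0 := by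
  rw [Ps, if_neg A.Δ_z, if_neg (by rw [A.zz]; exact A.Δ_1)]

theorem Ps_mulz {x u : G} (hu : u ∈ U) : Ps z Δ t x (u * z) = Ps z Δ t x u := by
  have hzz : u * z * z = u := by rw [mul_assoc, A.zz, mul_one]
  rcases A.cover u hu with rfl | rfl | h | h
  · rw [one_mul, A.Ps_z, A.Ps_one]
  · rw [A.zz, A.Ps_z, A.Ps_one]
  · rw [A.Ps_Δ h, A.Ps_Δz (by rw [hzz]; exact h), hzz]
  · rw [A.Ps_Δ h, A.Ps_Δz h]

/-- `Ψ_x` is additive -/
theorem Ps_add {x : G} (hx : Good z M U Δ t x) {u v : G} (hu : u ∈ U) (hv : v ∈ U) :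
    Ps z Δ t x (u * v) = Ps z Δ t x u + Ps z Δ t x v := by
  -- for points
  have key : ∀ p ∈ Δ, ∀ q ∈ Δ, Ps z Δ t x (p * q) = Ps z Δ t x p + Ps z Δ t x q := by
    intro p hp q hq
    by_cases hne : p = q
    · subst hne
      rw [A.U_sq p (A.Δ_U p hp), A.Ps_one]
      generalize Ps z Δ t x p = a
      revert a; decide
    · rcases z2 (f p q) with h | h
      · rw [A.Ps_Δ (A.mul0 p hp q hq hne h), A.Ps_Δ hp, A.Ps_Δ hq, A.ps_mul0 hx hp hq hne h]
      · rw [A.Ps_Δz (A.mul1 p hp q hq h), A.Ps_Δ hp, A.Ps_Δ hq, A.ps_mul1 hx hp hq h]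
  -- for `u` a point
  have key2 : ∀ p ∈ Δ, ∀ v ∈ U, Ps z Δ t x (p * v) = Ps z Δ t x p + Ps z Δ t x v := by
    intro p hp v hv
    rcases A.cover v hv with rfl | rfl | h | h
    · rw [mul_one, A.Ps_one, add_zero]
    · rw [A.Ps_mulz (A.Δ_U p hp), A.Ps_z, add_zero]
    · exact key p hp v h
    · rw [← A.Ps_mulz hv, ← key p hp _ h, ← mul_assoc, A.Ps_mulz (mul_mem (A.Δ_U p hp) hv)]
  rcases A.cover u hu with rfl | rfl | h | h
  · rw [one_mul, A.Ps_one, zero_add]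
  · rw [A.U_comm _ hu v hv, A.Ps_mulz hv, A.Ps_z, zero_add]
  · exact key2 u h v hv
  · rw [← A.Ps_mulz hu, ← key2 _ h v hv]
    have e : u * z * v = u * v * z := by rw [mul_assoc, A.U_comm z A.z_U v hv, mul_assoc]
    rw [e, A.Ps_mulz (mul_mem hu hv)]

/-- the elements of `O_M` centralising all `N_p` are in all `ζ_p` -/
theorem cen_all_le {y : G} (hy : y ∈ O2 M) (hc : ∀ p ∈ Δ, y ∈ Kp z p) {p : G} (hp : p ∈ Δ) : y ∈ Zp p := by
  let B : Subgroup G := O2 M ⊓ ⨅ q ∈ Δ, Kp z q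
  have hB : ∀ y, y ∈ B ↔ y ∈ O2 M ∧ ∀ q ∈ Δ, y ∈ Kp z q := by
    intro y
    rw [mem_inf, mem_iInf]
    simp only [mem_iInf]
  have hBQ : ∀ y ∈ B, y ∈ Qp p := fun y hy => A.O_inf_K hp ((hB y).1 hy).1 (((hB y).1 hy).2 p hp)
  have hBn : ∀ m ∈ M, ∀ y ∈ B, m * y * m⁻¹ ∈ B := by
    intro m hm y hy
    rw [hB] at hy ⊢
    refine ⟨conj_mem_of_normalizer (le_normalizer_O2 M hm) hy.1, fun q hq => ?_⟩
    have h1 := hy.2 (m⁻¹ * q * m) (by
      have := A.Δ_M m⁻¹ (inv_mem hm) q hq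
      rwa [inv_inv] at this)
    rw [mem_centralizer_iff] at h1 ⊢
    intro n hn
    have h2 : m⁻¹ * n * m ∈ Np z (m⁻¹ * q * m) := by
      have e : m⁻¹ * q * m = m⁻¹ * q * m⁻¹⁻¹ := by rw [inv_inv]
      have e' : m⁻¹ * n * m = m⁻¹ * n * m⁻¹⁻¹ := by rw [inv_inv]
      rw [e, e', ← cj_Np (A.M_z (inv_mem hm))]
      exact conj_mem_cj hn
    have h3 := h1 _ h2
    calc n * (m * y * m⁻¹) = m * (m⁻¹ * n * m * y) * m⁻¹ := by group
      _ = m * (y * (m⁻¹ * n * m)) * m⁻¹ := by rw [h3]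
      _ = m * y * m⁻¹ * n := by group
  have hyB : y ∈ B := (hB y).2 ⟨hy, hc⟩
  refine ⟨hBQ y hyB, mem_centralizer_iff.2 fun g hg => ?_⟩
  rcases A.Q_comm p hp g hg y (hBQ y hyB) with h | h
  · exact h
  · exfalso
    -- `p ∈ B`
    have h1 : p ∈ B := by
      have e : p = (g * y * g⁻¹) * y⁻¹ := by
        rw [h]; group
      rw [e]
      exact mul_mem (hBn g (A.Q_M hp hg) y hyB) (inv_mem hyB)
    obtain ⟨q, hq, hf⟩ := A.exists_q1 hp
    have h2 := (mem_centralizer_iff.1 (((hB p).1 h1).2 q hq)) (t q) (A.t_N hq)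
    have h3 := A.t_act hq (A.Δ_U p hp)
    rw [h2, mul_inv_cancel_right, A.f_symm q (A.Δ_U q hq) p (A.Δ_U p hp), hf, pw_one] at h3
    exact A.pz_ne_one hq (left_eq_mul.1 h3)

/-- **(6)(i)**: `x w` centralises all `N_p` for some `w ∈ U`; it is in all `ζ_p`. -/
theorem good [Finite U] {x : G} (hx : Good z M U Δ t x) :
    ∃ w ∈ U, x * w ∈ O2 M ∧ (∀ p ∈ Δ, x * w ∈ Kp z p) ∧ ∀ p ∈ Δ, x * w ∈ Zp p := by
  obtain ⟨w, hw, h1⟩ := exists_rep (U := U) A.U_comm A.U_sq A.f_add A.f_symm (Ψ := Ps z Δ t x)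
    (fun u hu v hv => A.Ps_add hx hu hv) (fun u hu h => by
      rcases A.f_rad u hu h with rfl | rfl
      · exact A.Ps_one x
      · exact A.Ps_z x)
  have hO : x * w ∈ O2 M := mul_mem hx.O (A.U_le hw)
  have hK : ∀ p ∈ Δ, x * w ∈ Kp z p := by
    intro p hp
    have hg := A.good_mul hx hw
    have h2 : ps t (x * w) p = 0 := by
      rw [A.ps_mulU hx hw hp, ← A.Ps_Δ hp, h1 p (A.Δ_U p hp), A.f_symm w hw p (A.Δ_U p hp)]
      generalize f p w = a
      revert a; decide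
    rw [mem_centralizer_iff]
    intro n hn
    by_cases hm : ∀ u ∈ U, n * u = u * n
    · exact (hg.cen p hp n hn hm).symm
    · have := A.good_n hg hp hn hm
      rw [h2, pw_zero, mul_one, mul_inv_eq_iff_eq_mul] at this
      exact this.symm
  exact ⟨w, hw, hO, hK, fun p hp => A.cen_all_le hO hK hp⟩

end Res

end Cfsg.Agent.Omega.HTwo.Eight

end

-- merged: Cfsg.Agent.Mrg.Omega.HTwo.EightThree
section

/-!
# #15507 (helper779) (6): the case `|N_p| = 8`

* `Res.N_mem`, `Res.N_card`, `Res.N_cenU` : `N_p = ⟨p, z, t_p⟩`;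
* `Res.good_all`, `Res.O_eq` : `O_M = U ⋂ ζ_q`;
* `Res.Q_cen` : `C_{Q_p}(U ∩ Q_p) = (U ∩ Q_p)(⋂ ζ_q)⟨t_p⟩`.
-/

set_option autoImplicit false
set_option Elab.async false

namespace Cfsg.Agent.Omega.HTwo.Eight

open Subgroup Cfsg.Agent.Omega.BTwo

variable {G : Type*} [Group G]

/-- `⟨p, z⟩` -/
def four (p z : G) (hp : p * p = 1) (hz : z * z = 1) (hc : p * z = z * p) : Subgroup G where
  carrier := {n | n = 1 ∨ n = p ∨ n = z ∨ n = p * z}
  one_mem' := Or.inl rfl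
  mul_mem' := by
    have e1 : p * (p * z) = z := by rw [← mul_assoc, hp, one_mul]
    have e2 : z * (p * z) = p := by rw [← mul_assoc, ← hc, mul_assoc, hz, mul_one]
    have e3 : p * z * p = z := by rw [hc, mul_assoc, hp, mul_one]
    have e4 : p * z * z = p := by rw [mul_assoc, hz, mul_one]
    have e5 : p * z * (p * z) = 1 := by rw [← mul_assoc, e3, hz]
    rintro a b (rfl | rfl | rfl | rfl) (rfl | rfl | rfl | rfl)
    all_goals simp only [Set.mem_setOf_eq, one_mul, mul_one, hp, hz, e1, e2, e3, e4, e5, ← hc]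
    all_goals simp
  inv_mem' := by
    have e : (p * z)⁻¹ = p * z := by
      refine inv_eq_of_mul_eq_one_left ?_
      rw [mul_assoc, ← mul_assoc z, ← hc, mul_assoc p z z, hz, mul_one, hp]
    rintro a (rfl | rfl | rfl | rfl)
    · left; exact inv_one
    · right; left; exact inv_eq_of_mul_eq_one_left hp
    · right; right; left; exact inv_eq_of_mul_eq_one_left hz
    · right; right; right; exact e

/-- `⋂_{q ∈ Δ} ζ_q` -/
def Bz (Δ : Set G) : Subgroup G := ⨅ q ∈ Δ, Zp q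

theorem mem_Bz {Δ : Set G} {x : G} : x ∈ Bz Δ ↔ ∀ q ∈ Δ, x ∈ Zp q := by
  simp only [Bz, mem_iInf]

namespace Res

variable {z : G} {M U : Subgroup G} {Δ : Set G} {f : G → G → ZMod 2} {t : G → G} (A : Res z M U Δ f t)
include A

/-! ### `⋂ ζ_q` -/

theorem z_Bz : z ∈ Bz Δ := mem_Bz.2 fun q hq => A.N_Z q hq (z_N z q)

theorem Bz_U {r : G} (hr : r ∈ Δ) {x u : G} (hx : x ∈ Bz Δ) (hu : u ∈ U) : x * u = u * x := by
  have h1 : ∀ q ∈ Δ, x * q = q * x := fun q hq => Z_comm (mem_Bz.1 hx q hq) (A.N_le_Q hq (A.p_N hq))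
  have h2 : x * z = z * x := A.Q_comm_z hr (mem_Bz.1 hx r hr).1
  rcases A.cover u hu with h | h | h | h
  · rw [h, mul_one, one_mul]
  · rw [h, h2]
  · exact h1 u h
  · have e : u = u * z * z := by rw [mul_assoc, A.zz, mul_one]
    rw [e, ← mul_assoc, h1 _ h, mul_assoc, h2, ← mul_assoc]

theorem Bz_normal {m x : G} (hm : m ∈ M) (hx : x ∈ Bz Δ) : m * x * m⁻¹ ∈ Bz Δ := by
  rw [mem_Bz] at hx ⊢
  intro q hq
  have h1 := hx (m⁻¹ * q * m) (by
    have := A.Δ_M m⁻¹ (inv_mem hm) q hq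
    rwa [inv_inv] at this)
  have h2 : m * x * m⁻¹ ∈ cj m (Zp (m⁻¹ * q * m)) := conj_mem_cj h1
  rw [cj_Zp] at h2
  have e : m * (m⁻¹ * q * m) * m⁻¹ = q := by group
  rwa [e] at h2

/-! ### `N_p` -/

theorem pz_comm {p : G} (hp : p ∈ Δ) : p * z = z * p := A.U_comm p (A.Δ_U p hp) z A.z_U

theorem N_mem' (h3 : Three z Δ t) {p : G} (hp : p ∈ Δ) {n : G} (hn : n ∈ Np z p) :
    n ∈ four p z (A.U_sq p (A.Δ_U p hp)) A.zz (A.pz_comm hp) ∨
      n * t p ∈ four p z (A.U_sq p (A.Δ_U p hp)) A.zz (A.pz_comm hp) := by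
  set F := four p z (A.U_sq p (A.Δ_U p hp)) A.zz (A.pz_comm hp) with hF
  have hzF : z ∈ F := Or.inr (Or.inr (Or.inl rfl))
  have hpzF : p * z ∈ F := Or.inr (Or.inr (Or.inr rfl))
  have htt : t p * t p = 1 := A.N_sq p hp _ (A.t_N hp)
  have hFN : F ≤ Np z p := by
    rintro x (rfl | rfl | rfl | rfl)
    · exact one_mem _
    · exact A.p_N hp
    · exact z_N _ _
    · exact mul_mem (A.p_N hp) (z_N z p)
  have hFt : ∀ x ∈ F, x * t p = t p * x := fun x hx => A.N_comm hp (hFN hx) (A.t_N hp)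
  let T : Subgroup G :=
    { carrier := {n | n ∈ F ∨ n * t p ∈ F}
      one_mem' := Or.inl (one_mem _)
      mul_mem' := by
        rintro a b (ha | ha) (hb | hb)
        · exact Or.inl (mul_mem ha hb)
        · exact Or.inr (by rw [mul_assoc]; exact mul_mem ha hb)
        · refine Or.inr ?_
          rw [mul_assoc, hFt b hb, ← mul_assoc]
          exact mul_mem ha hb
        · refine Or.inl ?_
          have e : a * b = a * t p * (b * t p) := by
            have h1 := hFt _ hb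
            calc a * b = a * (b * t p * t p) := by rw [mul_assoc b, htt, mul_one]
              _ = a * (t p * (b * t p)) := by rw [h1]
              _ = a * t p * (b * t p) := by group
          rw [e]
          exact mul_mem ha hb
      inv_mem' := by
        rintro a (ha | ha)
        · exact Or.inl (inv_mem ha)
        · refine Or.inr ?_
          have h1 := inv_mem ha
          rw [mul_inv_rev] at h1
          have h2 := hFt _ h1
          have h3 : a⁻¹ * t p = (t p)⁻¹ * a⁻¹ := by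
            have h4 : (t p)⁻¹ = t p := inv_eq_of_mul_eq_one_left htt
            rw [h4] at h2 ⊢
            have h5 : t p * a⁻¹ * t p * t p = t p * (t p * a⁻¹) * t p := by rw [h2]
            have h6 : t p * a⁻¹ * t p * t p = t p * a⁻¹ := by rw [mul_assoc, htt, mul_one]
            have h7 : t p * (t p * a⁻¹) * t p = a⁻¹ * t p := by rw [← mul_assoc (t p), htt, one_mul]
            rw [← h7, ← h5, h6]
          rw [h3]
          exact h1 }
  have hT : Np z p ≤ T := by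
    rw [Np, closure_le]
    rintro _ ⟨h, hh, rfl⟩
    rcases h3 p hp h hh with e | e | e
    · rw [e]; exact Or.inl hzF
    · rw [e]; exact Or.inr (by rw [htt]; exact one_mem _)
    · rw [e]; exact Or.inr (by rw [mul_assoc, htt, mul_one]; exact hpzF)
  exact hT hn

theorem N_mem (h3 : Three z Δ t) {p : G} (hp : p ∈ Δ) {n : G} (hn : n ∈ Np z p) :
    (n = 1 ∨ n = p ∨ n = z ∨ n = p * z) ∨ (n = t p ∨ n = p * t p ∨ n = z * t p ∨ n = p * z * t p) := by
  have htt : t p * t p = 1 := A.N_sq p hp _ (A.t_N hp)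
  rcases A.N_mem' h3 hp hn with h | h
  · exact Or.inl h
  · refine Or.inr ?_
    have e : n = n * t p * t p := by rw [mul_assoc, htt, mul_one]
    rcases h with h | h | h | h
    · left; rw [e, h, one_mul]
    · right; left; rw [e, h]
    · right; right; left; rw [e, h]
    · right; right; right; rw [e, h]

/-- `N_p ∩ C(U) = ⟨p, z⟩` -/
theorem N_cenU (h3 : Three z Δ t) {p : G} (hp : p ∈ Δ) {n : G} (hn : n ∈ Np z p)
    (hc : ∀ u ∈ U, n * u = u * n) : n = 1 ∨ n = p ∨ n = z ∨ n = p * z := by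
  rcases A.N_mem' h3 hp hn with h | h
  · exact h
  · exfalso
    apply A.t_mv hp
    intro u hu
    have h1 : n * t p ∈ U := by
      rcases h with h | h | h | h
      · rw [h]; exact one_mem _
      · rw [h]; exact A.Δ_U p hp
      · rw [h]; exact A.z_U
      · rw [h]; exact A.pz_U hp
    have e : t p = n⁻¹ * (n * t p) := by group
    rw [e, mul_assoc, A.U_comm _ h1 u hu, ← mul_assoc, ← mul_assoc]
    congr 1
    have := hc u hu
    calc n⁻¹ * u * n = n⁻¹ * (u * n) := by group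
      _ = n⁻¹ * (n * u) := by rw [this]
      _ = u := by group

theorem N_U (h3 : Three z Δ t) {p : G} (hp : p ∈ Δ) {n : G} (hn : n ∈ Np z p) (hU : n ∈ U) :
    n = 1 ∨ n = p ∨ n = z ∨ n = p * z := A.N_cenU h3 hp hn fun u hu => A.U_comm n hU u hu

theorem N_card (h3 : Three z Δ t) {p : G} (hp : p ∈ Δ) : Nat.card (Np z p) = 8 := by
  have hpU := A.Δ_U p hp
  let F : ZMod 2 × ZMod 2 × ZMod 2 → Np z p := fun c =>
    ⟨pw p c.1 * pw z c.2.1 * pw (t p) c.2.2,
      mul_mem (mul_mem (pw_mem (A.p_N hp) _) (pw_mem (z_N z p) _)) (pw_mem (A.t_N hp) _)⟩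
  have hU : ∀ a b : ZMod 2, pw p a * pw z b ∈ U := fun a b => mul_mem (pw_mem hpU _) (pw_mem A.z_U _)
  have htU : t p ∉ U := fun h => A.t_mv hp fun u hu => A.U_comm _ h u hu
  have hinj : Function.Injective F := by
    rintro ⟨a, b, c⟩ ⟨a', b', c'⟩ h
    have h1 : pw p a * pw z b * pw (t p) c = pw p a' * pw z b' * pw (t p) c' := congrArg Subtype.val h
    have hc : c = c' := by
      by_contra hne
      apply htU
      rcases z2 c with hc | hc <;> rcases z2 c' with hc' | hc'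
      · exact absurd (hc.trans hc'.symm) hne
      · rw [hc, hc', pw_zero, pw_one, mul_one] at h1
        have e : t p = (pw p a' * pw z b')⁻¹ * (pw p a * pw z b) := by rw [h1]; group
        rw [e]; exact mul_mem (inv_mem (hU _ _)) (hU _ _)
      · rw [hc, hc', pw_zero, pw_one, mul_one] at h1
        have e : t p = (pw p a * pw z b)⁻¹ * (pw p a' * pw z b') := by rw [← h1]; group
        rw [e]; exact mul_mem (inv_mem (hU _ _)) (hU _ _)
      · exact absurd (hc.trans hc'.symm) hne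
    subst hc
    have h2 := mul_right_cancel h1
    have ha : a = a' := by
      by_contra hne
      have key : ∀ b b' : ZMod 2, p * pw z b = pw z b' → False := by
        intro b b' h
        have e : p = pw z (b' + b) := by
          rw [pw_add A.zz, ← h, mul_assoc, pw_sq A.zz, mul_one]
        rcases z2 (b' + b) with h0 | h0
        · rw [h0, pw_zero] at e; exact A.p_ne_one hp e
        · rw [h0, pw_one] at e; exact A.p_ne_z hp e
      rcases z2 a with ha | ha <;> rcases z2 a' with ha' | ha'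
      · exact absurd (ha.trans ha'.symm) hne
      · rw [ha, ha', pw_zero, pw_one, one_mul] at h2
        exact key _ _ h2.symm
      · rw [ha, ha', pw_zero, pw_one, one_mul] at h2
        exact key _ _ h2
      · exact absurd (ha.trans ha'.symm) hne
    subst ha
    have hb := pw_inj A.z1 (mul_left_cancel h2)
    rw [hb]
  have hsurj : Function.Surjective F := by
    rintro ⟨n, hn⟩
    have key : ∀ a b c : ZMod 2, n = pw p a * pw z b * pw (t p) c → ∃ x, F x = ⟨n, hn⟩ := fun a b c h =>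
      ⟨(a, b, c), Subtype.ext h.symm⟩
    rcases A.N_mem h3 hp hn with (h | h | h | h) | (h | h | h | h)
    · exact key 0 0 0 (by rw [h, pw_zero, pw_zero, pw_zero, mul_one, mul_one])
    · exact key 1 0 0 (by rw [h, pw_one, pw_zero, pw_zero, mul_one, mul_one])
    · exact key 0 1 0 (by rw [h, pw_one, pw_zero, pw_zero, mul_one, one_mul])
    · exact key 1 1 0 (by rw [h, pw_one, pw_one, pw_zero, mul_one])
    · exact key 0 0 1 (by rw [h, pw_one, pw_zero, pw_zero, one_mul, one_mul])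
    · exact key 1 0 1 (by rw [h, pw_one, pw_one, pw_zero, mul_one])
    · exact key 0 1 1 (by rw [h, pw_one, pw_one, pw_zero, one_mul])
    · exact key 1 1 1 (by rw [h, pw_one, pw_one, pw_one])
  rw [← Nat.card_congr (Equiv.ofBijective F ⟨hinj, hsurj⟩), Nat.card_prod, Nat.card_prod, Nat.card_zmod]

/-! ### `O_M` -/

theorem good_all (h3 : Three z Δ t) {x : G} (hx : x ∈ O2 M) : Good z M U Δ t x where
  O := hx
  cen := fun p hp n hn hc => by
    rcases A.N_cenU h3 hp hn hc with h | h | h | h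
    · rw [h, mul_one, one_mul]
    · rw [h]; exact A.U_O x hx p (A.Δ_U p hp)
    · rw [h]; exact A.U_O x hx z A.z_U
    · rw [h]; exact A.U_O x hx _ (A.pz_U hp)
  mv := fun p hp => by
    obtain ⟨h, hh, e⟩ := A.t_ZZ p hp
    have hxp : x ∈ Cp p := mem_Cp.2 (A.U_O x hx p (A.Δ_U p hp))
    have e1 : x * t p * x⁻¹ = (x * h) * z * (x * h)⁻¹ := by rw [e]; group
    rw [e1]
    rcases h3 p hp (x * h) (mul_mem hxp hh) with h4 | h4 | h4
    · exfalso
      rw [← e1] at h4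
      have hxz := A.mz (O2_le M hx)
      have h5 : t p = z := by
        calc t p = x⁻¹ * (x * t p * x⁻¹) * x := by group
          _ = x⁻¹ * (z * x) := by rw [h4, mul_assoc]
          _ = x⁻¹ * (x * z) := by rw [hxz]
          _ = z := by group
      apply A.t_mv hp
      intro u hu
      rw [h5]
      exact A.U_comm z A.z_U u hu
    · exact Or.inl h4
    · right
      rw [h4]
      exact A.N_comm hp (mul_mem (A.p_N hp) (z_N z p)) (A.t_N hp)

/-- `O_M = U ⋂ ζ_q` -/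
theorem O_eq [Finite U] (h3 : Three z Δ t) {x : G} (hx : x ∈ O2 M) : ∃ w ∈ U, ∃ b ∈ Bz Δ, x = w * b := by
  obtain ⟨w, hw, _, _, h⟩ := A.good (A.good_all h3 hx)
  refine ⟨w, hw, x * w, mem_Bz.2 h, ?_⟩
  rw [A.U_O x hx w hw, ← mul_assoc, A.U_sq w hw, one_mul]

/-! ### `Q_p` -/

/-- `U ∩ ζ_p = ⟨p, z⟩` -/
theorem U_Z {p : G} (hp : p ∈ Δ) {u : G} (hu : u ∈ U) (hZ : u ∈ Zp p) : u = 1 ∨ u = p ∨ u = z ∨ u = p * z := by
  have hpU := A.Δ_U p hp
  -- for a point
  have key : ∀ q ∈ Δ, q ∈ Zp p → q = p := by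
    intro q hq hqZ
    by_contra hne
    have h0 : f p q = 0 := (A.Q_f p hp q (A.Δ_U q hq)).1 hqZ.1
    obtain ⟨g, hg, e⟩ := A.Q_mv p hp q hq (Ne.symm hne) h0
    rw [← Z_comm hqZ hg, mul_inv_cancel_right] at e
    exact A.p_ne_one hp (left_eq_mul.1 e)
  rcases A.cover u hu with h | h | h | h
  · exact Or.inl h
  · exact Or.inr (Or.inr (Or.inl h))
  · exact Or.inr (Or.inl (key u h hZ))
  · have h1 := key _ h (mul_mem hZ (A.N_Z p hp (z_N z p)))
    refine Or.inr (Or.inr (Or.inr ?_))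
    rw [← h1, mul_assoc, A.zz, mul_one]

theorem M_cenU_normal {m x : G} (hm : m ∈ M) (hx : ∀ u ∈ U, x * u = u * x) :
    ∀ u ∈ U, (m * x * m⁻¹) * u = u * (m * x * m⁻¹) := by
  intro u hu
  have h1 := A.U_M m⁻¹ (inv_mem hm) u hu
  rw [inv_inv] at h1
  have h2 := hx _ h1
  calc m * x * m⁻¹ * u = m * (x * (m⁻¹ * u * m)) * m⁻¹ := by group
    _ = m * (m⁻¹ * u * m * x) * m⁻¹ := by rw [h2]
    _ = u * (m * x * m⁻¹) := by group

/-- `C_{Q_p}(U) ≤ O_M` -/
theorem Q_cenU {p : G} (hp : p ∈ Δ) {x : G} (hx : x ∈ Qp p) (hc : ∀ u ∈ U, x * u = u * x) : x ∈ O2 M := by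
  have hmem : ∀ y, y ∈ centralizer (U : Set G) ↔ ∀ u ∈ U, y * u = u * y := fun y => by
    rw [mem_centralizer_iff]
    exact ⟨fun h u hu => (h u hu).symm, fun h u hu => (h u hu).symm⟩
  have h1 : Qp p ⊓ centralizer (U : Set G) ≤ O2 M := by
    refine le_O2_of_chain (B := M ⊓ centralizer (U : Set G)) (C := M) ?_ inf_le_left le_rfl
      ((O2_isPGroup (Cp p)).to_le inf_le_left) ?_ ?_ ?_
    · exact le_inf (inf_le_left.trans (A.Q_M hp)) inf_le_right
    · rintro b ⟨hb1, hb2⟩ a ⟨ha1, ha2⟩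
      have hbp : b ∈ Cp p := mem_Cp.2 ((hmem b).1 hb2 p (A.Δ_U p hp))
      exact ⟨Q_normal hbp ha1, (centralizer (U : Set G)).mul_mem ((centralizer (U : Set G)).mul_mem hb2 ha2)
        ((centralizer (U : Set G)).inv_mem hb2)⟩
    · rintro c hc b ⟨hb1, hb2⟩
      refine ⟨M.mul_mem (M.mul_mem hc hb1) (M.inv_mem hc), ?_⟩
      exact (hmem _).2 (A.M_cenU_normal hc ((hmem b).1 hb2))
    · intro g hg c hc
      exact mul_mem (mul_mem hg hc) (inv_mem hg)
  exact h1 ⟨hx, (hmem x).2 hc⟩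

/-- an element of `Q_p` centralising `U ∩ Q_p` acts on `U` as `1` or as `t_p` -/
theorem Q_act {p : G} (hp : p ∈ Δ) {x : G} (hx : x ∈ Qp p) (hc : ∀ u ∈ U ⊓ Qp p, x * u = u * x) :
    (∀ u ∈ U, x * u = u * x) ∨ ∀ u ∈ U, (x * t p) * u = u * (x * t p) := by
  have hpU := A.Δ_U p hp
  have hxM := A.Q_M hp hx
  have hc' : ∀ u ∈ U, f p u = 0 → x * u * x⁻¹ = u := fun u hu h => by
    rw [hc u ⟨hu, (A.Q_f p hp u hu).2 h⟩, mul_inv_cancel_right]
  -- for `v` with `f p v = 1`: `x v x⁻¹ = v` or `v (p z)`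
  have key : ∀ v ∈ U, f p v = 1 → x * v * x⁻¹ = v ∨ x * v * x⁻¹ = v * (p * z) := by
    intro v hv hv1
    have hc1 : v * (x * v * x⁻¹) ∈ U := mul_mem hv (A.U_M x hxM v hv)
    have e : x * v * x⁻¹ = v * (v * (x * v * x⁻¹)) := by rw [← mul_assoc v v, A.U_sq v hv, one_mul]
    set c := v * (x * v * x⁻¹) with hcdef
    -- `f c u = 0` if `f p u = 0`
    have h1 : ∀ u ∈ U, f p u = 0 → f c u = 0 := by
      intro u hu h
      rw [hcdef, A.f_add v hv _ (A.U_M x hxM v hv) u hu]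
      have h2 := A.f_M x hxM v hv u hu
      rw [hc' u hu h] at h2
      rw [h2]
      generalize f v u = a
      revert a; decide
    -- so `c p^l ∈ ⟨z⟩`
    have h2 : c = 1 ∨ c = z ∨ c = p ∨ c = p * z := by
      rcases z2 (f c v) with h3 | h3
      · have h4 : ∀ u ∈ U, f c u = 0 := by
          intro u hu
          rcases z2 (f p u) with h | h
          · exact h1 u hu h
          · have h5 := h1 (u * v) (mul_mem hu hv) (by rw [A.f_add' hpU hu hv, h, hv1]; decide)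
            rw [A.f_add' hc1 hu hv, h3, add_zero] at h5
            exact h5
        rcases A.f_rad c hc1 h4 with h | h
        · exact Or.inl h
        · exact Or.inr (Or.inl h)
      · have h4 : ∀ u ∈ U, f (c * p) u = 0 := by
          intro u hu
          rw [A.f_add c hc1 p hpU u hu]
          rcases z2 (f p u) with h | h
          · rw [h1 u hu h, h, add_zero]
          · have h5 := h1 (u * v) (mul_mem hu hv) (by rw [A.f_add' hpU hu hv, h, hv1]; decide)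
            rw [A.f_add' hc1 hu hv, h3] at h5
            rw [h]; exact h5
        have h6 : c = c * p * p := by rw [mul_assoc, A.U_sq p hpU, mul_one]
        rcases A.f_rad _ (mul_mem hc1 hpU) h4 with h | h
        · right; right; left; rw [h6, h, one_mul]
        · right; right; right; rw [h6, h, A.pz_comm hp]
    -- `Δ` is `M`-invariant
    have h7 : ∀ w ∈ Δ, f p w = 1 → ∀ c : G, x * w * x⁻¹ = w * c → c ≠ z ∧ c ≠ p := by
      intro w hw hw1 c h8
      have h9 := A.Δ_M x hxM w hw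
      rw [h8] at h9
      refine ⟨fun h => A.inj w hw (h ▸ h9), fun h => ?_⟩
      rw [h, A.U_comm w (A.Δ_U w hw) p hpU] at h9
      exact A.inj _ h9 (A.mul1 p hp w hw hw1)
    have h8 : c ≠ z ∧ c ≠ p := by
      rcases A.cover v hv with h | h | h | h
      · rw [h, A.f_one hpU] at hv1; exact absurd hv1 (by decide)
      · rw [h, A.f_z' hpU] at hv1; exact absurd hv1 (by decide)
      · exact h7 v h hv1 c e
      · refine h7 (v * z) h (by rw [A.f_add' hpU hv A.z_U, A.f_z' hpU, hv1, add_zero]) c ?_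
        have h9 : x * (v * z) * x⁻¹ = x * v * x⁻¹ * (x * z * x⁻¹) := by group
        rw [h9, A.conj_z hxM, e, mul_assoc, A.U_comm c hc1 z A.z_U, ← mul_assoc]
    rcases h2 with h | h | h | h
    · left; rw [e, h, mul_one]
    · exact absurd h h8.1
    · exact absurd h h8.2
    · right; rw [e, h]
  obtain ⟨v, hv, hv1⟩ := A.exists_f1 hp
  -- other elements
  have huv : ∀ u ∈ U, f p u = 1 → x * (u * v) * x⁻¹ = u * v := fun u hu h =>
    hc' _ (mul_mem hu hv) (by rw [A.f_add' hpU hu hv, h, hv1]; decide)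
  rcases key v hv hv1 with h | h
  · left
    intro u hu
    rw [← mul_inv_eq_iff_eq_mul]
    rcases z2 (f p u) with h0 | h0
    · exact hc' u hu h0
    · have h1 := huv u hu h0
      have h2 : x * u * x⁻¹ = x * (u * v) * x⁻¹ * (x * v * x⁻¹)⁻¹ := by group
      rw [h2, h1, h]; group
  · right
    intro u hu
    rw [← mul_inv_eq_iff_eq_mul]
    have h3 : x * t p * u * (x * t p)⁻¹ = x * (t p * u * (t p)⁻¹) * x⁻¹ := by group
    rw [h3, A.t_act hp hu]
    have hpz : x * (p * z) * x⁻¹ = p * z := hc' _ (A.pz_U hp) (by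
      rw [A.f_add' hpU hpU A.z_U, A.f_self p hpU, A.f_z' hpU, add_zero])
    rcases z2 (f p u) with h0 | h0
    · rw [h0, pw_zero, mul_one]
      exact hc' u hu h0
    · rw [h0, pw_one]
      have h1 := huv u hu h0
      have h2 : x * (u * (p * z)) * x⁻¹ = x * (u * v) * x⁻¹ * (x * v * x⁻¹)⁻¹ * (x * (p * z) * x⁻¹) := by group
      rw [h2, h1, h, hpz, mul_inv_rev, A.inv_eq (A.pz_U hp), A.inv_eq hv, A.U_comm _ (A.pz_U hp) v hv]
      calc u * v * (v * (p * z)) * (p * z) = u * (v * v) * ((p * z) * (p * z)) := by group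
        _ = u := by rw [A.U_sq v hv, A.pz_sq hp, mul_one, mul_one]

/-- `C_{Q_p}(U ∩ Q_p) = (U ∩ Q_p)(⋂ ζ_q)⟨t_p⟩` -/
theorem Q_cen [Finite U] (h3 : Three z Δ t) {p : G} (hp : p ∈ Δ) {x : G} (hx : x ∈ Qp p)
    (hc : ∀ u ∈ U ⊓ Qp p, x * u = u * x) :
    ∃ w ∈ U ⊓ Qp p, ∃ b ∈ Bz Δ, x = w * b ∨ x = w * b * t p := by
  have key : ∀ y ∈ Qp p, (∀ u ∈ U, y * u = u * y) → ∃ w ∈ U ⊓ Qp p, ∃ b ∈ Bz Δ, y = w * b := by
    intro y hy hcy
    obtain ⟨w, hw, b, hb, e⟩ := A.O_eq h3 (A.Q_cenU hp hy hcy)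
    refine ⟨w, ⟨hw, ?_⟩, b, hb, e⟩
    have e1 : w = y * b⁻¹ := by rw [e]; group
    rw [e1]
    exact (Qp p).mul_mem hy ((Qp p).inv_mem (mem_Bz.1 hb p hp).1)
  rcases A.Q_act hp hx hc with h | h
  · obtain ⟨w, hw, b, hb, e⟩ := key x hx h
    exact ⟨w, hw, b, hb, Or.inl e⟩
  · obtain ⟨w, hw, b, hb, e⟩ := key (x * t p) (mul_mem hx (A.N_le_Q hp (A.t_N hp))) h
    refine ⟨w, hw, b, hb, Or.inr ?_⟩
    rw [← e, mul_assoc, A.N_sq p hp _ (A.t_N hp), mul_one]

end Res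

end Cfsg.Agent.Omega.HTwo.Eight

end

-- merged: Cfsg.Agent.Mrg.Omega.HTwo.EightFour
section

/-!
# #15507 (helper779) (6)(ii): `H_r / Q_r = L_r / Q_r × K_r / Q_r`, `L_r / Q_r = S_3`
-/

set_option autoImplicit false
set_option Elab.async false

namespace Cfsg.Agent.Omega.HTwo.Eight

open Subgroup Cfsg.Agent.Omega.BTwo

/-- the group `⟨s, c⟩` with the braid relation -/
theorem six {X : Type*} [Group X] {s c : X} (hs : s * s = 1) (hc : c * c = 1) (hb : c * s * c = s * c * s) :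
    ∀ x ∈ closure ({s, c} : Set X), x = 1 ∨ x = s ∨ x = c ∨ x = s * c ∨ x = c * s ∨ x = s * c * s := by
  have hs' : s⁻¹ = s := inv_eq_of_mul_eq_one_left hs
  have hc' : c⁻¹ = c := inv_eq_of_mul_eq_one_left hc
  have key : ∀ x, x = s ∨ x = c → ∀ y, (y = 1 ∨ y = s ∨ y = c ∨ y = s * c ∨ y = c * s ∨ y = s * c * s) →
      (x * y = 1 ∨ x * y = s ∨ x * y = c ∨ x * y = s * c ∨ x * y = c * s ∨ x * y = s * c * s) := by
    have h1 : s * (s * c) = c := by rw [← mul_assoc, hs, one_mul]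
    have h2 : s * (s * c * s) = c * s := by rw [← mul_assoc, ← mul_assoc, hs, one_mul]
    have h3 : c * (s * c) = s * c * s := by rw [← mul_assoc, hb]
    have h4 : c * (c * s) = s := by rw [← mul_assoc, hc, one_mul]
    have h5 : c * (s * c * s) = s * c := by rw [← hb, ← mul_assoc, ← mul_assoc, hc, one_mul]
    have h6 : s * (c * s) = s * c * s := by rw [mul_assoc]
    rintro x (rfl | rfl) y (rfl | rfl | rfl | rfl | rfl | rfl)
    all_goals simp only [mul_one, hs, hc, h1, h2, h3, h4, h5, h6]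
    all_goals simp
  intro x hx
  induction hx using closure_induction_left with
  | one => exact Or.inl rfl
  | mul_left x hx y _ ih => exact key x hx y ih
  | inv_mul_cancel x hx y _ ih =>
    have e : x⁻¹ = x := by
      rcases hx with rfl | rfl
      · exact hs'
      · exact hc'
    rw [e]
    exact key x hx y ih

variable {G : Type*} [Group G]

/-- a set of `n` coset representatives -/
theorem card_of_cosets {n : ℕ} {A B : Subgroup G} (w : Fin n → G) (hw : ∀ i, ∀ a ∈ A, w i * a ∈ B)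
    (hinj : ∀ i j, ∀ a ∈ A, w i * a = w j → i = j) (hcov : ∀ b ∈ B, ∃ i, (w i)⁻¹ * b ∈ A) :
    Nat.card B = n * Nat.card A := by
  let F : Fin n × A → B := fun x => ⟨w x.1 * x.2, hw x.1 x.2 x.2.2⟩
  have h1 : Function.Injective F := by
    rintro ⟨i, a⟩ ⟨j, b⟩ h
    have h2 : w i * (a : G) = w j * (b : G) := congrArg Subtype.val h
    have h3 : i = j := hinj i j ((a : G) * (b : G)⁻¹) (mul_mem a.2 (inv_mem b.2)) (by
      rw [← mul_assoc, h2, mul_inv_cancel_right])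
    subst h3
    rw [Prod.mk.injEq]
    exact ⟨rfl, Subtype.ext (mul_left_cancel h2)⟩
  have h2 : Function.Surjective F := by
    rintro ⟨b, hb⟩
    obtain ⟨i, hi⟩ := hcov b hb
    exact ⟨(i, ⟨_, hi⟩), Subtype.ext (mul_inv_cancel_left _ _)⟩
  rw [← Nat.card_congr (Equiv.ofBijective F ⟨h1, h2⟩), Nat.card_prod, Nat.card_eq_fintype_card, Fintype.card_fin]

namespace Res

variable {z : G} {M U : Subgroup G} {Δ : Set G} {f : G → G → ZMod 2} {t : G → G} (A : Res z M U Δ f t)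
include A

theorem cj_U_M {m : G} (hm : m ∈ M) : cj m U = U := by
  apply le_antisymm
  · exact cj_le_iff.2 (A.U_M m hm)
  · intro u hu
    rw [mem_cj]
    have := A.U_M m⁻¹ (inv_mem hm) u hu
    rwa [inv_inv] at this

theorem stab {r : G} (hr : r ∈ Δ) {h : G} (hh : h ∈ Cp r) (e : h * z * h⁻¹ = z) : h ∈ M :=
  A.M_p r hr ⟨hh, mem_Cp.2 (by rwa [mul_inv_eq_iff_eq_mul] at e)⟩

/-- `U_y` for `y = z^h` depends only on `y` -/
theorem cj_U_eq {r : G} (hr : r ∈ Δ) {h k : G} (hh : h ∈ Cp r) (hk : k ∈ Cp r)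
    (e : h * z * h⁻¹ = k * z * k⁻¹) : cj h U = cj k U := by
  have h1 : k⁻¹ * h ∈ M := A.stab hr (mul_mem (inv_mem hk) hh) (by
    calc k⁻¹ * h * z * (k⁻¹ * h)⁻¹ = k⁻¹ * (h * z * h⁻¹) * k := by group
      _ = k⁻¹ * (k * z * k⁻¹) * k := by rw [e]
      _ = z := by group)
  have h2 := congrArg (cj k) (A.cj_U_M h1)
  rw [← cj_mul] at h2
  rwa [mul_inv_cancel_left] at h2

theorem mem_K (h3 : Three z Δ t) {r : G} (hr : r ∈ Δ) {g : G} :
    g ∈ Kp z r ↔ g * r = r * g ∧ g * z = z * g ∧ g * t r = t r * g := by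
  rw [mem_centralizer_iff]
  constructor
  · intro h
    exact ⟨(h r (A.p_N hr)).symm, (h z (z_N z r)).symm, (h _ (A.t_N hr)).symm⟩
  · rintro ⟨h1, h2, h4⟩ n hn
    have e1 : Commute g r := h1
    have e2 : Commute g z := h2
    have e4 : Commute g (t r) := h4
    have key : Commute g n := by
      rcases A.N_mem h3 hr hn with (h | h | h | h) | (h | h | h | h) <;> rw [h]
      · exact Commute.one_right g
      · exact e1
      · exact e2
      · exact e1.mul_right e2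
      · exact e4
      · exact e1.mul_right e4
      · exact e2.mul_right e4
      · exact (e1.mul_right e2).mul_right e4
    exact key.symm.eq

theorem Q_le_K {r : G} (hr : r ∈ Δ) : Qp r ≤ Kp z r := fun x hx => by
  rw [mem_centralizer_iff]
  exact fun n hn => Z_comm (A.N_Z r hr hn) hx

theorem Q_le_L (r : G) : Qp r ≤ Lp U r := le_sup_right

theorem cj_U_le_L {r h : G} (hh : h ∈ Cp r) : cj h U ≤ Lp U r :=
  (le_iSup (fun h : Cp r => cj (h : G) U) ⟨h, hh⟩).trans le_sup_left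

theorem U_le_L {r : G} : U ≤ Lp U r := by
  have := A.cj_U_le_L (one_mem (Cp r))
  rwa [cj_one] at this

theorem L_le {r : G} (hr : r ∈ Δ) : Lp U r ≤ Cp r := by
  refine sup_le (iSup_le fun h => ?_) (Q_le r)
  rw [cj_le_iff]
  exact fun u hu => mul_mem (mul_mem h.2 (A.U_cen hr hu)) (inv_mem h.2)

/-- `u ∈ U` and `t_r` commute iff `f(r, u) = 0` -/
theorem U_t {r : G} (hr : r ∈ Δ) {u : G} (hu : u ∈ U) (h : u * t r = t r * u) : f r u = 0 := by
  have h1 := A.u_act hr hu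
  rw [h, mul_inv_cancel_right] at h1
  rcases z2 (f r u) with h2 | h2
  · exact h2
  · rw [h2, pw_one] at h1
    exact absurd (left_eq_mul.1 h1) (A.pz_ne_one hr)

theorem K_U_Q {r : G} (hr : r ∈ Δ) {u : G} (hu : u ∈ U) (hk : u ∈ Kp z r) : u ∈ Qp r :=
  (A.Q_f r hr u hu).2 (A.U_t hr hu ((mem_centralizer_iff.1 hk) _ (A.t_N hr)).symm)

/-- `[K_r, U] ≤ Q_r` -/
theorem KU {r : G} (hr : r ∈ Δ) {k u : G} (hk : k ∈ Kp z r) (hu : u ∈ U) : k * u * k⁻¹ * u⁻¹ ∈ Qp r := by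
  refine A.K_U_Q hr (mul_mem (A.U_M k (A.CN_le_M hr hk) u hu) (inv_mem hu)) ?_
  have h1 := A.K_normal (A.U_cen hr hu) ((Kp z r).inv_mem hk)
  have e : k * u * k⁻¹ * u⁻¹ = k * (u * k⁻¹ * u⁻¹) := by group
  rw [e]
  exact (Kp z r).mul_mem hk h1

/-- `[K_r, L_r] ≤ Q_r` -/
theorem KL {r : G} (hr : r ∈ Δ) {k l : G} (hk : k ∈ Kp z r) (hl : l ∈ Lp U r) :
    k * l * k⁻¹ * l⁻¹ ∈ Qp r := by
  let T : Subgroup G :=
    { carrier := {l | l ∈ Cp r ∧ ∀ k ∈ Kp z r, k * l * k⁻¹ * l⁻¹ ∈ Qp r}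
      one_mem' := ⟨one_mem _, fun k _ => by
        have e : k * 1 * k⁻¹ * 1⁻¹ = 1 := by group
        rw [e]; exact one_mem _⟩
      mul_mem' := by
        rintro a b ⟨ha, ha'⟩ ⟨hb, hb'⟩
        refine ⟨mul_mem ha hb, fun k hk => ?_⟩
        have e : k * (a * b) * k⁻¹ * (a * b)⁻¹ = (k * a * k⁻¹ * a⁻¹) * (a * (k * b * k⁻¹ * b⁻¹) * a⁻¹) := by group
        rw [e]
        exact mul_mem (ha' k hk) (Q_normal ha (hb' k hk))
      inv_mem' := by
        rintro a ⟨ha, ha'⟩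
        refine ⟨inv_mem ha, fun k hk => ?_⟩
        have e : k * a⁻¹ * k⁻¹ * a⁻¹⁻¹ = (a⁻¹ * (k * a * k⁻¹ * a⁻¹) * a⁻¹⁻¹)⁻¹ := by group
        rw [e]
        exact inv_mem (Q_normal (inv_mem ha) (ha' k hk)) }
  have hT : Lp U r ≤ T := by
    refine sup_le (iSup_le fun h => ?_) ?_
    · rw [cj_le_iff]
      intro u hu
      refine ⟨mul_mem (mul_mem h.2 (A.U_cen hr hu)) (inv_mem h.2), fun k hk => ?_⟩
      have h1 : (h : G)⁻¹ * k * h ∈ Kp z r := by
        have := A.K_normal (inv_mem h.2) hk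
        rwa [inv_inv] at this
      have h2 := Q_normal h.2 (A.KU hr h1 hu)
      have e : (h : G) * ((h : G)⁻¹ * k * h * u * ((h : G)⁻¹ * k * h)⁻¹ * u⁻¹) * (h : G)⁻¹ =
          k * (h * u * (h : G)⁻¹) * k⁻¹ * (h * u * (h : G)⁻¹)⁻¹ := by group
      rwa [e] at h2
    · intro x hx
      refine ⟨Q_le r hx, fun k hk => ?_⟩
      exact mul_mem (Q_normal (A.CN_le hr hk) hx) (inv_mem hx)
  exact (hT hl).2 k hk

/-- the two involutions generating `L_r / Q_r` -/
theorem exists_ua (h3 : Three z Δ t) {r : G} (hr : r ∈ Δ) :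
    ∃ u ∈ U, ∃ h0 ∈ Cp r, ∃ a ∈ cj h0 U, h0 * z * h0⁻¹ = t r ∧ f r u = 1 ∧ a = h0 * u * h0⁻¹ ∧
      u * t r * u⁻¹ = r * z * t r ∧ a * t r * a⁻¹ = t r ∧ a * z * a⁻¹ = r * z * t r ∧ a ∈ Cp r := by
  obtain ⟨u, hu, h1⟩ := A.exists_f1 hr
  obtain ⟨h0, hh0, e0⟩ := A.t_ZZ r hr
  have hU : u * t r * u⁻¹ = r * z * t r := by
    rw [A.u_act hr hu, h1, pw_one]
    exact A.N_comm hr (A.t_N hr) (mul_mem (A.p_N hr) (z_N z r))
  refine ⟨u, hu, h0, hh0, h0 * u * h0⁻¹, conj_mem_cj hu, e0.symm, h1, rfl, hU, ?_, ?_,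
    mul_mem (mul_mem hh0 (A.U_cen hr hu)) (inv_mem hh0)⟩
  · rw [e0]
    have h2 := A.U_comm u hu z A.z_U
    calc h0 * u * h0⁻¹ * (h0 * z * h0⁻¹) * (h0 * u * h0⁻¹)⁻¹ = h0 * (u * z) * u⁻¹ * h0⁻¹ := by group
      _ = h0 * (z * u) * u⁻¹ * h0⁻¹ := by rw [h2]
      _ = h0 * z * h0⁻¹ := by group
  · -- `y₁ = h0⁻¹ z h0`
    have hr0 : h0 * r * h0⁻¹ = r := by rw [mem_Cp.1 hh0, mul_inv_cancel_right]
    have hz0 : h0 * (h0⁻¹ * z * h0) * h0⁻¹ = z := by group
    have htr := A.N_sq r hr _ (A.t_N hr)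
    -- `h0 t h0⁻¹ = z` or `r z t`
    have h4 : h0 * t r * h0⁻¹ = (h0 * h0) * z * (h0 * h0)⁻¹ := by rw [e0]; group
    have h5 := h3 r hr (h0 * h0) (mul_mem hh0 hh0)
    rw [← h4] at h5
    have h6 : h0 * (r * z * t r) * h0⁻¹ = r * t r * (h0 * t r * h0⁻¹) := by
      calc h0 * (r * z * t r) * h0⁻¹ = (h0 * r * h0⁻¹) * (h0 * z * h0⁻¹) * (h0 * t r * h0⁻¹) := by group
        _ = r * t r * (h0 * t r * h0⁻¹) := by rw [hr0, ← e0]
    have hrz : r * (r * z * t r) = z * t r := by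
      rw [← mul_assoc, ← mul_assoc, A.U_sq r (A.Δ_U r hr), one_mul]
    have hrt : r * t r = t r * r := A.N_comm hr (A.p_N hr) (A.t_N hr)
    have hzt : z * t r = t r * z := A.N_comm hr (z_N z r) (A.t_N hr)
    rcases h5 with h5 | h5 | h5
    · -- `h0 t h0⁻¹ = z`
      have e : h0 * u * h0⁻¹ * z * (h0 * u * h0⁻¹)⁻¹ = h0 * (u * t r * u⁻¹) * h0⁻¹ := by
        have h7 : t r = h0⁻¹ * z * h0 := by rw [← h5]; group
        rw [h7]; group
      rw [e, hU, h6, h5, mul_assoc, ← hzt, ← mul_assoc]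
    · -- `h0 t h0⁻¹ = t`: then `t = z`
      exfalso
      have h7 : t r = z := by
        have : h0 * t r * h0⁻¹ = h0 * z * h0⁻¹ := by rw [h5, e0]
        have h8 := mul_left_cancel (mul_right_cancel this)
        exact h8
      exact A.t_mv hr fun v hv => by rw [h7]; exact A.U_comm z A.z_U v hv
    · -- `h0 t h0⁻¹ = r z t`
      have e : h0 * u * h0⁻¹ * (r * z * t r) * (h0 * u * h0⁻¹)⁻¹ = h0 * (u * t r * u⁻¹) * h0⁻¹ := by
        rw [← h5]; group
      have e2 : h0 * u * h0⁻¹ * (r * z * t r) * (h0 * u * h0⁻¹)⁻¹ = z := by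
        rw [e, hU, h6, h5, hrt, mul_assoc, hrz, hzt, ← mul_assoc, htr, one_mul]
      have huu : u⁻¹ = u := A.inv_eq hu
      calc h0 * u * h0⁻¹ * z * (h0 * u * h0⁻¹)⁻¹
          = h0 * u * h0⁻¹ * (h0 * u * h0⁻¹ * (r * z * t r) * (h0 * u * h0⁻¹)⁻¹) * (h0 * u * h0⁻¹)⁻¹ := by rw [e2]
        _ = h0 * (u * u) * h0⁻¹ * (r * z * t r) * (h0 * (u * u) * h0⁻¹)⁻¹ := by group
        _ = r * z * t r := by rw [A.U_sq u hu]; group

end Res

end Cfsg.Agent.Omega.HTwo.Eight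

end

-- merged: Cfsg.Agent.Mrg.Omega.HTwo.EightFive
section

/-!
# #15507 (helper779) (6)(ii): `L_r ∩ K_r = Q_r`, `L_r K_r = H_r`, `|L_r| = 6 |Q_r|`
-/

set_option autoImplicit false
set_option Elab.async false

namespace Cfsg.Agent.Omega.HTwo.Eight

open Subgroup Cfsg.Agent.Omega.BTwo

variable {G : Type*} [Group G]

/-- the two involutions generating `L_r / Q_r` -/
structure UA (z : G) (U : Subgroup G) (f : G → G → ZMod 2) (t : G → G) (r u h0 a : G) : Prop where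
  uU : u ∈ U
  h0C : h0 ∈ Cp r
  aC : a ∈ Cp r
  a_def : a = h0 * u * h0⁻¹
  h0z : h0 * z * h0⁻¹ = t r
  f1 : f r u = 1
  ut : u * t r * u⁻¹ = r * z * t r
  ta : a * t r * a⁻¹ = t r
  az : a * z * a⁻¹ = r * z * t r

/-- the six coset representatives -/
def wrd (u a : G) : Fin 6 → G := ![1, u, a, u * a, a * u, u * a * u]

/-- images of `z` -/
def sgz (z y y' : G) : Fin 6 → G := ![z, z, y', y, y', y]

/-- images of `y` -/
def sgy (z y y' : G) : Fin 6 → G := ![y, y', y, y', z, z]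

theorem sg_inj {z y y' : G} (h1 : z ≠ y) (h2 : z ≠ y') (h3 : y ≠ y') (i j : Fin 6)
    (hz : sgz z y y' i = sgz z y y' j) (hy : sgy z y y' i = sgy z y y' j) : i = j := by
  fin_cases i <;> fin_cases j <;> first
    | rfl
    | exact absurd hz h1
    | exact absurd hz h2
    | exact absurd hz h3
    | exact absurd hz h1.symm
    | exact absurd hz h2.symm
    | exact absurd hz h3.symm
    | exact absurd hy h1
    | exact absurd hy h2
    | exact absurd hy h3
    | exact absurd hy h1.symm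
    | exact absurd hy h2.symm
    | exact absurd hy h3.symm

namespace Res

variable {z : G} {M U : Subgroup G} {Δ : Set G} {f : G → G → ZMod 2} {t : G → G} (A : Res z M U Δ f t)
include A

theorem exists_UA (h3 : Three z Δ t) {r : G} (hr : r ∈ Δ) : ∃ u h0 a, UA z U f t r u h0 a := by
  obtain ⟨u, hu, h0, hh0, a, _, e1, e2, e3, e4, e5, e6, e7⟩ := A.exists_ua h3 hr
  exact ⟨u, h0, a, ⟨hu, hh0, e7, e3, e1, e2, e4, e5, e6⟩⟩

variable {r u h0 a : G}

theorem z_ne_t (hr : r ∈ Δ) : z ≠ t r := fun h =>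
  A.t_mv hr fun v hv => by rw [← h]; exact A.U_comm z A.z_U v hv

theorem z_ne_y (hr : r ∈ Δ) : z ≠ r * z * t r := fun h => by
  apply A.t_mv hr
  intro v hv
  have h1 : t r ∈ U := by
    have e : t r = (r * z)⁻¹ * z := by
      calc t r = (r * z)⁻¹ * (r * z * t r) := by group
        _ = (r * z)⁻¹ * z := by rw [← h]
    rw [e]
    exact mul_mem (inv_mem (A.pz_U hr)) A.z_U
  exact A.U_comm _ h1 v hv

theorem t_ne_y (hr : r ∈ Δ) : t r ≠ r * z * t r := fun h => by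
  have h1 : 1 * t r = r * z * t r := by rw [one_mul]; exact h
  exact A.pz_ne_one hr (mul_right_cancel h1).symm

theorem aa (c : UA z U f t r u h0 a) : a * a = 1 := by
  rw [c.a_def]
  calc h0 * u * h0⁻¹ * (h0 * u * h0⁻¹) = h0 * (u * u) * h0⁻¹ := by group
    _ = 1 := by rw [A.U_sq u c.uU]; group

theorem uy (c : UA z U f t r u h0 a) : u * (r * z * t r) * u⁻¹ = t r := by
  rw [← c.ut]
  calc u * (u * t r * u⁻¹) * u⁻¹ = (u * u) * t r * (u * u)⁻¹ := by group
    _ = t r := by rw [A.U_sq u c.uU]; group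

theorem ay (c : UA z U f t r u h0 a) : a * (r * z * t r) * a⁻¹ = z := by
  rw [← c.az]
  calc a * (a * z * a⁻¹) * a⁻¹ = (a * a) * z * (a * a)⁻¹ := by group
    _ = z := by rw [A.aa c]; group

theorem uz (c : UA z U f t r u h0 a) : u * z * u⁻¹ = z := by
  rw [A.U_comm u c.uU z A.z_U, mul_inv_cancel_right]

/-- the action of the six words on `z`, `t_r` -/
theorem wrd_z (c : UA z U f t r u h0 a) (i : Fin 6) :
    wrd u a i * z * (wrd u a i)⁻¹ = sgz z (t r) (r * z * t r) i := by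
  have h1 := A.uz c
  have h2 := c.az
  have h4 := A.uy c
  fin_cases i
  · change (1 : G) * z * 1⁻¹ = z; group
  · exact h1
  · exact h2
  · change u * a * z * (u * a)⁻¹ = t r
    calc u * a * z * (u * a)⁻¹ = u * (a * z * a⁻¹) * u⁻¹ := by group
      _ = t r := by rw [h2, h4]
  · change a * u * z * (a * u)⁻¹ = r * z * t r
    calc a * u * z * (a * u)⁻¹ = a * (u * z * u⁻¹) * a⁻¹ := by group
      _ = r * z * t r := by rw [h1, h2]
  · change u * a * u * z * (u * a * u)⁻¹ = t r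
    calc u * a * u * z * (u * a * u)⁻¹ = u * (a * (u * z * u⁻¹) * a⁻¹) * u⁻¹ := by group
      _ = t r := by rw [h1, h2, h4]

theorem wrd_t (c : UA z U f t r u h0 a) (i : Fin 6) :
    wrd u a i * t r * (wrd u a i)⁻¹ = sgy z (t r) (r * z * t r) i := by
  have h1 := c.ut
  have h2 := c.ta
  have h4 := A.uy c
  have h5 := A.ay c
  have h6 := A.uz c
  fin_cases i
  · change (1 : G) * t r * 1⁻¹ = t r; group
  · exact h1
  · exact h2
  · change u * a * t r * (u * a)⁻¹ = r * z * t r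
    calc u * a * t r * (u * a)⁻¹ = u * (a * t r * a⁻¹) * u⁻¹ := by group
      _ = r * z * t r := by rw [h2, h1]
  · change a * u * t r * (a * u)⁻¹ = z
    calc a * u * t r * (a * u)⁻¹ = a * (u * t r * u⁻¹) * a⁻¹ := by group
      _ = z := by rw [h1, h5]
  · change u * a * u * t r * (u * a * u)⁻¹ = z
    calc u * a * u * t r * (u * a * u)⁻¹ = u * (a * (u * t r * u⁻¹) * a⁻¹) * u⁻¹ := by group
      _ = z := by rw [h1, h5, h6]

theorem wrd_L (hr : r ∈ Δ) (c : UA z U f t r u h0 a) (i : Fin 6) : wrd u a i ∈ Lp U r := by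
  have _ := hr
  have hu : u ∈ Lp U r := A.U_le_L c.uU
  have ha : a ∈ Lp U r := A.cj_U_le_L c.h0C (by rw [c.a_def]; exact conj_mem_cj c.uU)
  fin_cases i
  · exact one_mem _
  · exact hu
  · exact ha
  · exact mul_mem hu ha
  · exact mul_mem ha hu
  · exact mul_mem (mul_mem hu ha) hu

/-- two words congruent mod `K_r` are equal -/
theorem wrd_inj (hr : r ∈ Δ) (c : UA z U f t r u h0 a) (i j : Fin 6) {k : G} (hk : k ∈ Kp z r)
    (e : wrd u a i * k = wrd u a j) : i = j := by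
  have hkz : k * z * k⁻¹ = z := by
    rw [← (mem_centralizer_iff.1 hk) z (z_N z r), mul_inv_cancel_right]
  have hkt : k * t r * k⁻¹ = t r := by
    rw [← (mem_centralizer_iff.1 hk) _ (A.t_N hr), mul_inv_cancel_right]
  refine sg_inj (A.z_ne_t hr) (A.z_ne_y hr) (A.t_ne_y hr) i j ?_ ?_
  · rw [← A.wrd_z c i, ← A.wrd_z c j, ← e]
    calc wrd u a i * z * (wrd u a i)⁻¹ = wrd u a i * (k * z * k⁻¹) * (wrd u a i)⁻¹ := by rw [hkz]
      _ = wrd u a i * k * z * (wrd u a i * k)⁻¹ := by group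
  · rw [← A.wrd_t c i, ← A.wrd_t c j, ← e]
    calc wrd u a i * t r * (wrd u a i)⁻¹ = wrd u a i * (k * t r * k⁻¹) * (wrd u a i)⁻¹ := by rw [hkt]
      _ = wrd u a i * k * t r * (wrd u a i * k)⁻¹ := by group

/-! ### the cosets of `Q_r` in `U_y` -/

theorem U_coset (hr : r ∈ Δ) (c : UA z U f t r u h0 a) {v : G} (hv : v ∈ U) : v ∈ Qp r ∨ v * u⁻¹ ∈ Qp r := by
  rcases z2 (f r v) with h | h
  · exact Or.inl ((A.Q_f r hr v hv).2 h)
  · right
    rw [A.Q_f r hr _ (mul_mem hv (inv_mem c.uU)), A.inv_eq c.uU, A.f_add' (A.Δ_U r hr) hv c.uU, h, c.f1]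
    decide

theorem U_coset' (hr : r ∈ Δ) (c : UA z U f t r u h0 a) {h x : G} (hh : h ∈ Cp r) (hx : x ∈ cj h U) :
    x ∈ Qp r ∨ x * (h * u * h⁻¹)⁻¹ ∈ Qp r := by
  rw [mem_cj] at hx
  rcases A.U_coset hr c hx with h1 | h1
  · left
    have h2 := Q_normal hh h1
    have e : h * (h⁻¹ * x * h) * h⁻¹ = x := by group
    rwa [e] at h2
  · right
    have h2 := Q_normal hh h1
    have e : h * (h⁻¹ * x * h * u⁻¹) * h⁻¹ = x * (h * u * h⁻¹)⁻¹ := by group
    rwa [e] at h2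

theorem u_notin (hr : r ∈ Δ) (c : UA z U f t r u h0 a) : u ∉ Qp r := fun h => by
  have h1 := (A.Q_f r hr u c.uU).1 h
  rw [c.f1] at h1
  exact absurd h1 (by decide)

/-- the braid relation mod `Q_r` -/
theorem braid (hr : r ∈ Δ) (c : UA z U f t r u h0 a) : a * u * a * (u * a * u)⁻¹ ∈ Qp r := by
  have hU := A.U_cen hr c.uU
  have h1 : cj a U = cj (u * h0) U := by
    refine A.cj_U_eq hr c.aC (mul_mem hU c.h0C) ?_
    rw [c.az]
    calc r * z * t r = u * t r * u⁻¹ := c.ut.symm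
      _ = u * (h0 * z * h0⁻¹) * u⁻¹ := by rw [c.h0z]
      _ = u * h0 * z * (u * h0)⁻¹ := by group
  have h2 : a * u * a⁻¹ ∈ cj (u * h0) U := by rw [← h1]; exact conj_mem_cj c.uU
  rcases A.U_coset' hr c (mul_mem hU c.h0C) h2 with h4 | h4
  · exfalso
    have h5 := Q_normal (inv_mem c.aC) h4
    have e : a⁻¹ * (a * u * a⁻¹) * a⁻¹⁻¹ = u := by group
    rw [e] at h5
    exact A.u_notin hr c h5
  · have ha : a⁻¹ = a := inv_eq_of_mul_eq_one_left (A.aa c)
    have hu : u⁻¹ = u := A.inv_eq c.uU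
    have e : a * u * a⁻¹ * (u * h0 * u * (u * h0)⁻¹)⁻¹ = a * u * a⁻¹ * (u * (h0 * u * h0⁻¹) * u⁻¹)⁻¹ := by group
    rw [e, ← c.a_def, ha, hu] at h4
    exact h4

/-- every element of `L_r` is congruent to one of the six words -/
theorem L_mem (h3 : Three z Δ t) (hr : r ∈ Δ) (c : UA z U f t r u h0 a) {l : G} (hl : l ∈ Lp U r) :
    ∃ i, (wrd u a i)⁻¹ * l ∈ Qp r := by
  have hU := A.U_cen hr c.uU
  have hn : ((Qp r).subgroupOf (Cp r)).Normal :=
    ⟨fun x hx g => Q_normal g.2 hx⟩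
  let π := QuotientGroup.mk' ((Qp r).subgroupOf (Cp r))
  have hπ : ∀ (x y : G) (hx : x ∈ Cp r) (hy : y ∈ Cp r), x⁻¹ * y ∈ Qp r → π ⟨x, hx⟩ = π ⟨y, hy⟩ := by
    intro x y hx hy h
    exact QuotientGroup.eq.2 h
  have hπ' : ∀ (x y : G) (hx : x ∈ Cp r) (hy : y ∈ Cp r), π ⟨x, hx⟩ = π ⟨y, hy⟩ → x⁻¹ * y ∈ Qp r := by
    intro x y hx hy h
    have h' : ((⟨x, hx⟩ : Cp r) : Cp r ⧸ (Qp r).subgroupOf (Cp r)) = ((⟨y, hy⟩ : Cp r) : _) := h
    have h2 := QuotientGroup.eq.1 h'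
    exact h2
  -- `x y⁻¹ ∈ Q` also suffices
  have hπ2 : ∀ (x y : G) (hx : x ∈ Cp r) (hy : y ∈ Cp r), x * y⁻¹ ∈ Qp r → π ⟨x, hx⟩ = π ⟨y, hy⟩ := by
    intro x y hx hy h
    refine (hπ y x hy hx ?_).symm
    have h1 := Q_normal (inv_mem hy) h
    have e : y⁻¹ * (x * y⁻¹) * y⁻¹⁻¹ = y⁻¹ * x := by group
    rwa [e] at h1
  set s := π ⟨u, hU⟩ with hs
  set b := π ⟨a, c.aC⟩ with hb
  have hss : s * s = 1 := by
    rw [hs, ← map_mul]
    have e : (⟨u, hU⟩ : Cp r) * ⟨u, hU⟩ = 1 := Subtype.ext (A.U_sq u c.uU)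
    rw [e, map_one]
  have hbb : b * b = 1 := by
    rw [hb, ← map_mul]
    have e : (⟨a, c.aC⟩ : Cp r) * ⟨a, c.aC⟩ = 1 := Subtype.ext (A.aa c)
    rw [e, map_one]
  have hbr : b * s * b = s * b * s :=
    hπ2 (a * u * a) (u * a * u) (mul_mem (mul_mem c.aC hU) c.aC) (mul_mem (mul_mem hU c.aC) hU) (A.braid hr c)
  let T : Subgroup G := ((closure ({s, b} : Set _)).comap π).map (Cp r).subtype
  have hT : ∀ x (hx : x ∈ Cp r), π ⟨x, hx⟩ ∈ closure ({s, b} : Set _) → x ∈ T := fun x hx h =>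
    ⟨⟨x, hx⟩, h, rfl⟩
  have hs1 : s ∈ closure ({s, b} : Set _) := subset_closure (Or.inl rfl)
  have hb1 : b ∈ closure ({s, b} : Set _) := subset_closure (Or.inr rfl)
  have hQT : Qp r ≤ T := by
    intro x hx
    refine hT x (Q_le r hx) ?_
    have h1 : π ⟨x, Q_le r hx⟩ = 1 := (QuotientGroup.eq_one_iff _).2 hx
    rw [h1]
    exact one_mem _
  -- the conjugates
  have hcj : ∀ h (hh : h ∈ Cp r), π ⟨h * u * h⁻¹, mul_mem (mul_mem hh hU) (inv_mem hh)⟩ ∈ closure ({s, b} : Set _) →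
      cj h U ≤ T := by
    intro h hh h1 x hx
    have hxC : x ∈ Cp r := by
      rw [mem_cj] at hx
      have h5 := mul_mem (mul_mem hh (A.U_cen hr hx)) (inv_mem hh)
      have e : h * (h⁻¹ * x * h) * h⁻¹ = x := by group
      rwa [e] at h5
    rcases A.U_coset' hr c hh hx with h2 | h2
    · exact hQT h2
    · refine hT x hxC ?_
      rw [hπ2 x (h * u * h⁻¹) hxC (mul_mem (mul_mem hh hU) (inv_mem hh)) h2]
      exact h1
  have hLT : Lp U r ≤ T := by
    refine sup_le (iSup_le fun h => ?_) hQT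
    rcases h3 r hr (h : G) h.2 with h1 | h1 | h1
    · -- `U`
      rw [A.cj_U_M (A.stab hr h.2 h1)]
      have := hcj 1 (one_mem _) (by
        have e : π ⟨1 * u * 1⁻¹, mul_mem (mul_mem (one_mem _) hU) (inv_mem (one_mem _))⟩ = s := by
          rw [hs]
          congr 1
          exact Subtype.ext (by change (1 : G) * u * 1⁻¹ = u; group)
        rw [e]; exact hs1)
      rwa [cj_one] at this
    · rw [A.cj_U_eq hr h.2 c.h0C (h1.trans c.h0z.symm)]
      refine hcj h0 c.h0C ?_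
      have e : π ⟨h0 * u * h0⁻¹, mul_mem (mul_mem c.h0C hU) (inv_mem c.h0C)⟩ = b := by
        rw [hb]
        congr 1
        exact Subtype.ext c.a_def.symm
      rw [e]; exact hb1
    · have h2 : u * h0 ∈ Cp r := mul_mem hU c.h0C
      have h4 : cj (h : G) U = cj (u * h0) U := by
        refine A.cj_U_eq hr h.2 h2 ?_
        rw [h1, ← c.ut, ← c.h0z]; group
      rw [h4]
      refine hcj (u * h0) h2 ?_
      have e : π ⟨u * h0 * u * (u * h0)⁻¹, mul_mem (mul_mem h2 hU) (inv_mem h2)⟩ = s * b * s⁻¹ := by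
        rw [hs, hb, ← map_inv, ← map_mul, ← map_mul]
        congr 1
        refine Subtype.ext ?_
        change u * h0 * u * (u * h0)⁻¹ = u * a * u⁻¹
        rw [c.a_def]; group
      rw [e]
      exact mul_mem (mul_mem hs1 hb1) (inv_mem hs1)
  obtain ⟨⟨x, hxC⟩, hx, e⟩ := hLT hl
  change x = l at e
  subst e
  have hx' : π ⟨x, hxC⟩ ∈ closure ({s, b} : Set _) := hx
  rcases six hss hbb hbr _ hx' with h | h | h | h | h | h
  · exact ⟨0, hπ' 1 x (one_mem _) hxC h.symm⟩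
  · exact ⟨1, hπ' u x hU hxC h.symm⟩
  · exact ⟨2, hπ' a x c.aC hxC h.symm⟩
  · exact ⟨3, hπ' (u * a) x (mul_mem hU c.aC) hxC h.symm⟩
  · exact ⟨4, hπ' (a * u) x (mul_mem c.aC hU) hxC h.symm⟩
  · exact ⟨5, hπ' (u * a * u) x (mul_mem (mul_mem hU c.aC) hU) hxC h.symm⟩

theorem L_inf_K (h3 : Three z Δ t) (hr : r ∈ Δ) : Lp U r ⊓ Kp z r = Qp r := by
  obtain ⟨u, h0, a, c⟩ := A.exists_UA h3 hr
  apply le_antisymm
  · rintro l ⟨hl, hk⟩
    obtain ⟨i, hi⟩ := A.L_mem h3 hr c hl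
    have h1 : wrd u a i ∈ Kp z r := by
      have e : wrd u a i = l * ((wrd u a i)⁻¹ * l)⁻¹ := by group
      rw [e]
      exact (Kp z r).mul_mem hk ((Kp z r).inv_mem (A.Q_le_K hr hi))
    have h2 : (0 : Fin 6) = i := A.wrd_inj hr c 0 i h1 (one_mul _)
    rw [← h2] at hi
    change (1 : G)⁻¹ * l ∈ Qp r at hi
    rwa [inv_one, one_mul] at hi
  · exact le_inf (A.Q_le_L r) (A.Q_le_K hr)

theorem L_card (h3 : Three z Δ t) (hr : r ∈ Δ) : Nat.card (Lp U r) = 6 * Nat.card (Qp r) := by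
  obtain ⟨u, h0, a, c⟩ := A.exists_UA h3 hr
  exact card_of_cosets (wrd u a) (fun i x hx => mul_mem (A.wrd_L hr c i) (A.Q_le_L r hx))
    (fun i j x hx e => A.wrd_inj hr c i j (A.Q_le_K hr hx) e) (fun b hb => A.L_mem h3 hr c hb)

/-- `C_{H_r}(z) = K_r U` -/
theorem C_rz (h3 : Three z Δ t) (hr : r ∈ Δ) : Cp r ⊓ Cp z = Kp z r ⊔ U := by
  obtain ⟨u, h0, a, c⟩ := A.exists_UA h3 hr
  apply le_antisymm
  · rintro g ⟨hg1, hg2⟩
    have hgr := mem_Cp.1 hg1
    have hgz := mem_Cp.1 hg2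
    have e1 : g * t r * g⁻¹ = (g * h0) * z * (g * h0)⁻¹ := by rw [← c.h0z]; group
    rcases h3 r hr (g * h0) (mul_mem hg1 c.h0C) with h | h | h
    · exfalso
      rw [← e1] at h
      apply A.z_ne_t hr
      calc z = g⁻¹ * (g * z) := by group
        _ = g⁻¹ * (z * g) := by rw [hgz]
        _ = g⁻¹ * (g * t r * g⁻¹ * g) := by rw [h]
        _ = t r := by group
    · rw [← e1] at h
      rw [mul_inv_eq_iff_eq_mul] at h
      exact mem_sup_left ((A.mem_K h3 hr).2 ⟨hgr, hgz, h⟩)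
    · rw [← e1] at h
      have huC := A.U_cen hr c.uU
      have h1 : u * g ∈ Kp z r := by
        refine (A.mem_K h3 hr).2 ⟨?_, ?_, ?_⟩
        · exact mem_Cp.1 (mul_mem huC hg1)
        · rw [mul_assoc, hgz, ← mul_assoc, A.U_comm u c.uU z A.z_U, mul_assoc]
        · rw [← mul_inv_eq_iff_eq_mul]
          calc u * g * t r * (u * g)⁻¹ = u * (g * t r * g⁻¹) * u⁻¹ := by group
            _ = t r := by rw [h, A.uy c]
      have e2 : g = u⁻¹ * (u * g) := by group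
      rw [e2]
      exact mul_mem (mem_sup_right (inv_mem c.uU)) (mem_sup_left h1)
  · refine sup_le (le_inf (A.CN_le hr) ?_) (le_inf (A.U_cen hr) ?_)
    · exact fun k hk => mem_Cp.2 ((mem_centralizer_iff.1 hk) z (z_N z r)).symm
    · exact fun v hv => mem_Cp.2 (A.U_comm v hv z A.z_U)

theorem L_sup_K (h3 : Three z Δ t) (hr : r ∈ Δ) : Lp U r ⊔ Kp z r = Cp r := by
  obtain ⟨u, h0, a, c⟩ := A.exists_UA h3 hr
  apply le_antisymm (sup_le (A.L_le hr) (A.CN_le hr))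
  intro h hh
  -- a word with the same image of `z`
  have h1 : ∃ i, wrd u a i * z * (wrd u a i)⁻¹ = h * z * h⁻¹ := by
    rcases h3 r hr h hh with h1 | h1 | h1
    · exact ⟨0, by rw [h1, A.wrd_z c]; rfl⟩
    · exact ⟨3, by rw [h1, A.wrd_z c]; rfl⟩
    · exact ⟨2, by rw [h1, A.wrd_z c]; rfl⟩
  obtain ⟨i, hi⟩ := h1
  have hw := A.wrd_L hr c i
  have h2 : (wrd u a i)⁻¹ * h ∈ Kp z r ⊔ U := by
    rw [← A.C_rz h3 hr]
    refine ⟨(Cp r).mul_mem ((Cp r).inv_mem (A.L_le hr hw)) hh, mem_Cp.2 ?_⟩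
    rw [← mul_inv_eq_iff_eq_mul]
    calc (wrd u a i)⁻¹ * h * z * ((wrd u a i)⁻¹ * h)⁻¹ = (wrd u a i)⁻¹ * (h * z * h⁻¹) * wrd u a i := by group
      _ = (wrd u a i)⁻¹ * (wrd u a i * z * (wrd u a i)⁻¹) * wrd u a i := by rw [hi]
      _ = z := by group
  have e : h = wrd u a i * ((wrd u a i)⁻¹ * h) := by group
  rw [e]
  refine mul_mem (mem_sup_left hw) ?_
  exact (sup_le (le_sup_right : Kp z r ≤ _) (A.U_le_L.trans le_sup_left)) h2

theorem L_norm (r : G) : Cp r ≤ normalizer (Lp U r : Set G) := by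
  have _ := A
  intro g hg
  rw [← cj_eq_self_iff]
  have key : ∀ g ∈ Cp r, cj g (Lp U r) ≤ Lp U r := by
    intro g hg
    rw [Lp, cj_sup, cj_iSup]
    refine sup_le (iSup_le fun h => ?_) ?_
    · rw [← cj_mul]
      exact (le_iSup (fun h : Cp r => cj (h : G) U) ⟨g * h, mul_mem hg h.2⟩).trans le_sup_left
    · refine le_trans ?_ le_sup_right
      rw [cj_le_iff]
      exact fun x hx => Q_normal hg hx
  apply le_antisymm (key g hg)
  have h1 := cj_mono (g := g) (key g⁻¹ (inv_mem hg))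
  rwa [cj_cj_inv] at h1

end Res

end Cfsg.Agent.Omega.HTwo.Eight

end

-- merged: Cfsg.Agent.Mrg.Omega.HTwo.EightSix
section

/-!
# #15507 (helper779) (6)(iii): `K_r` is transitive on the points `≠ r` of `r^⊥`;
`Q_r / ζ_r = Ũ_z ⊕ Ũ_y`; `ζ_r = N_r`
-/

set_option autoImplicit false
set_option Elab.async false

namespace Cfsg.Agent.Omega.HTwo.Eight

open Subgroup Cfsg.Agent.Omega.BTwo

variable {G : Type*} [Group G]

/-- `A Z` for commuting subgroups -/
def mulSub (A Z : Subgroup G) (h : ∀ a ∈ A, ∀ n ∈ Z, a * n = n * a) : Subgroup G where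
  carrier := {x | ∃ a ∈ A, ∃ n ∈ Z, x = a * n}
  one_mem' := ⟨1, one_mem _, 1, one_mem _, (one_mul _).symm⟩
  mul_mem' := by
    rintro _ _ ⟨a, ha, n, hn, rfl⟩ ⟨b, hb, m, hm, rfl⟩
    refine ⟨a * b, mul_mem ha hb, n * m, mul_mem hn hm, ?_⟩
    calc a * n * (b * m) = a * (n * b) * m := by group
      _ = a * (b * n) * m := by rw [h b hb n hn]
      _ = a * b * (n * m) := by group
  inv_mem' := by
    rintro _ ⟨a, ha, n, hn, rfl⟩
    refine ⟨a⁻¹, inv_mem ha, n⁻¹, inv_mem hn, ?_⟩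
    rw [h a ha n hn, mul_inv_rev]

open Classical in
/-- the commutator of `x`, `y` as an element of `F₂` -/
noncomputable def cm (x y : G) : ZMod 2 := if x * y = y * x then 0 else 1

theorem cm_zero {x y : G} (h : cm x y = 0) : x * y = y * x := by
  by_contra hne
  rw [cm, if_neg hne] at h
  exact absurd h (by decide)

theorem cm_of {x y : G} (h : x * y = y * x) : cm x y = 0 := if_pos h

namespace Res

variable {z : G} {M U : Subgroup G} {Δ : Set G} {f : G → G → ZMod 2} {t : G → G} (A : Res z M U Δ f t)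
include A

/-! ### transitivity -/

/-- `t_s ∈ K_r` for `s ⊥ r` -/
theorem t_K (h3 : Three z Δ t) {r s : G} (hr : r ∈ Δ) (hs : s ∈ Δ) (h : f r s = 0) : t s ∈ Kp z r := by
  have hrU := A.Δ_U r hr
  have hsU := A.Δ_U s hs
  by_cases hne : s = r
  · rw [hne, mem_centralizer_iff]
    exact fun n hn => A.N_comm hr hn (A.t_N hr)
  refine (A.mem_K h3 hr).2 ⟨A.t_0 s hs r hrU (by rw [A.f_symm s hsU r hrU, h]), A.mz (A.t_M hs), ?_⟩
  -- the commutator
  have hsr : t s ∈ Cp r := mem_Cp.2 (A.t_0 s hs r hrU (by rw [A.f_symm s hsU r hrU, h]))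
  have hrs : t r ∈ Cp s := mem_Cp.2 (A.t_0 r hr s hsU h)
  set c := t r * t s * (t r)⁻¹ * (t s)⁻¹ with hc
  have hcs : c ∈ Np z s := mul_mem (N_normal hrs (A.t_N hs)) (inv_mem (A.t_N hs))
  have hcr : c ∈ Np z r := by
    have e : c = t r * (t s * (t r)⁻¹ * (t s)⁻¹) := by rw [hc]; group
    rw [e]
    exact mul_mem (A.t_N hr) (N_normal hsr (inv_mem (A.t_N hr)))
  -- `c` centralises `U`
  have hcU : ∀ u ∈ U, c * u = u * c := by
    rcases A.act_or hs hcs with h1 | h1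
    · exact h1
    rcases A.act_or hr hcr with h2 | h2
    · exact h2
    exfalso
    obtain ⟨u, hu, hu1⟩ := A.exists_f1 hs
    have h4 := (h1 u hu).symm.trans (h2 u hu)
    have h5 := mul_left_cancel h4
    rw [hu1, pw_one] at h5
    rcases z2 (f r u) with h6 | h6
    · rw [h6, pw_zero] at h5; exact A.pz_ne_one hs h5
    · rw [h6, pw_one] at h5; exact hne (mul_right_cancel h5)
  have key : c = 1 ∨ c = z := by
    rcases A.N_cenU h3 hs hcs hcU with h1 | h1 | h1 | h1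
    · exact Or.inl h1
    · rcases A.N_cenU h3 hr hcr hcU with h2 | h2 | h2 | h2
      · exact absurd (h1.symm.trans h2) (A.p_ne_one hs)
      · exact absurd (h1.symm.trans h2) hne
      · exact absurd (h1.symm.trans h2) (A.p_ne_z hs)
      · exact absurd (h1.symm.trans h2 ▸ hs) (A.inj r hr)
    · exact Or.inr h1
    · rcases A.N_cenU h3 hr hcr hcU with h2 | h2 | h2 | h2
      · exact absurd (h1.symm.trans h2) (A.pz_ne_one hs)
      · exact absurd ((h1.symm.trans h2).symm ▸ hr) (A.inj s hs)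
      · have h4 := h1.symm.trans h2
        exact absurd (mul_eq_right.1 h4) (A.p_ne_one hs)
      · exact absurd (mul_right_cancel (h1.symm.trans h2)) hne
  rcases key with h1 | h1
  · rw [hc, mul_inv_eq_one, mul_inv_eq_iff_eq_mul] at h1
    exact h1.symm
  · exfalso
    rw [hc, mul_inv_eq_iff_eq_mul] at h1
    obtain ⟨k, hk, e⟩ := A.t_ZZ s hs
    have h2 := h3 s hs (t r * k) (mul_mem hrs hk)
    have e2 : t r * k * z * (t r * k)⁻¹ = t r * t s * (t r)⁻¹ := by rw [e]; group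
    rw [e2, h1] at h2
    rcases h2 with h4 | h4 | h4
    · have h5 : t s = 1 := mul_eq_left.1 h4
      apply A.t_mv hs
      intro u _
      rw [h5, one_mul, mul_one]
    · exact A.z1 (mul_eq_right.1 h4)
    · have h5 := mul_right_cancel h4
      exact A.p_ne_one hs (right_eq_mul.1 h5)

theorem f_pw {u g : G} (hu : u ∈ U) (hg : g ∈ U) (c : ZMod 2) : f (pw g c) u = c * f u g := by
  rcases z2 c with h | h
  · rw [h, pw_zero, A.one_f hu, zero_mul]
  · rw [h, pw_one, A.f_symm g hg u hu, one_mul]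

/-- a common neighbour in `r^⊥` -/
theorem common {r p q : G} (hr : r ∈ Δ) (hp : p ∈ Δ) (hq : q ∈ Δ) (hpr : p ≠ r) (hqr : q ≠ r) (hne : p ≠ q)
    (hpq : f p q = 0) (h2 : p * q ≠ r) : ∃ s ∈ Δ, f r s = 0 ∧ f p s = 1 ∧ f q s = 1 := by
  have hrU := A.Δ_U r hr
  have hpU := A.Δ_U p hp
  have hqU := A.Δ_U q hq
  let v : Fin 3 → G := ![r, p, q]
  have hv : ∀ i, v i ∈ U := by
    intro i; fin_cases i
    · exact hrU
    · exact hpU
    · exact hqU
  -- products
  have key : ∀ a b : G, a ∈ Δ → b ∈ Δ → a ≠ b → a * b ≠ 1 ∧ a * b ≠ z := by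
    intro a b ha hb hab
    refine ⟨fun h => hab ?_, fun h => ?_⟩
    · rw [← A.inv_eq (A.Δ_U b hb)]; exact mul_eq_one_iff_eq_inv.1 h
    · have h4 : b * z ∈ Δ := by
        have e : b * z = a := by
          rw [A.U_comm b (A.Δ_U b hb) z A.z_U, ← h, mul_assoc, A.U_sq b (A.Δ_U b hb), mul_one]
        rw [e]; exact ha
      exact A.inj b hb h4
  obtain ⟨s, hs, h⟩ := exists_vals (U := U) (fun i u => f u (v i))
    (fun i u hu w hw => A.f_add u hu w hw _ (hv i)) (fun c hc => by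
      -- the vector
      have hw : pw r (c 0) * pw p (c 1) * pw q (c 2) ∈ U :=
        mul_mem (mul_mem (pw_mem hrU _) (pw_mem hpU _)) (pw_mem hqU _)
      have h1 : ∀ u ∈ U, f (pw r (c 0) * pw p (c 1) * pw q (c 2)) u = 0 := by
        intro u hu
        rw [A.f_add _ (mul_mem (pw_mem hrU _) (pw_mem hpU _)) _ (pw_mem hqU _) u hu,
          A.f_add _ (pw_mem hrU _) _ (pw_mem hpU _) u hu, A.f_pw hu hrU, A.f_pw hu hpU, A.f_pw hu hqU]
        have h4 := hc u hu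
        rw [Fin.sum_univ_three] at h4
        exact h4
      have h5 := A.f_rad _ hw h1
      have hfin : c 0 = 0 ∧ c 1 = 0 ∧ c 2 = 0 := by
        have e1 : p * q ∈ Δ := A.mul0 p hp q hq hne hpq
        rcases z2 (c 0) with h6 | h6 <;> rcases z2 (c 1) with h7 | h7 <;> rcases z2 (c 2) with h8 | h8 <;>
          rw [h6, h7, h8] at h5 ⊢ <;> simp only [pw_zero, pw_one, one_mul, mul_one] at h5
        · exact ⟨rfl, rfl, rfl⟩
        · exact absurd h5 (not_or.2 ⟨A.p_ne_one hq, A.p_ne_z hq⟩)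
        · exact absurd h5 (not_or.2 ⟨A.p_ne_one hp, A.p_ne_z hp⟩)
        · exact absurd h5 (not_or.2 (key p q hp hq hne))
        · exact absurd h5 (not_or.2 ⟨A.p_ne_one hr, A.p_ne_z hr⟩)
        · exact absurd h5 (not_or.2 (key r q hr hq (Ne.symm hqr)))
        · exact absurd h5 (not_or.2 (key r p hr hp (Ne.symm hpr)))
        · rw [mul_assoc] at h5
          exact absurd h5 (not_or.2 (key r (p * q) hr e1 (Ne.symm h2)))
      funext i
      fin_cases i
      · exact hfin.1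
      · exact hfin.2.1
      · exact hfin.2.2) ![0, 1, 1]
  have h0 : f s r = 0 := h 0
  have h1 : f s p = 1 := h 1
  have h4 : f s q = 1 := h 2
  have e0 : f r s = 0 := by rw [A.f_symm r hrU s hs, h0]
  have e1 : f p s = 1 := by rw [A.f_symm p hpU s hs, h1]
  have e4 : f q s = 1 := by rw [A.f_symm q hqU s hs, h4]
  rcases A.cover s hs with h5 | h5 | h5 | h5
  · rw [h5, A.f_one hpU] at e1; exact absurd e1 (by decide)
  · rw [h5, A.f_z' hpU] at e1; exact absurd e1 (by decide)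
  · exact ⟨s, h5, e0, e1, e4⟩
  · refine ⟨s * z, h5, ?_, ?_, ?_⟩
    · rw [A.f_add' hrU hs A.z_U, A.f_z' hrU, e0, add_zero]
    · rw [A.f_add' hpU hs A.z_U, A.f_z' hpU, e1, add_zero]
    · rw [A.f_add' hqU hs A.z_U, A.f_z' hqU, e4, add_zero]

/-- `K_r` is transitive on the points `≠ r` of `r^⊥` -/
theorem K_tr (h3 : Three z Δ t) {r p q : G} (hr : r ∈ Δ) (hp : p ∈ Δ) (hq : q ∈ Δ) (hpr : p ≠ r) (hqr : q ≠ r)
    (hrp : f r p = 0) (hrq : f r q = 0) : ∃ k ∈ Kp z r, k * p * k⁻¹ = q := by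
  have hrU := A.Δ_U r hr
  -- adjacent points
  have tr1 : ∀ p ∈ Δ, ∀ q ∈ Δ, f r p = 0 → f r q = 0 → f p q = 1 → ∃ k ∈ Kp z r, k * p * k⁻¹ = q := by
    intro p hp q hq hrp hrq hpq
    have hpU := A.Δ_U p hp
    have hqU := A.Δ_U q hq
    have hs := A.mul1 p hp q hq hpq
    have hpqU : p * q ∈ U := mul_mem hpU hqU
    refine ⟨t (p * q * z), A.t_K h3 hr hs ?_, ?_⟩
    · rw [A.f_add' hrU hpqU A.z_U, A.f_z' hrU, A.f_add' hrU hpU hqU, hrp, hrq]; decide
    · rw [A.t_act hs hpU, A.f_add _ hpqU z A.z_U p hpU, A.f_z p hpU, A.f_add p hpU q hqU p hpU, A.f_self p hpU,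
        A.f_symm q hqU p hpU, hpq, zero_add, add_zero, pw_one]
      calc p * (p * q * z * z) = (p * p) * q * (z * z) := by group
        _ = q := by rw [A.U_sq p hpU, A.zz, one_mul, mul_one]
  by_cases hne : p = q
  · exact ⟨1, one_mem _, by rw [hne]; group⟩
  rcases z2 (f p q) with hpq | hpq
  · by_cases h2 : p * q = r
    · obtain ⟨g, hg, e⟩ := A.Q_mv r hr p hp (Ne.symm hpr) hrp
      refine ⟨g, A.Q_le_K hr hg, ?_⟩
      rw [e, ← h2, ← mul_assoc, A.U_sq p (A.Δ_U p hp), one_mul]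
    · obtain ⟨s, hs, h0, h1, h4⟩ := A.common hr hp hq hpr hqr hne hpq h2
      obtain ⟨k, hk, e⟩ := tr1 p hp s hs hrp h0 h1
      obtain ⟨k', hk', e'⟩ := tr1 s hs q hq h0 hrq (by rw [A.f_symm s (A.Δ_U s hs) q (A.Δ_U q hq), h4])
      refine ⟨k' * k, (Kp z r).mul_mem hk' hk, ?_⟩
      calc k' * k * p * (k' * k)⁻¹ = k' * (k * p * k⁻¹) * k'⁻¹ := by group
        _ = q := by rw [e, e']
  · exact tr1 p hp q hq hrp hrq hpq

/-! ### the subgroups `(U_y ∩ Q_r) ζ_r` -/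

end Res

/-- `(U^h ∩ Q_r) ζ_r` -/
def AA (U : Subgroup G) (r h : G) : Subgroup G :=
  mulSub (cj h U ⊓ Qp r) (Zp r) (fun _ ha _ hn => (Z_comm hn ha.2).symm)

theorem mem_AA {U : Subgroup G} {r h x : G} :
    x ∈ AA U r h ↔ ∃ a ∈ cj h U ⊓ Qp r, ∃ n ∈ Zp r, x = a * n := Iff.rfl

theorem Zp_le_AA {U : Subgroup G} {r h : G} : Zp r ≤ AA U r h := fun x hx =>
  ⟨1, one_mem _, x, hx, (one_mul _).symm⟩

theorem le_AA {U : Subgroup G} {r h : G} : cj h U ⊓ Qp r ≤ AA U r h := fun x hx =>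
  ⟨x, hx, 1, one_mem _, (mul_one _).symm⟩

theorem AA_le_Q {U : Subgroup G} {r h : G} : AA U r h ≤ Qp r := by
  rintro _ ⟨a, ha, n, hn, rfl⟩
  exact mul_mem ha.2 hn.1

theorem conj_AA {U : Subgroup G} {r h g : G} (hg : g ∈ Cp r) {x : G} (hx : x ∈ AA U r h) :
    g * x * g⁻¹ ∈ AA U r (g * h) := by
  obtain ⟨a, ha, n, hn, rfl⟩ := hx
  refine ⟨g * a * g⁻¹, ⟨?_, Q_normal hg ha.2⟩, g * n * g⁻¹, Z_normal hg hn, by group⟩
  have h1 := conj_mem_cj (g := g) ha.1
  rw [← cj_mul] at h1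
  exact h1

namespace Res

variable {z : G} {M U : Subgroup G} {Δ : Set G} {f : G → G → ZMod 2} {t : G → G} (A : Res z M U Δ f t)
include A

variable {r : G}

theorem AA_eq (hr : r ∈ Δ) {h k : G} (hh : h ∈ Cp r) (hk : k ∈ Cp r) (e : h * z * h⁻¹ = k * z * k⁻¹) :
    AA U r h = AA U r k := by
  ext x
  rw [mem_AA, mem_AA, A.cj_U_eq hr hh hk e]

theorem cj_comm (h : G) {x y : G} (hx : x ∈ cj h U) (hy : y ∈ cj h U) : x * y = y * x := by
  rw [mem_cj] at hx hy
  have h1 := A.U_comm _ hx _ hy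
  calc x * y = h * (h⁻¹ * x * h * (h⁻¹ * y * h)) * h⁻¹ := by group
    _ = h * (h⁻¹ * y * h * (h⁻¹ * x * h)) * h⁻¹ := by rw [h1]
    _ = y * x := by group

theorem AA_comm {h : G} {x y : G} (hx : x ∈ AA U r h) (hy : y ∈ AA U r h) : x * y = y * x := by
  obtain ⟨a, ha, n, hn, rfl⟩ := hx
  obtain ⟨b, hb, m, hm, rfl⟩ := hy
  have h1 : Commute a b := A.cj_comm h ha.1 hb.1
  have h2 : Commute n b := Z_comm hn hb.2
  have h4 : Commute n m := Z_comm hn hm.1
  have h5 : Commute a m := (Z_comm hm ha.2).symm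
  exact ((h1.mul_right h5).mul_left (h2.mul_right h4)).eq

/-- the conjugate of `z` is determined by `K_r` -/
theorem K_z {h k : G} (hh : h ∈ Cp r) (hk : k ∈ Kp z r) : (k * h) * z * (k * h)⁻¹ = h * z * h⁻¹ := by
  have _ := A
  have h1 : h * z * h⁻¹ ∈ Np z r := subset_closure ⟨h, hh, rfl⟩
  have h2 := (mem_centralizer_iff.1 hk) _ h1
  calc (k * h) * z * (k * h)⁻¹ = k * (h * z * h⁻¹) * k⁻¹ := by group
    _ = (h * z * h⁻¹) * k * k⁻¹ := by rw [h2]
    _ = h * z * h⁻¹ := by group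

/-- `Ũ_z ∩ Ũ_y = 0` -/
theorem int (h3 : Three z Δ t) (hr : r ∈ Δ)
    (nab : ∃ h ∈ Cp r, ∃ u ∈ U ⊓ Qp r, ∃ v ∈ U ⊓ Qp r, u * (h * v * h⁻¹) ≠ h * v * h⁻¹ * u)
    {h : G} (hh : h ∈ Cp r) (hz : h * z * h⁻¹ ≠ z) {u0 : G} (hu0 : u0 ∈ U ⊓ Qp r) (hA : u0 ∈ AA U r h) :
    u0 ∈ Zp r := by
  by_contra hnZ
  have hrU := A.Δ_U r hr
  have hrZ : r ∈ Zp r := A.N_Z r hr (A.p_N hr)
  have hzZ : z ∈ Zp r := A.N_Z r hr (z_N z r)
  -- a point
  have hex : ∃ p ∈ Δ, p ∈ AA U r h ∧ f r p = 0 ∧ p ≠ r := by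
    rcases A.cover u0 hu0.1 with e | e | e | e
    · exact absurd (e ▸ one_mem _) hnZ
    · exact absurd (e ▸ hzZ) hnZ
    · exact ⟨u0, e, hA, (A.Q_f r hr u0 hu0.1).1 hu0.2, fun e' => hnZ (e' ▸ hrZ)⟩
    · refine ⟨u0 * z, e, mul_mem hA (Zp_le_AA hzZ), (A.Q_f r hr _ (mul_mem hu0.1 A.z_U)).1 (mul_mem hu0.2 hzZ.1), ?_⟩
      intro e'
      apply hnZ
      have e2 : u0 = r * z := by rw [← e', mul_assoc, A.zz, mul_one]
      rw [e2]
      exact mul_mem hrZ hzZ
  obtain ⟨p, hp, hpA, hp0, hpr⟩ := hex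
  -- all points of `r^⊥`
  have hall : ∀ q ∈ Δ, f r q = 0 → q ∈ AA U r h := by
    intro q hq hq0
    by_cases hqr : q = r
    · rw [hqr]; exact Zp_le_AA hrZ
    · obtain ⟨k, hk, e⟩ := A.K_tr h3 hr hp hq hpr hqr hp0 hq0
      have hkC := A.CN_le hr hk
      rw [← e, ← A.AA_eq hr (mul_mem hkC hh) hh (A.K_z hh hk)]
      exact conj_AA hkC hpA
  have hall2 : ∀ v ∈ U ⊓ Qp r, v ∈ AA U r h := by
    intro v hv
    have hv0 := (A.Q_f r hr v hv.1).1 hv.2
    rcases A.cover v hv.1 with e | e | e | e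
    · rw [e]; exact one_mem _
    · rw [e]; exact Zp_le_AA hzZ
    · exact hall v e hv0
    · have h1 := hall _ e (by rw [A.f_add' hrU hv.1 A.z_U, A.f_z' hrU, hv0, add_zero])
      have e2 : v = v * z * z := by rw [mul_assoc, A.zz, mul_one]
      rw [e2]
      exact mul_mem h1 (Zp_le_AA hzZ)
  obtain ⟨h1, hh1, u, hu, v, hv, hne⟩ := nab
  have hcv : h1 * v * h1⁻¹ ∈ AA U r h1 := le_AA ⟨conj_mem_cj hv.1, Q_normal hh1 hv.2⟩
  have hz1 : h1 * z * h1⁻¹ ≠ z := by
    intro e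
    apply hne
    have hm := A.stab hr hh1 e
    exact A.U_comm u hu.1 _ (A.U_M h1 hm v hv.1)
  have same : h1 * z * h1⁻¹ = h * z * h⁻¹ → False := by
    intro e
    apply hne
    rw [A.AA_eq hr hh1 hh e] at hcv
    exact A.AA_comm (hall2 u hu) hcv
  -- the element swapping `t_r` and `r z t_r`
  obtain ⟨w, h0, a, c⟩ := A.exists_UA h3 hr
  have hwC := A.U_cen hr c.uU
  have swap : (w * h) * z * (w * h)⁻¹ = h1 * z * h1⁻¹ := by
    have e : (w * h) * z * (w * h)⁻¹ = w * (h * z * h⁻¹) * w⁻¹ := by group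
    rw [e]
    rcases h3 r hr h hh with h4 | h4 | h4
    · exact absurd h4 hz
    · rcases h3 r hr h1 hh1 with h5 | h5 | h5
      · exact absurd h5 hz1
      · exact (same (h5.trans h4.symm)).elim
      · rw [h4, h5, c.ut]
    · rcases h3 r hr h1 hh1 with h5 | h5 | h5
      · exact absurd h5 hz1
      · rw [h4, h5, A.uy c]
      · exact (same (h5.trans h4.symm)).elim
  apply hne
  have h6 : u ∈ AA U r h1 := by
    rw [← A.AA_eq hr (mul_mem hwC hh) hh1 swap]
    have h7 := conj_AA hwC (hall2 u hu)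
    rwa [A.U_comm w c.uU u hu.1, mul_inv_cancel_right] at h7
  exact A.AA_comm h6 hcv

/-! ### the commutator form on `Q_r` -/

theorem r_comm (hr : r ∈ Δ) {x : G} (hx : x ∈ Qp r) : r * x = x * r := Z_comm (A.N_Z r hr (A.p_N hr)) hx

theorem cm_eq (hr : r ∈ Δ) {x y : G} (hx : x ∈ Qp r) (hy : y ∈ Qp r) : x * y = pw r (cm x y) * (y * x) := by
  by_cases h : x * y = y * x
  · rw [cm_of h, pw_zero, one_mul, h]
  · rw [cm, if_neg h, pw_one]
    exact (A.Q_comm r hr x hx y hy).resolve_left h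

theorem pw_r_comm (hr : r ∈ Δ) {x : G} (hx : x ∈ Qp r) (c : ZMod 2) : pw r c * x = x * pw r c := by
  rcases z2 c with h | h
  · rw [h, pw_zero, one_mul, mul_one]
  · rw [h, pw_one, A.r_comm hr hx]

theorem cm_mul_right (hr : r ∈ Δ) {x y w : G} (hx : x ∈ Qp r) (hy : y ∈ Qp r) (hw : w ∈ Qp r) :
    cm x (y * w) = cm x y + cm x w := by
  have h1 := A.cm_eq hr hx (mul_mem hy hw)
  have h2 : x * (y * w) = pw r (cm x y + cm x w) * (y * w * x) := by
    calc x * (y * w) = (x * y) * w := by group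
      _ = pw r (cm x y) * (y * x) * w := by rw [A.cm_eq hr hx hy]
      _ = pw r (cm x y) * (y * (x * w)) := by group
      _ = pw r (cm x y) * (y * (pw r (cm x w) * (w * x))) := by rw [A.cm_eq hr hx hw]
      _ = pw r (cm x y) * (y * pw r (cm x w)) * (w * x) := by group
      _ = pw r (cm x y) * (pw r (cm x w) * y) * (w * x) := by rw [A.pw_r_comm hr hy]
      _ = pw r (cm x y) * pw r (cm x w) * (y * w * x) := by group
      _ = pw r (cm x y + cm x w) * (y * w * x) := by rw [pw_add (A.U_sq r (A.Δ_U r hr))]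
  rw [h2] at h1
  exact (pw_inj (A.p_ne_one hr) (mul_right_cancel h1)).symm

theorem cm_symm (hr : r ∈ Δ) {x y : G} : cm x y = cm y x := by
  have _ := A
  have _ := hr
  by_cases h : x * y = y * x
  · rw [cm_of h, cm_of h.symm]
  · rw [cm, cm, if_neg h, if_neg (Ne.symm h)]

theorem cm_mul_left (hr : r ∈ Δ) {x y w : G} (hx : x ∈ Qp r) (hy : y ∈ Qp r) (hw : w ∈ Qp r) :
    cm (x * y) w = cm x w + cm y w := by
  rw [A.cm_symm hr, A.cm_mul_right hr hw hx hy, A.cm_symm hr (x := w) (y := x), A.cm_symm hr (x := w) (y := y)]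

/-- `C_{Q_r}(U^h ∩ Q_r) ≤ (U^h ∩ Q_r) ζ_r` -/
theorem Q_self' [Finite U] (h3 : Three z Δ t) (hr : r ∈ Δ) {h : G} (hh : h ∈ Cp r) {x : G} (hx : x ∈ Qp r)
    (hc : ∀ u ∈ cj h U ⊓ Qp r, x * u = u * x) : x ∈ AA U r h := by
  have hx' : h⁻¹ * x * h ∈ Qp r := by
    have := Q_normal (inv_mem hh) hx
    rwa [inv_inv] at this
  have hc' : ∀ u ∈ U ⊓ Qp r, h⁻¹ * x * h * u = u * (h⁻¹ * x * h) := by
    intro u hu
    have h1 := hc (h * u * h⁻¹) ⟨conj_mem_cj hu.1, Q_normal hh hu.2⟩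
    calc h⁻¹ * x * h * u = h⁻¹ * (x * (h * u * h⁻¹)) * h := by group
      _ = h⁻¹ * (h * u * h⁻¹ * x) * h := by rw [h1]
      _ = u * (h⁻¹ * x * h) := by group
  obtain ⟨w, hw, b, hb, e⟩ := A.Q_cen h3 hr hx' hc'
  have h1 : h⁻¹ * x * h ∈ AA U r 1 := by
    have hw' : w ∈ cj 1 U ⊓ Qp r := by rw [cj_one]; exact hw
    have hbZ := mem_Bz.1 hb r hr
    rcases e with e | e
    · exact ⟨w, hw', b, hbZ, e⟩
    · exact ⟨w, hw', b * t r, mul_mem hbZ (A.N_Z r hr (A.t_N hr)), by rw [e, mul_assoc]⟩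
  have h2 := conj_AA hh h1
  rw [mul_one] at h2
  have e2 : h * (h⁻¹ * x * h) * h⁻¹ = x := by group
  rwa [e2] at h2

/-- `Q_r = (U^h ∩ Q_r) (U ∩ Q_r) ζ_r` -/
theorem Q_gen' [Finite U] (h3 : Three z Δ t) (hr : r ∈ Δ)
    (nab : ∃ h ∈ Cp r, ∃ u ∈ U ⊓ Qp r, ∃ v ∈ U ⊓ Qp r, u * (h * v * h⁻¹) ≠ h * v * h⁻¹ * u)
    {h : G} (hh : h ∈ Cp r) (hz : h * z * h⁻¹ ≠ z) {x : G} (hx : x ∈ Qp r) :
    ∃ v ∈ cj h U ⊓ Qp r, ∃ y ∈ AA U r 1, x = v * y := by
  have hf : Finite (U ⊓ Qp r : Subgroup G) := Finite.Set.subset (U : Set G) inf_le_left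
  obtain ⟨w, hw, h1⟩ := exists_rep2 (U := U ⊓ Qp r) (W := cj h U ⊓ Qp r)
    (fun u hu v hv => A.U_comm u hu.1 v hv.1) (fun u hu => A.U_sq u hu.1) (f := cm)
    (fun w hw w' hw' u hu => A.cm_mul_left hr hw.2 hw'.2 hu.2)
    (fun w hw u hu v hv => A.cm_mul_right hr hw.2 hu.2 hv.2) (Ψ := cm x)
    (fun u hu v hv => A.cm_mul_right hr hx hu.2 hv.2) (fun u hu h2 => by
      have h4 : u ∈ AA U r h := A.Q_self' h3 hr hh hu.2 fun v hv => (cm_zero (h2 v hv)).symm
      have h5 := A.int h3 hr nab hh hz hu h4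
      exact cm_of (Z_comm h5 hx).symm)
  refine ⟨w, hw, w⁻¹ * x, A.Q_self' h3 hr (one_mem _) (mul_mem (inv_mem hw.2) hx) ?_, by group⟩
  intro u hu
  rw [cj_one] at hu
  refine cm_zero ?_
  have h2 : cm w⁻¹ u = cm w u := by
    have h4 := A.cm_mul_left hr hw.2 (inv_mem hw.2) hu.2
    rw [mul_inv_cancel, cm_of (by rw [one_mul, mul_one])] at h4
    generalize cm w⁻¹ u = c1 at h4 ⊢
    generalize cm w u = c2 at h4 ⊢
    revert c1 c2; decide
  rw [A.cm_mul_left hr (inv_mem hw.2) hx hu.2, h2, ← h1 u hu]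
  generalize cm x u = c1
  revert c1; decide

end Res

end Cfsg.Agent.Omega.HTwo.Eight

end

-- merged: Cfsg.Agent.Mrg.Omega.HTwo.EightMain
section

/-!
# #15507 (helper779) (6)(iii): `ζ_r = N_r = 2^3`, `⋂ ζ_q = ⟨z⟩`, `O_M = U = C_M(U)`, `8 |Q_r| = |U|^2`

* `Res.out` : `Res`, `Three`, `Inp` imply `Out`.
-/

set_option autoImplicit false
set_option Elab.async false

namespace Cfsg.Agent.Omega.HTwo.Eight

open Subgroup Cfsg.Agent.Omega.BTwo
open scoped Pointwise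

variable {G : Type*} [Group G]

namespace Res

variable {z : G} {M U : Subgroup G} {Δ : Set G} {f : G → G → ZMod 2} {t : G → G} (A : Res z M U Δ f t)
include A

variable {r : G}

theorem N_in_four (hr : r ∈ Δ) {w : G} (hw : w = 1 ∨ w = r ∨ w = z ∨ w = r * z) : w ∈ Np z r := by
  rcases hw with h | h | h | h
  · rw [h]; exact one_mem _
  · rw [h]; exact A.p_N hr
  · rw [h]; exact z_N z r
  · rw [h]; exact mul_mem (A.p_N hr) (z_N z r)

/-- an element of `ζ_r` is `w b` or `w b t_r` with `w ∈ ⟨r, z⟩`, `b ∈ ⋂ ζ_q` -/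
theorem Z_form [Finite U] (h3 : Three z Δ t) (hr : r ∈ Δ) {x : G} (hx : x ∈ Zp r) :
    ∃ w ∈ U, (w = 1 ∨ w = r ∨ w = z ∨ w = r * z) ∧ ∃ b ∈ Bz Δ, x = w * b ∨ x = w * b * t r := by
  obtain ⟨w, hw, b, hb, e⟩ := A.Q_cen h3 hr hx.1 (fun u hu => Z_comm hx hu.2)
  have hbZ := mem_Bz.1 hb r hr
  have htZ := A.N_Z r hr (A.t_N hr)
  have hwZ : w ∈ Zp r := by
    rcases e with e | e
    · have e2 : w = x * b⁻¹ := by rw [e]; group
      rw [e2]
      exact mul_mem hx (inv_mem hbZ)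
    · have e2 : w = x * (t r)⁻¹ * b⁻¹ := by rw [e]; group
      rw [e2]
      exact mul_mem (mul_mem hx (inv_mem htZ)) (inv_mem hbZ)
  exact ⟨w, hw.1, A.U_Z hr hw.1 hwZ, b, hb, e⟩

/-- `x` or `x t_r` centralises `U`, for `x ∈ ζ_r` -/
theorem Z_cen [Finite U] (h3 : Three z Δ t) (hr : r ∈ Δ) {x : G} (hx : x ∈ Zp r) :
    (∀ u ∈ U, x * u = u * x) ∨ ∀ u ∈ U, (x * t r) * u = u * (x * t r) := by
  obtain ⟨w, hw, _, b, hb, e⟩ := A.Z_form h3 hr hx
  have hwb : ∀ u ∈ U, w * b * u = u * (w * b) := by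
    intro u hu
    rw [mul_assoc, A.Bz_U hr hb hu, ← mul_assoc, A.U_comm w hw u hu, mul_assoc]
  rcases e with e | e
  · left; rw [e]; exact hwb
  · right
    have e2 : x * t r = w * b := by rw [e, mul_assoc, A.N_sq r hr _ (A.t_N hr), mul_one]
    rw [e2]; exact hwb

/-- the same for `U^h` -/
theorem Z_cen' [Finite U] (h3 : Three z Δ t) (hr : r ∈ Δ) {h : G} (hh : h ∈ Cp r) {x : G} (hx : x ∈ Zp r) :
    (∀ u ∈ cj h U, x * u = u * x) ∨
      ∀ u ∈ cj h U, (x * (h * t r * h⁻¹)) * u = u * (x * (h * t r * h⁻¹)) := by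
  have hx' : h⁻¹ * x * h ∈ Zp r := by
    have := Z_normal (inv_mem hh) hx
    rwa [inv_inv] at this
  have tr : ∀ y : G, (∀ u ∈ U, y * u = u * y) → ∀ u ∈ cj h U, (h * y * h⁻¹) * u = u * (h * y * h⁻¹) := by
    intro y hy u hu
    rw [mem_cj] at hu
    have h1 := hy _ hu
    calc h * y * h⁻¹ * u = h * (y * (h⁻¹ * u * h)) * h⁻¹ := by group
      _ = h * (h⁻¹ * u * h * y) * h⁻¹ := by rw [h1]
      _ = u * (h * y * h⁻¹) := by group
  rcases A.Z_cen h3 hr hx' with h1 | h1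
  · left
    have h2 := tr _ h1
    have e : h * (h⁻¹ * x * h) * h⁻¹ = x := by group
    rwa [e] at h2
  · right
    have h2 := tr _ h1
    have e : h * (h⁻¹ * x * h * t r) * h⁻¹ = x * (h * t r * h⁻¹) := by group
    rwa [e] at h2

/-- `ζ_r = N_r` -/
theorem Z_eq_N [Finite U] (h3 : Three z Δ t) (I : Inp z M U Δ r) : Zp r = Np z r := by
  have hr := I.r_Δ
  have hrU := A.Δ_U r hr
  apply le_antisymm _ (A.N_Z r hr)
  -- the elements of `ζ_r` centralising all `U^h`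
  let D : Subgroup G :=
    { carrier := {x | x ∈ Zp r ∧ ∀ h ∈ Cp r, ∀ v ∈ cj h U, x * v = v * x}
      one_mem' := ⟨one_mem _, fun h _ v _ => by rw [one_mul, mul_one]⟩
      mul_mem' := by
        rintro a b ⟨ha, ha'⟩ ⟨hb, hb'⟩
        refine ⟨mul_mem ha hb, fun h hh v hv => ?_⟩
        rw [mul_assoc, hb' h hh v hv, ← mul_assoc, ha' h hh v hv, mul_assoc]
      inv_mem' := by
        rintro a ⟨ha, ha'⟩
        refine ⟨inv_mem ha, fun h hh v hv => ?_⟩
        have h1 := ha' h hh v hv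
        rw [inv_mul_eq_iff_eq_mul, ← mul_assoc, h1, mul_inv_cancel_right] }
  have hD : ∀ x, x ∈ D ↔ x ∈ Zp r ∧ ∀ h ∈ Cp r, ∀ v ∈ cj h U, x * v = v * x := fun x => Iff.rfl
  have hDr : ∀ x ∈ D, x = 1 ∨ x = r := by
    refine I.cc D ?_ ?_
    · intro x hx
      obtain ⟨hxZ, hxc⟩ := (hD x).1 hx
      obtain ⟨w, hw, hw4, b, hb, e⟩ := A.Z_form h3 hr hxZ
      have hb' : b ∈ (⨅ q ∈ Δ, Zp q) ⊔ zpowers r := mem_sup_left hb
      have hz' : z ∈ (⨅ q ∈ Δ, Zp q) ⊔ zpowers r := mem_sup_left A.z_Bz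
      have hr' : r ∈ (⨅ q ∈ Δ, Zp q) ⊔ zpowers r := mem_sup_right (mem_zpowers r)
      have hw' : w ∈ (⨅ q ∈ Δ, Zp q) ⊔ zpowers r := by
        rcases hw4 with h | h | h | h
        · rw [h]; exact one_mem _
        · rw [h]; exact hr'
        · rw [h]; exact hz'
        · rw [h]; exact mul_mem hr' hz'
      rcases e with e | e
      · rw [e]; exact mul_mem hw' hb'
      · exfalso
        apply A.t_mv hr
        intro u hu
        have h1 : x * u = u * x := hxc 1 (one_mem _) u (by rw [cj_one]; exact hu)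
        have hwb : w * b * u = u * (w * b) := by
          rw [mul_assoc, A.Bz_U hr hb hu, ← mul_assoc, A.U_comm w hw u hu, mul_assoc]
        have e2 : t r = (w * b)⁻¹ * x := by rw [e]; group
        rw [e2, mul_assoc, h1]
        calc (w * b)⁻¹ * (u * x) = (w * b)⁻¹ * (u * (w * b)) * (w * b)⁻¹ * x := by group
          _ = (w * b)⁻¹ * (w * b * u) * (w * b)⁻¹ * x := by rw [hwb]
          _ = u * ((w * b)⁻¹ * x) := by group
    · intro g hg x hx
      obtain ⟨hxZ, hxc⟩ := (hD x).1 hx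
      refine (hD _).2 ⟨Z_normal hg hxZ, fun h hh v hv => ?_⟩
      have h1 := hxc (g⁻¹ * h) (mul_mem (inv_mem hg) hh) (g⁻¹ * v * g) (by
        rw [cj_mul]
        have := conj_mem_cj (g := g⁻¹) hv
        rwa [inv_inv] at this)
      calc g * x * g⁻¹ * v = g * (x * (g⁻¹ * v * g)) * g⁻¹ := by group
        _ = g * (g⁻¹ * v * g * x) * g⁻¹ := by rw [h1]
        _ = v * (g * x * g⁻¹) := by group
  intro x hx
  obtain ⟨u, h0, a, c⟩ := A.exists_UA h3 hr
  -- the element `k` with `z ↦ t_r ↦ z`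
  set k := wrd u a 5 with hk
  have hkC : k ∈ Cp r := A.L_le hr (A.wrd_L hr c 5)
  have hkz : k * z * k⁻¹ = t r := A.wrd_z c 5
  have hkt : k * t r * k⁻¹ = z := A.wrd_t c 5
  have hzU : ∀ v ∈ U, z * v = v * z := fun v hv => A.U_comm z A.z_U v hv
  -- `x₁`
  have h1 : ∃ n ∈ Np z r, x * n ∈ Zp r ∧ ∀ v ∈ U, (x * n) * v = v * (x * n) := by
    rcases A.Z_cen h3 hr hx with h1 | h1
    · exact ⟨1, one_mem _, by rw [mul_one]; exact hx, by rw [mul_one]; exact h1⟩
    · exact ⟨t r, A.t_N hr, mul_mem hx (A.N_Z r hr (A.t_N hr)), h1⟩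
  obtain ⟨n, hn, hxn, h1⟩ := h1
  have h2 : ∃ n' ∈ Np z r, x * n * n' ∈ Zp r ∧ (∀ v ∈ U, (x * n * n') * v = v * (x * n * n')) ∧
      ∀ v ∈ cj k U, (x * n * n') * v = v * (x * n * n') := by
    rcases A.Z_cen' h3 hr hkC hxn with h4 | h4
    · exact ⟨1, one_mem _, by rw [mul_one]; exact hxn, by rw [mul_one]; exact h1, by rw [mul_one]; exact h4⟩
    · rw [hkt] at h4
      refine ⟨z, z_N z r, mul_mem hxn (A.N_Z r hr (z_N z r)), fun v hv => ?_, h4⟩
      rw [mul_assoc, hzU v hv, ← mul_assoc, h1 v hv, mul_assoc]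
  obtain ⟨n', hn', hxZ, h4, h5⟩ := h2
  have h6 : x * n * n' ∈ D := by
    refine (hD _).2 ⟨hxZ, fun h hh v hv => ?_⟩
    rcases h3 r hr h hh with e | e | e
    · rw [A.cj_U_M (A.stab hr hh e)] at hv
      exact h4 v hv
    · rw [A.cj_U_eq hr hh hkC (e.trans hkz.symm)] at hv
      exact h5 v hv
    · have e2 : u * k * z * (u * k)⁻¹ = r * z * t r := by
        calc u * k * z * (u * k)⁻¹ = u * (k * z * k⁻¹) * u⁻¹ := by group
          _ = r * z * t r := by rw [hkz, c.ut]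
      rw [A.cj_U_eq hr hh (mul_mem (A.U_cen hr c.uU) hkC) (e.trans e2.symm), cj_mul, mem_cj] at hv
      have h7 := h5 _ hv
      have h8 := h4 u c.uU
      have h9 : Commute (x * n * n') u := h8
      have h10 : Commute (x * n * n') (u⁻¹ * v * u) := h7
      have h11 : Commute (x * n * n') (u * (u⁻¹ * v * u) * u⁻¹) := (h9.mul_right h10).mul_right h9.inv_right
      have e3 : u * (u⁻¹ * v * u) * u⁻¹ = v := by group
      rw [e3] at h11
      exact h11.eq
  have h7 : x * n * n' ∈ Np z r := by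
    rcases hDr _ h6 with h | h
    · rw [h]; exact one_mem _
    · rw [h]; exact A.p_N hr
  have e : x = x * n * n' * n'⁻¹ * n⁻¹ := by group
  rw [e]
  exact mul_mem (mul_mem h7 (inv_mem hn')) (inv_mem hn)

theorem Bz_eq [Finite U] (h3 : Three z Δ t) (I : Inp z M U Δ r) {x : G} (hx : x ∈ Bz Δ) : x = 1 ∨ x = z := by
  have hr := I.r_Δ
  have h1 : x ∈ Np z r := by rw [← A.Z_eq_N h3 I]; exact mem_Bz.1 hx r hr
  have key : ∀ y, y ∈ Bz Δ → y ≠ r := by
    intro y hy e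
    subst e
    obtain ⟨q, hq, hf⟩ := A.exists_q1 hr
    have h2 := Z_comm (mem_Bz.1 hy q hq) (A.N_le_Q hq (A.t_N hq))
    have h4 := A.u_act hq (A.Δ_U y hr)
    rw [A.f_symm q (A.Δ_U q hq) y (A.Δ_U y hr), hf, pw_one, h2, mul_inv_cancel_right] at h4
    exact A.pz_ne_one hq (left_eq_mul.1 h4)
  rcases A.N_cenU h3 hr h1 (fun u hu => A.Bz_U hr hx hu) with h | h | h | h
  · exact Or.inl h
  · exact absurd h (key x hx)
  · exact Or.inr h
  · exfalso
    refine key (x * z) (mul_mem hx A.z_Bz) ?_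
    rw [h, mul_assoc, A.zz, mul_one]

theorem O_eq_U [Finite U] (h3 : Three z Δ t) (I : Inp z M U Δ r) : O2 M = U := by
  apply le_antisymm _ A.U_le
  intro x hx
  obtain ⟨w, hw, b, hb, e⟩ := A.O_eq h3 hx
  rcases A.Bz_eq h3 I hb with h | h
  · rw [e, h, mul_one]; exact hw
  · rw [e, h]; exact mul_mem hw A.z_U

/-- `|U| = 2 |U ∩ Q_r|` -/
theorem card_U_inf (h3 : Three z Δ t) (hr : r ∈ Δ) : Nat.card U = 2 * Nat.card (U ⊓ Qp r : Subgroup G) := by
  obtain ⟨u, h0, a, c⟩ := A.exists_UA h3 hr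
  refine card_of_cosets ![1, u] ?_ ?_ ?_
  · intro i x hx
    fin_cases i
    · exact mul_mem (one_mem U) hx.1
    · exact mul_mem c.uU hx.1
  · have key : ∀ x ∈ (U ⊓ Qp r : Subgroup G), ∀ y ∈ Qp r, u * x ≠ y := by
      intro x hx y hy e
      apply A.u_notin hr c
      have e2 : u = y * x⁻¹ := by rw [← e]; group
      rw [e2]
      exact mul_mem hy (inv_mem hx.2)
    intro i j x hx e
    fin_cases i <;> fin_cases j
    · rfl
    · exfalso
      change 1 * x = u at e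
      rw [one_mul] at e
      exact A.u_notin hr c (e ▸ hx.2)
    · exfalso
      change u * x = 1 at e
      exact key x hx 1 (one_mem _) e
    · rfl
  · intro b hb
    rcases A.U_coset hr c hb with h | h
    · refine ⟨0, ?_⟩
      change (1 : G)⁻¹ * b ∈ _
      rw [inv_one, one_mul]
      exact ⟨hb, h⟩
    · refine ⟨1, ?_⟩
      change u⁻¹ * b ∈ _
      refine ⟨U.mul_mem (U.inv_mem c.uU) hb, ?_⟩
      rw [A.U_comm _ (inv_mem c.uU) b hb]
      exact h

theorem card_cj_AA (hr : r ∈ Δ) {h : G} (hh : h ∈ Cp r) : Nat.card (AA U r h) = Nat.card (AA U r 1) := by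
  have _ := A
  have _ := hr
  have e : cj h (AA U r 1) = AA U r h := by
    apply le_antisymm
    · rw [cj_le_iff]
      intro x hx
      have := conj_AA hh hx
      rwa [mul_one] at this
    · intro x hx
      rw [mem_cj]
      have := conj_AA (inv_mem hh) hx
      rwa [inv_mul_cancel, inv_inv] at this
  rw [← e, card_cj]

/-- `8 |Q_r| = |U|^2` -/
theorem Q_card' [Finite G] (h3 : Three z Δ t) (I : Inp z M U Δ r) : Nat.card (Qp r) * 8 = Nat.card U ^ 2 := by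
  have hr := I.r_Δ
  have hZN := A.Z_eq_N h3 I
  obtain ⟨u, h0, a, c⟩ := A.exists_UA h3 hr
  have hz : h0 * z * h0⁻¹ ≠ z := by rw [c.h0z]; exact (A.z_ne_t hr).symm
  -- `|AA 1| = |U|`
  have h1 : Nat.card (AA U r 1) * 4 = Nat.card (U ⊓ Qp r : Subgroup G) * 8 := by
    have h2 := Lib.ProductSet.card_mul_card_inf (U ⊓ Qp r) (Zp r)
    have h4 : ((U ⊓ Qp r : Subgroup G) : Set G) * (Zp r : Set G) = (AA U r 1 : Set G) := by
      ext x
      rw [Set.mem_mul]
      constructor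
      · rintro ⟨y, hy, n, hn, e⟩
        exact ⟨y, by rw [cj_one]; exact hy, n, hn, e.symm⟩
      · rintro ⟨y, hy, n, hn, e⟩
        rw [cj_one] at hy
        exact ⟨y, hy, n, hn, e.symm⟩
    have h5 : U ⊓ Qp r ⊓ Zp r = four r z (A.U_sq r (A.Δ_U r hr)) A.zz (A.pz_comm hr) := by
      ext x
      constructor
      · rintro ⟨hx1, hx2⟩
        exact A.U_Z hr hx1.1 hx2
      · intro hx
        have hx' : x = 1 ∨ x = r ∨ x = z ∨ x = r * z := hx
        have hxN := A.N_in_four hr hx'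
        refine ⟨⟨?_, A.N_le_Q hr hxN⟩, A.N_Z r hr hxN⟩
        rcases hx' with h | h | h | h
        · rw [h]; exact one_mem _
        · rw [h]; exact A.Δ_U r hr
        · rw [h]; exact A.z_U
        · rw [h]; exact A.pz_U hr
    have h6 : Nat.card (four r z (A.U_sq r (A.Δ_U r hr)) A.zz (A.pz_comm hr)) = 4 := by
      let F : ZMod 2 × ZMod 2 → four r z (A.U_sq r (A.Δ_U r hr)) A.zz (A.pz_comm hr) := fun c =>
        ⟨pw r c.1 * pw z c.2, mul_mem (pw_mem (Or.inr (Or.inl rfl)) _) (pw_mem (Or.inr (Or.inr (Or.inl rfl))) _)⟩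
      have hinj : Function.Injective F := by
        rintro ⟨a, b⟩ ⟨a', b'⟩ h
        have h1 : pw r a * pw z b = pw r a' * pw z b' := congrArg Subtype.val h
        have key : ∀ b b' : ZMod 2, r * pw z b = pw z b' → False := by
          intro b b' h
          have e : r = pw z (b' + b) := by
            rw [pw_add A.zz, ← h, mul_assoc, pw_sq A.zz, mul_one]
          rcases z2 (b' + b) with h0 | h0
          · rw [h0, pw_zero] at e; exact A.p_ne_one hr e
          · rw [h0, pw_one] at e; exact A.p_ne_z hr e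
        have ha : a = a' := by
          by_contra hne
          rcases z2 a with ha | ha <;> rcases z2 a' with ha' | ha'
          · exact absurd (ha.trans ha'.symm) hne
          · rw [ha, ha', pw_zero, pw_one, one_mul] at h1
            exact key _ _ h1.symm
          · rw [ha, ha', pw_zero, pw_one, one_mul] at h1
            exact key _ _ h1
          · exact absurd (ha.trans ha'.symm) hne
        subst ha
        rw [pw_inj A.z1 (mul_left_cancel h1)]
      have hsurj : Function.Surjective F := by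
        rintro ⟨n, hn⟩
        have key : ∀ a b : ZMod 2, n = pw r a * pw z b → ∃ x, F x = ⟨n, hn⟩ := fun a b h =>
          ⟨(a, b), Subtype.ext h.symm⟩
        have hn' : n = 1 ∨ n = r ∨ n = z ∨ n = r * z := hn
        rcases hn' with h | h | h | h
        · exact key 0 0 (by rw [h, pw_zero, pw_zero, mul_one])
        · exact key 1 0 (by rw [h, pw_one, pw_zero, mul_one])
        · exact key 0 1 (by rw [h, pw_one, pw_zero, one_mul])
        · exact key 1 1 (by rw [h, pw_one, pw_one])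
      rw [← Nat.card_congr (Equiv.ofBijective F ⟨hinj, hsurj⟩), Nat.card_prod, Nat.card_zmod]
    rw [h4, h5, h6, hZN, A.N_card h3 hr] at h2
    exact h2
  have hU := A.card_U_inf h3 hr
  have h2 : Nat.card (AA U r 1) = Nat.card U := by omega
  -- `Q = (AA h0)(AA 1)`
  have h4 := Lib.ProductSet.card_mul_card_inf (AA U r h0) (AA U r 1)
  have h5 : (AA U r h0 : Set G) * (AA U r 1 : Set G) = (Qp r : Set G) := by
    ext x
    rw [Set.mem_mul]
    constructor
    · rintro ⟨y, hy, w, hw, rfl⟩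
      exact mul_mem (AA_le_Q hy) (AA_le_Q hw)
    · intro hx
      obtain ⟨v, hv, y, hy, e⟩ := A.Q_gen' h3 hr I.nab c.h0C hz hx
      exact ⟨v, le_AA hv, y, hy, e.symm⟩
  have h6 : AA U r h0 ⊓ AA U r 1 = Zp r := by
    apply le_antisymm
    · rintro x ⟨hx1, v, hv, n, hn, e⟩
      rw [cj_one] at hv
      have h7 : v ∈ AA U r h0 := by
        have e2 : v = x * n⁻¹ := by rw [e]; group
        rw [e2]
        exact mul_mem hx1 (inv_mem (Zp_le_AA hn))
      have h8 := A.int h3 hr I.nab c.h0C hz hv h7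
      rw [e]
      exact mul_mem h8 hn
    · exact le_inf Zp_le_AA Zp_le_AA
  rw [h5, h6, A.card_cj_AA hr c.h0C, h2, hZN, A.N_card h3 hr] at h4
  rw [sq]
  exact h4

/-- **The output of (6).** -/
theorem out [Finite G] (h3 : Three z Δ t) (I : Inp z M U Δ r) : Out z M U Δ f t r := by
  have hr := I.r_Δ
  have hZN := A.Z_eq_N h3 I
  exact
    { O_M := A.O_eq_U h3 I
      C_U := fun g hg hc => by
        rw [← A.O_eq_U h3 I]
        exact I.char2 g hg (fun o ho => hc o (by rw [← A.O_eq_U h3 I]; exact ho))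
      B_z := fun x hx => A.Bz_eq h3 I (mem_Bz.2 hx)
      Z_N := hZN
      N_card := A.N_card h3 hr
      N_mem := fun n hn => A.N_mem h3 hr hn
      N_U := fun n hn hU => A.N_U h3 hr hn hU
      Q_card := A.Q_card' h3 I
      L_norm := A.L_norm r
      L_K := A.L_inf_K h3 hr
      L_sup := A.L_sup_K h3 hr
      L_card := A.L_card h3 hr
      K_L := fun k hk l hl => A.KL hr hk hl
      C_rz := A.C_rz h3 hr
      Q_self := fun h hh x hx hc => by
        obtain ⟨a, ha, n, hn, e⟩ := A.Q_self' h3 hr hh hx hc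
        exact ⟨a, ha, n, by rw [← hZN]; exact hn, e⟩
      Q_gen := fun h hh hz x hx => by
        obtain ⟨v, hv, y, ⟨a, ha, n, hn, e⟩, e2⟩ := A.Q_gen' h3 hr I.nab hh hz hx
        rw [cj_one] at ha
        -- reorder: `x = v a n = a (v n [..])`
        have h1 := A.cm_eq hr hv.2 ha.2
        refine ⟨a, ha, v, hv, pw r (cm v a) * n, mul_mem (pw_mem (A.p_N hr) _) (by rw [← hZN]; exact hn), ?_⟩
        rw [e2, e]
        calc v * (a * n) = (v * a) * n := by group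
          _ = pw r (cm v a) * (a * v) * n := by rw [h1]
          _ = a * v * pw r (cm v a) * n := by rw [A.pw_r_comm hr (mul_mem ha.2 hv.2)]
          _ = a * v * (pw r (cm v a) * n) := by group
      Q_inf := fun h hh hz u hu v hv huv => by
        rw [← hZN] at huv ⊢
        have h1 : u ∈ AA U r h := by
          have e3 : u = v⁻¹ * (v * (u * v) * v⁻¹) := by group
          have h4 : v * (u * v) * v⁻¹ ∈ Zp r := by
            rw [← Z_comm huv hv.2, mul_inv_cancel_right]; exact huv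
          rw [e3]
          exact mul_mem (inv_mem (le_AA hv)) (Zp_le_AA h4)
        have h2 := A.int h3 hr I.nab hh hz hu h1
        refine ⟨h2, ?_⟩
        have e : v = u⁻¹ * (u * v) := by group
        rw [e]
        exact mul_mem (inv_mem h2) huv
      K_tr := fun p hp q hq hpr hqr h1 h2 => A.K_tr h3 hr hp hq hpr hqr h1 h2 }

end Res

end Cfsg.Agent.Omega.HTwo.Eight

end
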