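import Cfsg.Agent.Mrg.Omega.HOne.TvTail
import Cfsg.Agent.Mrg.Omega.HOne.Cut
import Cfsg.Agent.Mrg.Omega.HTwo.EntryTv
import Cfsg.Agent.Mrg.Omega.BTwo.RadQ
import Cfsg.Agent.Mrg.Omega.BTwo.Split
import Cfsg.Agent.Mrg.Omega.HOneTwo.TransMain
import Cfsg.Agent.Mrg.Omega.HTwo.EightMain
import Cfsg.Agent.Mrg.Omega.HOneTwo.TwoPartC

-- merged: Cfsg.Agent.Mrg.Omega.HOne.TvE2
section

/-!
# II.0h1, `q = 2`, case (beta): (D) of #17185 (helper202), `e ≥ 2` is dead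

`TvE2.eleven (h : TvH M r t Q N) (g1 : G1 M r t Q) : JEleven M r t Q N` : if all pairs of different lines on a
point are opposite, there are exactly three lines on a point.  Nothing about the constant `c_0` is used.
-/

set_option autoImplicit false
set_option linter.unusedSectionVars false

namespace Cfsg.Agent.Omega.HOne.TvE2

open Subgroup Cfsg.Agent.Omega.HOne.TvDef

variable {G : Type*} [Group G] {M : Subgroup G} {r t : G} {Q N : G → Subgroup G}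

/-- `n ∈ K_t` acting trivially on `Q r / Z(Q r)` lies in `Q r` -/
def G1 (M : Subgroup G) (r t : G) (Q : G → Subgroup G) : Prop :=
  ∀ n ∈ UU M r, n ∈ ZC Q t → (∀ q ∈ Q r, q * n * q⁻¹ * n⁻¹ ∈ ZC Q r) → n ∈ Q r

/-! ### a calculus in elementary abelian groups -/

/-- `∈ F` is an equivalence modulo `F` -/
theorem five {C : Type*} [CommGroup C] (sq : ∀ a : C, a * a = 1) (F : Subgroup C) {A B e D E d f : C}
    (h1 : A * B ∈ F) (h2 : B * e ∈ F) (h3 : A * D * E ∈ F) (h4 : D * d ∈ F) (h5 : E * f ∈ F) :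
    d * e * f ∈ F := by
  have sq' : ∀ a b : C, a * (a * b) = b := fun a b => by rw [← mul_assoc, sq, one_mul]
  have h6 : d * e * f = (A * B) * (B * e) * (A * D * E) * (D * d) * (E * f) := by
    have : (A * B) * (B * e) * (A * D * E) * (D * d) * (E * f)
      = (A * A) * (B * B) * (D * D) * (E * E) * (d * e * f) := by
      simp only [mul_comm, mul_left_comm]
    rw [this, sq A, sq B, sq D, sq E]; simp
  rw [h6]
  exact F.mul_mem (F.mul_mem (F.mul_mem (F.mul_mem h1 h2) h3) h4) h5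

section base

variable (h : TvH M r t Q N)
include h

theorem UConj {g u : G} (hg : g ∈ M) (hu : u ∈ UU M r) : g * u * g⁻¹ ∈ UU M r := UU_conj hg hu

/-- additivity of the commutator on `U` -/
theorem cmul {g u v : G} (hg : g ∈ M) (hu : u ∈ UU M r) (hv : v ∈ UU M r) :
    g * (u * v) * g⁻¹ * (u * v)⁻¹ = (g * u * g⁻¹ * u⁻¹) * (g * v * g⁻¹ * v⁻¹) := by
  have h1 := UU_comm_mem hg hv
  calc g * (u * v) * g⁻¹ * (u * v)⁻¹ = (g * u * g⁻¹) * (g * v * g⁻¹ * v⁻¹) * u⁻¹ := by group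
    _ = (g * u * g⁻¹) * (u⁻¹ * (g * v * g⁻¹ * v⁻¹)) := by
        rw [mul_assoc, h.UU_comm (inv_mem hu) h1]
    _ = _ := by group

/-- `F_y` : the elements of `U` centralised modulo `Z(Q s)` by `N y` -/
def FF {s y : G} (a : Adj M r t s y) : Subgroup G where
  carrier := {u | u ∈ UU M r ∧ ∀ n ∈ N y, n * u * n⁻¹ * u⁻¹ ∈ ZC Q s}
  one_mem' := ⟨(UU M r).one_mem, fun n _ => by
    have : n * 1 * n⁻¹ * (1 : G)⁻¹ = 1 := by group
    rw [this]; exact one_mem _⟩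
  mul_mem' := by
    rintro u v ⟨hu, hu'⟩ ⟨hv, hv'⟩
    refine ⟨mul_mem hu hv, fun n hn => ?_⟩
    rw [cmul h (h.N_le_M (h.Adj_right a) hn) hu hv]
    exact mul_mem (hu' n hn) (hv' n hn)
  inv_mem' := by
    rintro u ⟨hu, hu'⟩
    rw [h.UU_inv hu]
    exact ⟨hu, hu'⟩

theorem mem_FF {s y : G} (a : Adj M r t s y) {u : G} :
    u ∈ FF h a ↔ u ∈ UU M r ∧ ∀ n ∈ N y, n * u * n⁻¹ * u⁻¹ ∈ ZC Q s := Iff.rfl

/-- `K_s ≤ F_y` -/
theorem K_FF {s y : G} (a : Adj M r t s y) {u : G} (hu : u ∈ UU M r) (hz : u ∈ ZC Q s) : u ∈ FF h a := by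
  refine ⟨hu, fun n hn => ?_⟩
  exact mul_mem ((h.ZC_fix (h.N_comm a hn)).2 hz) (inv_mem hz)

/-- `K_y ≤ F_y` -/
theorem Ky_FF {s y : G} (a : Adj M r t s y) {u : G} (hu : u ∈ UU M r) (hz : u ∈ Q y) : u ∈ FF h a := by
  refine ⟨hu, fun n hn => ?_⟩
  have h1 := h.ZC_comm (h.N_le_ZC (h.Adj_right a) hn) hz
  rw [h1]
  have : u * n * n⁻¹ * u⁻¹ = 1 := by group
  rw [this]; exact one_mem _

theorem y_FF {s y : G} (a : Adj M r t s y) : y ∈ FF h a :=
  Ky_FF h a (h.Adj_UU a) (h.mem_Q (h.Adj_right a))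

/-- `K_{sy} ≤ F_y` -/
theorem Ksy_FF {s y : G} (a : Adj M r t s y) {u : G} (hu : u ∈ UU M r) (hz : u ∈ ZC Q (s * y)) : u ∈ FF h a := by
  refine ⟨hu, fun n hn => ?_⟩
  have hy := h.Adj_right a
  have hnM := h.N_le_M hy hn
  have hns : n * (s * y) = (s * y) * n := by
    have h1 := h.N_comm a hn
    have h2 := h.N_self hy hn
    calc n * (s * y) = (n * s) * y := by group
      _ = s * (n * y) := by rw [h1]; group
      _ = _ := by rw [h2]; group
  have h1 : n * u * n⁻¹ * u⁻¹ ∈ ZC Q (s * y) := mul_mem ((h.ZC_fix hns).2 hz) (inv_mem hz)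
  have h2 : n * u * n⁻¹ * u⁻¹ ∈ ZC Q y := by
    have hc : u * y = y * u := h.UU_comm hu (h.Adj_UU a)
    have e : n * u * n⁻¹ * u⁻¹ = n * (u * n⁻¹ * u⁻¹) := by group
    rw [e]
    exact mul_mem (h.N_le_ZC hy hn) ((h.ZC_fix hc).2 (inv_mem (h.N_le_ZC hy hn)))
  have h3 := h.Adj_CV (h.Adj_mul' a) h2 h1
  have e : y * (s * y) = s := by
    rw [← h.Adj_comm (h.Adj_symm a), ← mul_assoc, h.Om_sq hy, one_mul]
  rwa [e] at h3

/-- the elements of `Q s` move `x` to `x` or `s x` -/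
theorem Qs_act {s x w : G} (a : Adj M r t s x) (hw : w ∈ Q s) :
    w * x = x * w ∨ w * x * w⁻¹ = s * x := by
  rcases h.comm_Q a.left hw (h.Adj_mem a) with h1 | h1
  · left
    calc w * x = (w * x * w⁻¹ * x⁻¹) * x * w := by group
      _ = x * w := by rw [h1]; group
  · right
    calc w * x * w⁻¹ = (w * x * w⁻¹ * x⁻¹) * x := by group
      _ = s * x := by rw [h1]

/-- `[Q s, K_y] ≤ F_y` -/
theorem star {s y : G} (a : Adj M r t s y) {k w : G} (hk : k ∈ UU M r) (hz : k ∈ ZC Q y) (hw : w ∈ Q s) :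
    w * k * w⁻¹ * k⁻¹ ∈ FF h a := by
  have hwM := h.Q_le_M a.left hw
  have hk' := UConj h hwM hk
  have hy := h.Adj_right a
  refine mul_mem ?_ (inv_mem (Ky_FF h a hk (h.ZC_le_Q hy hz)))
  have h1 := (h.ZC_conj (g := w)).2 hz
  rcases Qs_act h a hw with h2 | h2
  · have e : w * y * w⁻¹ = y := by rw [h2]; group
    rw [e] at h1
    exact Ky_FF h a hk' (h.ZC_le_Q hy h1)
  · rw [h2] at h1
    exact Ksy_FF h a hk' h1

/-- separation of two lines by `Q s` -/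
theorem exists_w {s x y : G} (hx : Adj M r t s x) (hy : Adj M r t s y) (h1 : y ≠ x) (h2 : y ≠ s * x) :
    ∃ w ∈ Q s, w * y * w⁻¹ = s * y ∧ w * x = x * w := by
  by_contra hcon
  push Not at hcon
  have key : ∀ w ∈ Q s, w * x = x * w → w * y = y * w := by
    intro w hw hwx
    rcases Qs_act h hy hw with h3 | h3
    · exact h3
    · exact absurd hwx (hcon w hw h3)
  obtain ⟨w1, hw1, e1⟩ := h.Adj_q hy
  have e1' : w1 * x * w1⁻¹ = s * x := (Qs_act h hx hw1).resolve_left (hcon w1 hw1 e1)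
  have hss : ∀ w ∈ Q s, w * s = s * w := fun w hw => (h.ZC_comm (h.mem_ZC hx.left) hw).symm
  have hs2 := h.Om_sq hx.left
  have hxy : x * y ∈ ZC Q s := by
    rw [Subgroup.mem_centralizer_iff]
    intro w hw
    rcases Qs_act h hx hw with h3 | h3
    · have h4 := key w hw h3
      calc w * (x * y) = (w * x) * y := by group
        _ = x * (w * y) := by rw [h3]; group
        _ = x * y * w := by rw [h4]; group
    · have h5 : w1 * w * x = x * (w1 * w) := by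
        have : w1 * w * x * (w1 * w)⁻¹ = x := by
          calc w1 * w * x * (w1 * w)⁻¹ = w1 * (w * x * w⁻¹) * w1⁻¹ := by group
            _ = (w1 * s * w1⁻¹) * (w1 * x * w1⁻¹) := by rw [h3]; group
            _ = s * (s * x) := by rw [hss w1 hw1, mul_inv_cancel_right, e1']
            _ = x := by rw [← mul_assoc, hs2, one_mul]
        calc w1 * w * x = (w1 * w * x * (w1 * w)⁻¹) * (w1 * w) := by group
          _ = _ := by rw [this]
      have h6 := key _ (mul_mem hw1 hw) h5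
      have h7 : w * y * w⁻¹ = s * y := by
        have : w1 * (w * y * w⁻¹) * w1⁻¹ = y := by
          calc w1 * (w * y * w⁻¹) * w1⁻¹ = (w1 * w * y) * (w1 * w)⁻¹ := by group
            _ = y := by rw [h6, mul_inv_cancel_right]
        have h8 : w1 * (s * y) * w1⁻¹ = y := by
          calc w1 * (s * y) * w1⁻¹ = (w1 * s * w1⁻¹) * (w1 * y * w1⁻¹) := by group
            _ = s * (s * y) := by rw [hss w1 hw1, mul_inv_cancel_right, e1]
            _ = y := by rw [← mul_assoc, hs2, one_mul]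
        calc w * y * w⁻¹ = w1⁻¹ * (w1 * (w * y * w⁻¹) * w1⁻¹) * w1 := by group
          _ = w1⁻¹ * (w1 * (s * y) * w1⁻¹) * w1 := by rw [this, h8]
          _ = s * y := by group
      have h9 : w * (x * y) * w⁻¹ = x * y := by
        have hxs : x * s = s * x := h.UU_comm (h.Adj_UU hx) (Om_le_UU hx.left)
        calc w * (x * y) * w⁻¹ = (w * x * w⁻¹) * (w * y * w⁻¹) := by group
          _ = s * (x * s) * y := by rw [h3, h7]; group
          _ = (s * s) * (x * y) := by rw [hxs]; group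
          _ = x * y := by rw [hs2, one_mul]
      calc w * (x * y) = (w * (x * y) * w⁻¹) * w := by group
        _ = _ := by rw [h9]
  rcases h.noPar_at hx hy hxy with h3 | h3
  · exact h1 h3
  · exact h2 h3

/-! ### the element `d = n n' n_s` -/

/-- the properties of `d` for `n ∈ K_x` -/
structure IsD (M : Subgroup G) (r : G) (Q : G → Subgroup G) (s x n q n' d : G) : Prop where
  qQ : q ∈ Q s
  qx : q * x * q⁻¹ = s * x
  n'def : n' = q * n * q⁻¹
  n'Z : n' ∈ ZC Q (s * x)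
  dU : d ∈ UU M r
  ds : d ∈ Q s
  dx : d ∈ Q x
  dn : n * n' * d ∈ ZC Q s

theorem exists_d {s x n : G} (a : Adj M r t s x) (hn : n ∈ UU M r) (hz : n ∈ ZC Q x) :
    ∃ q n' d, IsD M r Q s x n q n' d := by
  obtain ⟨q, hq, e1⟩ := h.Adj_q a
  obtain ⟨p, hp, e2⟩ := h.Adj_q (h.Adj_symm a)
  have hs := a.left
  have hx := h.Adj_right a
  have hsU := Om_le_UU hs
  have hxU := Om_le_UU hx
  have hqM := h.Q_le_M hs hq
  have hpM := h.Q_le_M hx hp
  have hn'U : q * n * q⁻¹ ∈ UU M r := UConj h hqM hn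
  have hn'Z : q * n * q⁻¹ ∈ ZC Q (s * x) := by
    have := (h.ZC_conj (g := q)).2 hz
    rwa [e1] at this
  have hpx : p * x * p⁻¹ = x := by
    have := h.ZC_comm (h.mem_ZC hx) hp
    rw [← this]; group
  have e3 : p * (s * x) * p⁻¹ = s := by
    calc p * (s * x) * p⁻¹ = (p * s * p⁻¹) * (p * x * p⁻¹) := by group
      _ = x * s * x := by rw [e2, hpx]
      _ = s := h.UU_cancel hxU hsU
  have hmU : p * (q * n * q⁻¹) * p⁻¹ ∈ UU M r := UConj h hpM hn'U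
  have hmZ : p * (q * n * q⁻¹) * p⁻¹ ∈ ZC Q s := by
    have := (h.ZC_conj (g := p)).2 hn'Z
    rwa [e3] at this
  refine ⟨q, q * n * q⁻¹, n * (q * n * q⁻¹) * (p * (q * n * q⁻¹) * p⁻¹), hq, e1, rfl, hn'Z,
    mul_mem (mul_mem hn hn'U) hmU, ?_, ?_, ?_⟩
  · refine mul_mem ?_ (h.ZC_le_Q hs hmZ)
    have hns : n * s = s * n := h.UU_comm hn hsU
    have e : n * (q * n * q⁻¹) = (n * q * n⁻¹) * q⁻¹ := by
      calc n * (q * n * q⁻¹) = n * q * n * q⁻¹ := by group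
        _ = n * q * n⁻¹ * q⁻¹ := by rw [h.UU_inv hn]
        _ = _ := by group
    rw [e]
    exact mul_mem ((h.Q_fix hns).2 hq) (inv_mem hq)
  · have hnx : (q * n * q⁻¹) * x = x * (q * n * q⁻¹) := h.UU_comm hn'U hxU
    have e : n * (q * n * q⁻¹) * (p * (q * n * q⁻¹) * p⁻¹)
        = n * (((q * n * q⁻¹) * p * (q * n * q⁻¹)⁻¹) * p⁻¹) := by
      rw [h.UU_inv hn'U]; group
    rw [e]
    exact mul_mem (h.ZC_le_Q hx hz) (mul_mem ((h.Q_fix hnx).2 hp) (inv_mem hp))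
  · have e : n * (q * n * q⁻¹) * (n * (q * n * q⁻¹) * (p * (q * n * q⁻¹) * p⁻¹))
        = p * (q * n * q⁻¹) * p⁻¹ := by
      have := h.UU_sq (mul_mem hn hn'U)
      rw [← mul_assoc, this, one_mul]
    rw [e]; exact hmZ

/-- (f4) -/
theorem f4 {s x n v : G} (a : Adj M r t s x) (hn : n ∈ UU M r) (hz : n ∈ ZC Q x) (hv : v ∈ Q s)
    (hvx : v * x = x * v) :
    v * n * v⁻¹ * n⁻¹ ∈ UU M r ∧ v * n * v⁻¹ * n⁻¹ ∈ ZC Q x ∧
      (v * n * v⁻¹ * n⁻¹ ∈ ZC Q s ∨ x * (v * n * v⁻¹ * n⁻¹) ∈ ZC Q s) := by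
  have h1 : v * n * v⁻¹ * n⁻¹ ∈ ZC Q x := mul_mem ((h.ZC_fix hvx).2 hz) (inv_mem hz)
  have h2 : v * n * v⁻¹ * n⁻¹ ∈ Q s := by
    have hns : n * s = s * n := h.UU_comm hn (Om_le_UU a.left)
    have e : v * n * v⁻¹ * n⁻¹ = v * (n * v⁻¹ * n⁻¹) := by group
    rw [e]
    exact mul_mem hv ((h.Q_fix hns).2 (inv_mem hv))
  exact ⟨UU_comm_mem (h.Q_le_M a.left hv) hn, h1, h.Adj_ZQ (h.Adj_symm a) h1 h2⟩

/-- `Q s` acts trivially modulo `s` on `U ∩ Q s` -/
theorem Qs_triv {s w u : G} (hs : s ∈ Om M r) (hw : w ∈ Q s) (hu : u ∈ Q s) :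
    w * u * w⁻¹ = u ∨ w * u * w⁻¹ = s * u := by
  rcases h.comm_Q hs hw hu with h1 | h1
  · left
    calc w * u * w⁻¹ = (w * u * w⁻¹ * u⁻¹) * u := by group
      _ = u := by rw [h1, one_mul]
  · right
    calc w * u * w⁻¹ = (w * u * w⁻¹ * u⁻¹) * u := by group
      _ = s * u := by rw [h1]

/-- (f5) -/
theorem f5 {s x n q n' d w : G} (a : Adj M r t s x) (hn : n ∈ UU M r) (hz : n ∈ ZC Q x)
    (D : IsD M r Q s x n q n' d) (hw : w ∈ Q s) (hwx : w * x * w⁻¹ = s * x) :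
    (w * n * w⁻¹ * n⁻¹) * d ∈ ZC Q s ∨ (w * n * w⁻¹ * n⁻¹) * d * x ∈ ZC Q s := by
  have hs := a.left
  have hx := h.Adj_right a
  have hsU := Om_le_UU hs
  have hxU := Om_le_UU hx
  have hqM := h.Q_le_M hs D.qQ
  have hn'U : n' ∈ UU M r := by rw [D.n'def]; exact UConj h hqM hn
  have hv : q⁻¹ * w ∈ Q s := mul_mem (inv_mem D.qQ) hw
  have hvx : q⁻¹ * w * x = x * (q⁻¹ * w) := by
    have e1 : q⁻¹ * (w * x * w⁻¹) * q = x := by
      rw [hwx, ← D.qx]; group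
    calc q⁻¹ * w * x = (q⁻¹ * (w * x * w⁻¹) * q) * (q⁻¹ * w) := by group
      _ = _ := by rw [e1]
  obtain ⟨g1, -, g3⟩ := f4 h a hn hz hv hvx
  set v := q⁻¹ * w with hvdef
  have hwv : w = q * v := by rw [hvdef]; group
  have e2 : w * n * w⁻¹ * n⁻¹ = q * (v * n * v⁻¹ * n⁻¹) * q⁻¹ * (n' * n) := by
    rw [hwv, D.n'def]
    calc q * v * n * (q * v)⁻¹ * n⁻¹ = q * (v * n * v⁻¹ * n⁻¹) * q⁻¹ * (q * n * q⁻¹ * n⁻¹) := by group
      _ = _ := by rw [h.UU_inv hn]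
  have hqs : q * s = s * q := (h.ZC_comm (h.mem_ZC hs) D.qQ).symm
  have hE := UConj h hqM g1
  have e3 : n' * n = n * n' := h.UU_comm hn'U hn
  rcases g3 with g3 | g3
  · left
    rw [e2, e3, mul_assoc]
    exact mul_mem ((h.ZC_fix hqs).2 g3) D.dn
  · right
    have h4 := (h.ZC_fix hqs).2 g3
    have e4 : q * (x * (v * n * v⁻¹ * n⁻¹)) * q⁻¹ = s * x * (q * (v * n * v⁻¹ * n⁻¹) * q⁻¹) := by
      calc q * (x * (v * n * v⁻¹ * n⁻¹)) * q⁻¹ = (q * x * q⁻¹) * (q * (v * n * v⁻¹ * n⁻¹) * q⁻¹) := by group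
        _ = _ := by rw [D.qx]
    rw [e4] at h4
    have h5 : x * (q * (v * n * v⁻¹ * n⁻¹) * q⁻¹) ∈ ZC Q s := by
      have := mul_mem (h.mem_ZC hs) h4
      have e5 : s * (s * x * (q * (v * n * v⁻¹ * n⁻¹) * q⁻¹)) = (s * s) * (x * (q * (v * n * v⁻¹ * n⁻¹) * q⁻¹)) := by
        group
      rwa [e5, h.Om_sq hs, one_mul] at this
    have h6 := mul_mem h5 D.dn
    have e6 : w * n * w⁻¹ * n⁻¹ * d * x = x * (q * (v * n * v⁻¹ * n⁻¹) * q⁻¹) * (n * n' * d) := by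
      rw [e2, e3]
      have e7 := h.UU_comm (mul_mem hE (mul_mem (mul_mem hn hn'U) D.dU)) hxU
      calc q * (v * n * v⁻¹ * n⁻¹) * q⁻¹ * (n * n') * d * x
          = (q * (v * n * v⁻¹ * n⁻¹) * q⁻¹) * (n * n' * d) * x := by group
        _ = x * ((q * (v * n * v⁻¹ * n⁻¹) * q⁻¹) * (n * n' * d)) := e7
        _ = _ := by group
    rw [e6]
    exact h6

/-- (f6) -/
theorem f6 {s x n q n' d v : G} (a : Adj M r t s x) (hn : n ∈ UU M r) (hz : n ∈ ZC Q x)
    (D : IsD M r Q s x n q n' d) (hv : v ∈ Q s) (hvx : v * x = x * v) (hvd : v * d = d * v) :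
    v * n * v⁻¹ * n⁻¹ ∈ ZC Q s := by
  have hs := a.left
  have hx := h.Adj_right a
  have hvM := h.Q_le_M hs hv
  have hqM := h.Q_le_M hs D.qQ
  have hn'U : n' ∈ UU M r := by rw [D.n'def]; exact UConj h hqM hn
  have hvs : v * s = s * v := (h.ZC_comm (h.mem_ZC hs) hv).symm
  have hvsx : v * (s * x) = (s * x) * v := by
    calc v * (s * x) = (v * s) * x := by group
      _ = s * (v * x) := by rw [hvs]; group
      _ = _ := by rw [hvx]; group
  have g1 := (f4 h a hn hz hv hvx).2.1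
  have g2 : v * n' * v⁻¹ * n'⁻¹ ∈ ZC Q (s * x) := mul_mem ((h.ZC_fix hvsx).2 D.n'Z) (inv_mem D.n'Z)
  -- `[v, n n' d] = 1`, `[v, d] = 1`
  have g3 : v * (n * n' * d) * v⁻¹ * (n * n' * d)⁻¹ = 1 := by
    rw [← h.ZC_comm D.dn hv]; group
  rw [cmul h hvM (mul_mem hn hn'U) D.dU, cmul h hvM hn hn'U] at g3
  have g4 : v * d * v⁻¹ * d⁻¹ = 1 := by rw [hvd]; group
  rw [g4, mul_one] at g3
  have g5 : v * n * v⁻¹ * n⁻¹ = (v * n' * v⁻¹ * n'⁻¹)⁻¹ := eq_inv_of_mul_eq_one_left g3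
  have g6 : v * n * v⁻¹ * n⁻¹ ∈ ZC Q (s * x) := by rw [g5]; exact inv_mem g2
  have g7 := h.Adj_CV (h.Adj_mul' a) g1 g6
  have e : x * (s * x) = s := by
    rw [← h.Adj_comm (h.Adj_symm a), ← mul_assoc, h.Om_sq hx, one_mul]
  rwa [e] at g7

/-- if `d` is trivial modulo `⟨x⟩ Z(Q s)` then `[Q s, n] ≤ Z(Q s)` -/
theorem f7 {s x n q n' d : G} (a : Adj M r t s x) (hn : n ∈ UU M r) (hz : n ∈ ZC Q x)
    (D : IsD M r Q s x n q n' d) (hd : d ∈ ZC Q s ∨ x * d ∈ ZC Q s) :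
    ∀ w ∈ Q s, w * n * w⁻¹ * n⁻¹ ∈ ZC Q s := by
  have hs := a.left
  have hx := h.Adj_right a
  have hsU := Om_le_UU hs
  have hxU := Om_le_UU hx
  have hqM := h.Q_le_M hs D.qQ
  have hn'U : n' ∈ UU M r := by rw [D.n'def]; exact UConj h hqM hn
  have hqs : q * s = s * q := (h.ZC_comm (h.mem_ZC hs) D.qQ).symm
  have key : ∀ v ∈ Q s, v * x = x * v → v * n * v⁻¹ * n⁻¹ ∈ ZC Q s := by
    intro v hv hvx
    refine f6 h a hn hz D hv hvx ?_
    rcases hd with hd | hd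
    · exact (h.ZC_comm hd hv).symm
    · have h1 := h.ZC_comm hd hv
      have e : d = x * (x * d) := by rw [← mul_assoc, h.UU_sq hxU, one_mul]
      calc v * d = v * (x * (x * d)) := by rw [← e]
        _ = (v * x) * (x * d) := by group
        _ = x * (v * (x * d)) := by rw [hvx]; group
        _ = x * (x * d) * v := by rw [← h1]; group
        _ = d * v := by rw [← e]
  -- `[q, n n'] = 1`
  have hq2 : q * (n * n') = (n * n') * q := by
    have h1 : q * n' * q⁻¹ = n := by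
      rw [D.n'def]
      have e : q * (q * n * q⁻¹) * q⁻¹ = (q * q) * n * (q * q)⁻¹ := by group
      rw [e]
      rcases h.sq_Q hs D.qQ with h2 | h2
      · rw [h2]; group
      · rw [h2, h.UU_comm hsU hn]; group
    calc q * (n * n') = (q * n * q⁻¹) * (q * n' * q⁻¹) * q := by group
      _ = n' * n * q := by rw [h1, ← D.n'def]
      _ = _ := by rw [h.UU_comm hn'U hn]
  have hnn : n * n' ∈ ZC Q s := by
    rcases hd with hd | hd
    · exact (mul_mem_cancel_right hd).1 D.dn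
    · exfalso
      have h1 : n * n' * x ∈ ZC Q s := by
        have h2 := mul_mem D.dn (inv_mem hd)
        have e : n * n' * d * (x * d)⁻¹ = n * n' * x := by
          rw [mul_inv_rev, h.UU_inv D.dU, h.UU_inv hxU]
          calc n * n' * d * (d * x) = n * n' * (d * d) * x := by group
            _ = _ := by rw [h.UU_sq D.dU]; group
        rwa [e] at h2
      have h3 := h.ZC_comm h1 D.qQ
      have h4 : x * q = q * x := by
        have h5 : (n * n') * (x * q) = (n * n') * (q * x) := by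
          calc (n * n') * (x * q) = n * n' * x * q := by group
            _ = (q * (n * n')) * x := by rw [h3]; group
            _ = _ := by rw [hq2]; group
        exact mul_left_cancel h5
      have h6 := D.qx
      rw [← h4] at h6
      apply h.Om_ne hs
      have : s * x = x := by rw [← h6]; group
      exact mul_eq_right.1 this
  have hqn : q * n * q⁻¹ * n⁻¹ ∈ ZC Q s := by
    rw [← D.n'def, h.UU_inv hn, h.UU_comm hn'U hn]; exact hnn
  intro w hw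
  rcases Qs_act h a hw with h1 | h1
  · exact key w hw h1
  · have hv : q⁻¹ * w ∈ Q s := mul_mem (inv_mem D.qQ) hw
    have hvx : q⁻¹ * w * x = x * (q⁻¹ * w) := by
      have e1 : q⁻¹ * (w * x * w⁻¹) * q = x := by
        rw [h1, ← D.qx]; group
      calc q⁻¹ * w * x = (q⁻¹ * (w * x * w⁻¹) * q) * (q⁻¹ * w) := by group
        _ = _ := by rw [e1]
    have h2 := key _ hv hvx
    have e : w * n * w⁻¹ * n⁻¹ =
        q * (q⁻¹ * w * n * (q⁻¹ * w)⁻¹ * n⁻¹) * q⁻¹ * (q * n * q⁻¹ * n⁻¹) := by group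
    rw [e]
    exact mul_mem ((h.ZC_fix hqs).2 h2) hqn

/-! ### Step A -/

/-- `n ∈ K_x`, `d` as above, `y` another line: `d` or `d x` is centralised by `N y` modulo `Z(Q s)` -/
theorem stepA {s x y n q n' d : G} (hx : Adj M r t s x) (hy : Adj M r t s y) (ho : Opp M r t N s y x)
    (hn : n ∈ UU M r) (hz : n ∈ ZC Q x) (D : IsD M r Q s x n q n' d) :
    d ∈ FF h hy ∨ d * x ∈ FF h hy := by
  obtain ⟨-, -, m, hm, hmx⟩ := ho
  have hs := hx.left
  have hsU := Om_le_UU hs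
  have hxO := h.Adj_right hx
  have hyO := h.Adj_right hy
  have hxU := h.Adj_UU hx
  have hyU := h.Adj_UU hy
  have hmM := h.N_le_M hyO hm
  have hms := h.N_comm hy hm
  -- the lines are different
  have h1 : y ≠ x := by
    rintro rfl
    exact hmx (h.N_fix_self hyO hm)
  have h2 : y ≠ s * x := by
    intro e
    apply hmx
    have hmy := h.N_fix_self hyO hm
    have hmss := h.N_fix_s hy hm
    have e1 : x = s * y := by rw [e, ← mul_assoc, h.Om_sq hs, one_mul]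
    calc m * x * m⁻¹ = (m * s * m⁻¹) * (m * y * m⁻¹) := by rw [e1]; group
      _ = x := by rw [hmss, hmy, ← e1]
  obtain ⟨w, hw, hwy, hwx⟩ := exists_w h hx hy h1 h2
  obtain ⟨c, hcU, hcs, hcy, hmxc⟩ := h.mv_c hy hx hm hmx
  have hwM := h.Q_le_M hs hw
  -- k = [m, n]
  have hkU : m * n * m⁻¹ * n⁻¹ ∈ UU M r := UU_comm_mem hmM hn
  have hkZ : m * n * m⁻¹ * n⁻¹ ∈ ZC Q y := by
    have hc : n * y = y * n := h.UU_comm hn hyU
    have e : m * n * m⁻¹ * n⁻¹ = m * (n * m⁻¹ * n⁻¹) := by group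
    rw [e]
    exact mul_mem (h.N_le_ZC hyO hm) ((h.ZC_fix hc).2 (inv_mem (h.N_le_ZC hyO hm)))
  have hst := star h hy hkU hkZ hw
  have hmn : m * n * m⁻¹ ∈ UU M r := UConj h hmM hn
  rw [cmul h hwM hmn (inv_mem hn)] at hst
  -- w' = m⁻¹ w m
  have hms' : m⁻¹ * s = s * m⁻¹ := h.inv_comm hms
  have hw' : m⁻¹ * w * m ∈ Q s := by
    have := (h.Q_fix hms').2 hw
    simpa using this
  have hmx' : m * x * m⁻¹ = y * x * c := hmxc
  have hw'x : m⁻¹ * w * m * x * (m⁻¹ * w * m)⁻¹ = s * x := by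
    have e1 : m⁻¹ * w * m * x * (m⁻¹ * w * m)⁻¹ = m⁻¹ * (w * (m * x * m⁻¹) * w⁻¹) * m := by group
    have e2 : w * (y * x * c) * w⁻¹ = s * (y * x * c) := by
      calc w * (y * x * c) * w⁻¹ = (w * y * w⁻¹) * (w * x) * (c * w⁻¹) := by group
        _ = s * y * x * (w * c) * w⁻¹ := by rw [hwy, hwx]; group
        _ = s * (y * x * c) := by rw [← h.ZC_comm hcs hw]; group
    have e3 : m⁻¹ * s * m = s := by rw [hms']; group
    rw [e1, hmx', e2, ← hmx']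
    calc m⁻¹ * (s * (m * x * m⁻¹)) * m = (m⁻¹ * s * m) * x := by group
      _ = s * x := by rw [e3]
  have hf5 := f5 h hx hn hz D hw' hw'x
  have hf4 := f4 h hx hn hz hw hwx
  -- the five elements
  set A := m * (m⁻¹ * w * m * n * (m⁻¹ * w * m)⁻¹ * n⁻¹) * m⁻¹ with hA
  have hAe : A = w * (m * n * m⁻¹) * w⁻¹ * (m * n * m⁻¹)⁻¹ := by rw [hA]; group
  set B := w * n⁻¹ * w⁻¹ * n⁻¹⁻¹ with hB
  have hBe : B = w * n * w⁻¹ * n⁻¹ := by rw [hB, inv_inv, h.UU_inv hn]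
  have hAU : A ∈ UU M r := by rw [hAe]; exact UU_comm_mem hwM hmn
  have hBU : B ∈ UU M r := by rw [hBe]; exact UU_comm_mem hwM hn
  have hAB : A * B ∈ FF h hy := by rw [hAe]; exact hst
  have hdU := D.dU
  have hDU : m * d * m⁻¹ ∈ UU M r := UConj h hmM hdU
  -- D d ∈ F
  have hDd : m * d * m⁻¹ * d ∈ FF h hy := by
    have h3 := h.cm hy hdU D.ds hm
    have e : m * d * m⁻¹ * d = m * d * m⁻¹ * d⁻¹ := by rw [h.UU_inv hdU]
    rw [e]
    rcases h3.2.2 with h4 | h4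
    · exact K_FF h hy h3.1 h4
    · have h5 := K_FF h hy (mul_mem hyU h3.1) h4
      exact (mul_mem_cancel_left (y_FF h hy)).1 h5
  -- E e ∈ F for e = x
  have hEx : m * x * m⁻¹ * x ∈ FF h hy := by
    rw [hmx']
    have e : y * x * c * x = y * c := by
      calc y * x * c * x = y * (x * c * x) := by group
        _ = y * c := by rw [h.UU_cancel hxU hcU]
    rw [e]
    exact mul_mem (y_FF h hy) (K_FF h hy hcU hcs)
  have hEU : m * x * m⁻¹ ∈ UU M r := UConj h hmM hxU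
  -- generic
  have gen : ∀ e ∈ UU M r, ∀ f ∈ UU M r, ∀ E ∈ UU M r, B * e ∈ FF h hy →
      A * (m * d * m⁻¹) * E ∈ FF h hy → E * f ∈ FF h hy → d * e * f ∈ FF h hy := by
    intro e he f hf E hE g1 g2 g3
    let _ : CommGroup (UU M r) :=
      { (inferInstance : Group (UU M r)) with mul_comm := fun a b => Subtype.ext (h.UU_comm a.2 b.2) }
    have := five (C := UU M r) (fun a => Subtype.ext (h.UU_sq a.2)) ((FF h hy).subgroupOf (UU M r))
      (A := ⟨A, hAU⟩) (B := ⟨B, hBU⟩) (e := ⟨e, he⟩) (D := ⟨_, hDU⟩) (E := ⟨E, hE⟩) (d := ⟨d, hdU⟩)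
      (f := ⟨f, hf⟩) hAB g1 g2 hDd g3
    exact this
  -- B e ∈ F
  have hBe' : B ∈ FF h hy ∨ B * x ∈ FF h hy := by
    rw [hBe]
    rcases hf4.2.2 with h3 | h3
    · exact Or.inl (K_FF h hy hf4.1 h3)
    · right
      rw [h.UU_comm hf4.1 hxU]
      exact K_FF h hy (mul_mem hxU hf4.1) h3
  -- A D E ∈ F
  have hAD : A * (m * d * m⁻¹) ∈ FF h hy ∨ A * (m * d * m⁻¹) * (m * x * m⁻¹) ∈ FF h hy := by
    rcases hf5 with h3 | h3
    · left
      have h4 := (h.ZC_fix hms).2 h3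
      have e : m * (m⁻¹ * w * m * n * (m⁻¹ * w * m)⁻¹ * n⁻¹ * d) * m⁻¹ = A * (m * d * m⁻¹) := by
        rw [hA]; group
      rw [e] at h4
      exact K_FF h hy (mul_mem hAU hDU) h4
    · right
      have h4 := (h.ZC_fix hms).2 h3
      have e : m * (m⁻¹ * w * m * n * (m⁻¹ * w * m)⁻¹ * n⁻¹ * d * x) * m⁻¹
          = A * (m * d * m⁻¹) * (m * x * m⁻¹) := by
        rw [hA]; group
      rw [e] at h4
      exact K_FF h hy (mul_mem (mul_mem hAU hDU) hEU) h4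
  have h1U := (UU M r).one_mem
  rcases hBe' with g1 | g1 <;> rcases hAD with g2 | g2
  · left
    have := gen 1 h1U 1 h1U 1 h1U (by rwa [mul_one]) (by rwa [mul_one]) (by rw [mul_one]; exact one_mem _)
    simpa using this
  · right
    have := gen 1 h1U x hxU _ hEU (by rwa [mul_one]) g2 hEx
    simpa using this
  · right
    have := gen x hxU 1 h1U 1 h1U g1 (by rwa [mul_one]) (by rw [mul_one]; exact one_mem _)
    simpa using this
  · left
    have := gen x hxU x hxU _ hEU g1 g2 hEx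
    rwa [mul_assoc, h.UU_sq hxU, mul_one] at this

/-! ### Step B -/

/-- transport of `F_y` -/
theorem FF_conj {s y g u : G} (hy : Adj M r t s y) (hg : g ∈ M) (hgs : g * s = s * g)
    (hy' : Adj M r t s (g * y * g⁻¹)) (hu : u ∈ FF h hy) : g * u * g⁻¹ ∈ FF h hy' := by
  refine ⟨UConj h hg hu.1, fun n hn => ?_⟩
  have h1 : g⁻¹ * n * g ∈ N y := by
    have := h.Nc g⁻¹ _ _ hn
    have e : g⁻¹ * (g * y * g⁻¹) * g⁻¹⁻¹ = y := by group
    rw [e] at this
    simpa using this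
  have h2 := (h.ZC_fix hgs).2 (hu.2 _ h1)
  have e : g * (g⁻¹ * n * g * u * (g⁻¹ * n * g)⁻¹ * u⁻¹) * g⁻¹ = n * (g * u * g⁻¹) * n⁻¹ * (g * u * g⁻¹)⁻¹ := by
    group
  rwa [e] at h2

/-- `x ∉ F_y` for opposite lines -/
theorem not_FF {s x y : G} (hx : Adj M r t s x) (hy : Adj M r t s y) (ho : Opp M r t N s y x) :
    x ∉ FF h hy := by
  rintro ⟨-, h1⟩
  obtain ⟨-, -, m, hm, hmx⟩ := ho
  exact hmx (h.fix_of hy hx hm (h1 m hm))

/-- independence of three lines on `s` -/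
def Ind (Q : G → Subgroup G) (s x y w : G) : Prop :=
  x * y ∉ ZC Q s ∧ x * w ∉ ZC Q s ∧ y * w ∉ ZC Q s ∧ x * y * w ∉ ZC Q s

theorem opp_of (hall : AllOpp M r t N) {s x y : G} (hx : Adj M r t s x) (hy : Adj M r t s y)
    (hxy : x * y ∉ ZC Q s) : Opp M r t N s x y := by
  refine hall s x y hx hy ?_ ?_
  · rintro rfl
    exact hxy (by rw [h.UU_sq (h.Adj_UU hx)]; exact one_mem _)
  · rintro rfl
    apply hxy
    rw [← mul_assoc, h.UU_comm (h.Adj_UU hx) (Om_le_UU hx.left), mul_assoc, h.UU_sq (h.Adj_UU hx), mul_one]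
    exact h.mem_ZC hx.left

/-- an element of `N w` moving `y` and fixing `x` -/
theorem exists_m (hO : JOpp M r t Q N) (hall : AllOpp M r t N) {s x y w : G} (hx : Adj M r t s x)
    (hy : Adj M r t s y) (hw : Adj M r t s w) (hi : Ind Q s x y w) :
    ∃ m ∈ N w, m * x * m⁻¹ = x ∧ m * y * m⁻¹ ≠ y := by
  obtain ⟨i1, i2, i3, i4⟩ := hi
  have hxU := h.Adj_UU hx
  have hyU := h.Adj_UU hy
  have hwU := h.Adj_UU hw
  have hwO := h.Adj_right hw
  have owy : Opp M r t N s w y := opp_of h hall hw hy (by rw [h.UU_comm hwU hyU]; exact i3)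
  have owx : Opp M r t N s w x := opp_of h hall hw hx (by rw [h.UU_comm hwU hxU]; exact i2)
  have oxy : Opp M r t N s x y := opp_of h hall hx hy i1
  by_contra hcon
  push Not at hcon
  -- the third line of x, y
  obtain ⟨-, -, -, -, -, c, -, hcU, hcs, -, -, -, hthird, -, -⟩ := hO s x y oxy
  obtain ⟨-, -, m0, hm0, hm0y⟩ := owy
  have hm0x : m0 * x * m0⁻¹ ≠ x := fun e => hm0y (hcon m0 hm0 e)
  -- every m in N w fixes the third line
  have key : ∀ m ∈ N w, m * (x * y * c) * m⁻¹ * (x * y * c)⁻¹ ∈ ZC Q s := by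
    intro m hm
    have hmM := h.N_le_M hwO hm
    have hms := h.N_comm hw hm
    have hc' : m * c * m⁻¹ * c⁻¹ ∈ ZC Q s := mul_mem ((h.ZC_fix hms).2 hcs) (inv_mem hcs)
    rw [cmul h hmM (mul_mem hxU hyU) hcU, cmul h hmM hxU hyU]
    refine mul_mem ?_ hc'
    by_cases hmx : m * x * m⁻¹ = x
    · rw [hmx, hcon m hm hmx]
      simp only [mul_inv_cancel, one_mul]; exact one_mem _
    · have hmy : m * y * m⁻¹ ≠ y := by
        intro e
        -- m0 m fixes x, hence y, so m0 fixes y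
        have h1 : m0 * m * x * (m0 * m)⁻¹ = x := by
          obtain ⟨c1, hc1U, hc1s, hc1w, e1⟩ := h.mv_c hw hx hm hmx
          rcases h.mv_uniq hw hx hm hm0 hc1U hc1s e1 with e2 | e2
          · exact absurd e2 hm0x
          · calc m0 * m * x * (m0 * m)⁻¹ = m0 * (m * x * m⁻¹) * m0⁻¹ := by group
              _ = (m0 * w * m0⁻¹) * (m0 * x * m0⁻¹) * (m0 * c1 * m0⁻¹) := by rw [e1]; group
              _ = w * (w * x * c1) * c1 := by
                  rw [h.N_fix_self hwO hm0, e2, h.N_ZC hwO hm0 hc1w]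
              _ = (w * w) * x * (c1 * c1) := by group
              _ = x := by rw [h.UU_sq hwU, h.UU_sq hc1U, one_mul, mul_one]
        have h2 := hcon _ (mul_mem hm0 hm) h1
        apply hm0y
        calc m0 * y * m0⁻¹ = m0 * (m * y * m⁻¹) * m0⁻¹ := by rw [e]
          _ = m0 * m * y * (m0 * m)⁻¹ := by group
          _ = y := h2
      obtain ⟨c1, hc1U, hc1s, hc1w, e1⟩ := h.mv_c hw hx hm hmx
      obtain ⟨c2, hc2U, hc2s, hc2w, e2⟩ := h.mv_c hw hy hm hmy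
      have e3 : m * x * m⁻¹ * x⁻¹ * (m * y * m⁻¹ * y⁻¹) = c1 * c2 := by
        rw [e1, e2, h.UU_inv hxU, h.UU_inv hyU]
        calc w * x * c1 * x * (w * y * c2 * y) = w * (x * c1 * x) * w * (y * c2 * y) := by group
          _ = (w * c1 * w) * c2 := by rw [h.UU_cancel hxU hc1U, h.UU_cancel hyU hc2U]
          _ = c1 * c2 := by rw [h.UU_cancel hwU hc1U]
      rw [e3]
      exact mul_mem hc1s hc2s
  have hxyU : x * y * c ∈ UU M r := mul_mem (mul_mem hxU hyU) hcU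
  have ho : Opp M r t N s w (x * y * c) := by
    apply opp_of h hall hw hthird
    intro e
    apply i4
    have e1 : w * (x * y * c) = (x * y * w) * c := by
      rw [h.UU_comm hwU hxyU]
      calc x * y * c * w = x * y * (c * w) := by group
        _ = _ := by rw [h.UU_comm hcU hwU]; group
    rw [e1] at e
    exact (mul_mem_cancel_right hcs).1 e
  exact not_FF h hthird hw ho ⟨hxyU, key⟩

theorem FF_congr {s y y' : G} (e : y = y') (a : Adj M r t s y) (a' : Adj M r t s y') : FF h a = FF h a' := by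
  subst e; rfl

/-- the step of (D): `ε_y = ε_w` for independent lines; `e` is `d` or `d x` -/
theorem stepB1 (hO : JOpp M r t Q N) (hall : AllOpp M r t N) {s x y w d : G} (hx : Adj M r t s x)
    (hy : Adj M r t s y) (hw : Adj M r t s w) (hi : Ind Q s x y w) (hd : d ∈ FF h hy)
    (hdx : d * x ∈ FF h hw) : False := by
  have hxU := h.Adj_UU hx
  have hyU := h.Adj_UU hy
  have hwU := h.Adj_UU hw
  have hwO := h.Adj_right hw
  have hyO := h.Adj_right hy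
  obtain ⟨i1, i2, i3, i4⟩ := hi
  obtain ⟨m, hm, hmx, hmy⟩ := exists_m h hO hall hx hy hw ⟨i1, i2, i3, i4⟩
  have i4' : x * w * y ∉ ZC Q s := by
    rw [mul_assoc, h.UU_comm hwU hyU, ← mul_assoc]; exact i4
  obtain ⟨k, hk, hkx, hkw⟩ := exists_m h hO hall hx hw hy ⟨i2, i1, by rw [h.UU_comm hwU hyU]; exact i3, i4'⟩
  have oyw : Opp M r t N s y w := ⟨hy, hw, k, hk, hkw⟩
  obtain ⟨-, -, -, -, -, c, -, hcU, hcs, -, -, -, hthird, g1, g2⟩ := hO s y w oyw
  have hkw' : k * w * k⁻¹ = y * w * c := (g1 k hk).resolve_left hkw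
  have hmy' : m * y * m⁻¹ = y * w * c := (g2 m hm).resolve_left hmy
  have hmM := h.N_le_M hwO hm
  have hms := h.N_comm hw hm
  have hkM := h.N_le_M hyO hk
  have hks := h.N_comm hy hk
  have hdU := hd.1
  have a1 : Adj M r t s (m * y * m⁻¹) := by rw [hmy']; exact hthird
  have a2 : Adj M r t s (k * w * k⁻¹) := by rw [hkw']; exact hthird
  -- d ∈ F_z
  have b1 : m * d * m⁻¹ ∈ FF h hthird := by
    have := FF_conj h hy hmM hms a1 hd
    rwa [FF_congr h hmy' a1 hthird] at this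
  have b2 : m * d * m⁻¹ * d⁻¹ ∈ FF h hthird := by
    have h1 := hdx.2 m hm
    rw [cmul h hmM hdU hxU, hmx, mul_inv_cancel, mul_one] at h1
    exact K_FF h hthird (UU_comm_mem hmM hdU) h1
  have b3 : d ∈ FF h hthird := by
    have h1 := mul_mem (inv_mem b2) b1
    have e : (m * d * m⁻¹ * d⁻¹)⁻¹ * (m * d * m⁻¹) = d := by group
    rwa [e] at h1
  -- d x ∈ F_z
  have b4 : k * (d * x) * k⁻¹ ∈ FF h hthird := by
    have := FF_conj h hw hkM hks a2 hdx
    rwa [FF_congr h hkw' a2 hthird] at this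
  have b5 : k * (d * x) * k⁻¹ * (d * x)⁻¹ ∈ FF h hthird := by
    have h1 := hd.2 k hk
    rw [cmul h hkM hdU hxU, hkx, mul_inv_cancel, mul_one]
    exact K_FF h hthird (UU_comm_mem hkM hdU) h1
  have b6 : d * x ∈ FF h hthird := by
    have h1 := mul_mem (inv_mem b5) b4
    have e : (k * (d * x) * k⁻¹ * (d * x)⁻¹)⁻¹ * (k * (d * x) * k⁻¹) = d * x := by group
    rwa [e] at h1
  have b7 : x ∈ FF h hthird := (mul_mem_cancel_left b3).1 b6
  have ho : Opp M r t N s (y * w * c) x := by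
    apply opp_of h hall hthird hx
    intro e
    apply i4
    have e1 : y * w * c * x = x * y * w * c := by
      rw [h.UU_comm (mul_mem (mul_mem hyU hwU) hcU) hxU]; group
    rw [e1] at e
    exact (mul_mem_cancel_right hcs).1 e
  exact not_FF h hx hthird ho b7

/-- a line outside the span of two lines, if there are three independent lines -/
theorem exists_out {s a b c : G} (ha : Adj M r t s a) (hb : Adj M r t s b) (hc : Adj M r t s c)
    (hi : Ind Q s a b c) {x y : G} (hx : Adj M r t s x) (hy : Adj M r t s y) :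
    ∃ v, Adj M r t s v ∧ x * v ∉ ZC Q s ∧ y * v ∉ ZC Q s ∧ x * y * v ∉ ZC Q s := by
  by_contra hcon
  push Not at hcon
  obtain ⟨i1, i2, i3, i4⟩ := hi
  have haU := h.Adj_UU ha
  have hbU := h.Adj_UU hb
  have hcU := h.Adj_UU hc
  have hxU := h.Adj_UU hx
  have hyU := h.Adj_UU hy
  have key : ∀ v, Adj M r t s v → x * v ∈ ZC Q s ∨ y * v ∈ ZC Q s ∨ x * y * v ∈ ZC Q s := by
    intro v hv
    by_cases h1 : x * v ∈ ZC Q s
    · exact Or.inl h1
    by_cases h2 : y * v ∈ ZC Q s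
    · exact Or.inr (Or.inl h2)
    exact Or.inr (Or.inr (hcon v hv h1 h2))
  -- generic
  have gen : ∀ (F : Subgroup G), F ≤ UU M r → ∀ p ∈ UU M r, ∀ q ∈ UU M r, ∀ p' ∈ UU M r,
      p' * p ∈ F → p' * q ∈ F → p * q ∈ F := by
    intro F hF p hp q hq p' hp' g1 g2
    have e : p * q = (p' * p) * (p' * q) := by
      have h3 := h.UU_comm hp' hp
      calc p * q = (p * (p' * p')) * q := by rw [h.UU_sq hp', mul_one]
        _ = (p * p') * (p' * q) := by group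
        _ = _ := by rw [← h3]
    rw [e]
    exact mul_mem g1 g2
  have gen' : ∀ p ∈ UU M r, ∀ q ∈ UU M r, ∀ p' ∈ UU M r,
      p' * p ∈ ZC Q s → p' * q ∈ ZC Q s → p * q ∈ ZC Q s := by
    intro p hp q hq p' hp' g1 g2
    exact (gen (ZC Q s ⊓ UU M r) inf_le_right p hp q hq p' hp' ⟨g1, mul_mem hp' hp⟩ ⟨g2, mul_mem hp' hq⟩).1
  have gen3 : ∀ p ∈ UU M r, ∀ q ∈ UU M r, ∀ l ∈ UU M r,
      x * p ∈ ZC Q s → y * q ∈ ZC Q s → x * y * l ∈ ZC Q s → p * q * l ∈ ZC Q s := by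
    intro p hp q hq l hl g1 g2 g3
    have e : p * q * l = (x * p) * (y * q) * (x * y * l) := by
      have e1 := h.UU_comm hxU hp
      have e2 := h.UU_comm hyU hq
      have e3 := h.UU_comm hq hxU
      calc p * q * l = p * (x * x) * q * (y * y) * l := by rw [h.UU_sq hxU, h.UU_sq hyU, mul_one, mul_one]
        _ = (p * x) * (x * q) * y * (y * l) := by group
        _ = (x * p) * (q * x) * y * (y * l) := by rw [e1, e3]
        _ = (x * p) * q * (x * y) * y * l := by group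
        _ = (x * p) * q * (y * x) * y * l := by rw [h.UU_comm hxU hyU]
        _ = (x * p) * (q * y) * (x * y * l) := by group
        _ = _ := by rw [← e2]
    rw [e]
    exact mul_mem (mul_mem g1 g2) g3
  have hxyU := mul_mem hxU hyU
  have cab := h.UU_comm haU hbU
  have cac := h.UU_comm haU hcU
  have cbc := h.UU_comm hbU hcU
  rcases key a ha with g1 | g1 | g1 <;> rcases key b hb with g2 | g2 | g2 <;>
    rcases key c hc with g3 | g3 | g3 <;>
    first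
      | exact i1 (gen' a haU b hbU _ hxU g1 g2)
      | exact i1 (gen' a haU b hbU _ hyU g1 g2)
      | exact i1 (gen' a haU b hbU _ hxyU g1 g2)
      | exact i2 (gen' a haU c hcU _ hxU g1 g3)
      | exact i2 (gen' a haU c hcU _ hyU g1 g3)
      | exact i2 (gen' a haU c hcU _ hxyU g1 g3)
      | exact i3 (gen' b hbU c hcU _ hxU g2 g3)
      | exact i3 (gen' b hbU c hcU _ hyU g2 g3)
      | exact i3 (gen' b hbU c hcU _ hxyU g2 g3)
      | exact i4 (gen3 a haU b hbU c hcU g1 g2 g3)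
      | (apply i4; have := gen3 a haU c hcU b hbU g1 g3 g2; rwa [mul_assoc, ← cbc, ← mul_assoc] at this)
      | (apply i4; have := gen3 b hbU a haU c hcU g2 g1 g3; rwa [← cab] at this)
      | (apply i4; have := gen3 b hbU c hcU a haU g2 g3 g1
         have e : b * c * a = a * b * c := by rw [← h.UU_comm haU (mul_mem hbU hcU), mul_assoc]
         rwa [e] at this)
      | (apply i4; have := gen3 c hcU a haU b hbU g3 g1 g2
         have e : c * a * b = a * b * c := by rw [mul_assoc, ← h.UU_comm (mul_mem haU hbU) hcU]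
         rwa [e] at this)
      | (apply i4; have := gen3 c hcU b hbU a haU g3 g2 g1
         have e : c * b * a = a * b * c := by
           rw [← cbc, ← h.UU_comm haU (mul_mem hbU hcU), mul_assoc]
         rwa [e] at this)

/-- `F_{sy} = F_y` on `U ∩ Q s` -/
theorem FF_sy {s y u : G} (hy : Adj M r t s y) (hy' : Adj M r t s (s * y)) (hus : u ∈ Q s)
    (hu : u ∈ FF h hy) : u ∈ FF h hy' := by
  refine ⟨hu.1, fun n hn => ?_⟩
  obtain ⟨q, hq, hqy⟩ := h.Adj_q hy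
  have hs := hy.left
  have hsU := Om_le_UU hs
  have hqs : q * s = s * q := (h.ZC_comm (h.mem_ZC hs) hq).symm
  have hn' : q⁻¹ * n * q ∈ N y := by
    have := h.Nc q⁻¹ _ _ hn
    rw [← hqy] at this
    have e : q⁻¹ * (q * y * q⁻¹) * q⁻¹⁻¹ = y := by group
    rw [e] at this
    simpa using this
  have h1 := hu.2 _ hn'
  have h2 : q⁻¹ * n * q * (q⁻¹ * u * q) * (q⁻¹ * n * q)⁻¹ * (q⁻¹ * u * q)⁻¹ ∈ ZC Q s := by
    rcases Qs_triv h hs (inv_mem hq) hus with h3 | h3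
    · rw [inv_inv] at h3
      rw [h3]; exact h1
    · rw [inv_inv] at h3
      rw [h3]
      have hm := h.N_comm hy hn'
      have e : q⁻¹ * n * q * (s * u) * (q⁻¹ * n * q)⁻¹ * (s * u)⁻¹
          = s * (q⁻¹ * n * q * u * (q⁻¹ * n * q)⁻¹ * u⁻¹) * s⁻¹ := by
        calc q⁻¹ * n * q * (s * u) * (q⁻¹ * n * q)⁻¹ * (s * u)⁻¹
            = (q⁻¹ * n * q * s) * u * (q⁻¹ * n * q)⁻¹ * u⁻¹ * s⁻¹ := by group
          _ = _ := by rw [hm]; group
      rw [e]
      exact (h.ZC_fix rfl).2 h1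
  have h3 := (h.ZC_fix hqs).2 h2
  have e : q * (q⁻¹ * n * q * (q⁻¹ * u * q) * (q⁻¹ * n * q)⁻¹ * (q⁻¹ * u * q)⁻¹) * q⁻¹ = n * u * n⁻¹ * u⁻¹ := by
    group
  rwa [e] at h3

/-- `ε` is constant -/
theorem stepB2 (hO : JOpp M r t Q N) (hall : AllOpp M r t N) {s a b c : G} (ha : Adj M r t s a)
    (hb : Adj M r t s b) (hc : Adj M r t s c) (hi : Ind Q s a b c) {x y w d : G} (hx : Adj M r t s x)
    (hy : Adj M r t s y) (hw : Adj M r t s w) (hxy : x * y ∉ ZC Q s) (hxw : x * w ∉ ZC Q s)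
    (hA : ∀ (v : G) (hv : Adj M r t s v), x * v ∉ ZC Q s → d ∈ FF h hv ∨ d * x ∈ FF h hv)
    (hds : d ∈ Q s) (hd : d ∈ FF h hy) : d ∈ FF h hw := by
  have hxU := h.Adj_UU hx
  have hyU := h.Adj_UU hy
  have hwU := h.Adj_UU hw
  -- independent case
  have step : ∀ (u v : G) (hu : Adj M r t s u) (hv : Adj M r t s v), Ind Q s x u v → d ∈ FF h hu → d ∈ FF h hv := by
    intro u v hu hv hi' hdu
    rcases hA v hv hi'.2.1 with h1 | h1
    · exact h1
    · exact (stepB1 h hO hall hx hu hv hi' hdu h1).elim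
  by_cases h1 : y * w ∈ ZC Q s
  · rcases h.noPar_at hy hw h1 with h2 | h2
    · subst h2; exact hd
    · subst h2; exact FF_sy h hy hw hds hd
  by_cases h2 : x * y * w ∈ ZC Q s
  · obtain ⟨v, hv, v1, v2, v3⟩ := exists_out h ha hb hc hi hx hy
    have h3 : d ∈ FF h hv := step y v hy hv ⟨hxy, v1, v2, v3⟩ hd
    have hvU := h.Adj_UU hv
    refine step v w hv hw ⟨v1, hxw, ?_, ?_⟩ h3
    · intro e
      -- v ≡ w ≡ x y
      apply v3
      have e1 : x * y * v = (x * y * w) * (v * w) := by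
        calc x * y * v = x * y * (w * w) * v := by rw [h.UU_sq hwU, mul_one]
          _ = (x * y * w) * (w * v) := by group
          _ = _ := by rw [h.UU_comm hwU hvU]
      rw [e1]
      exact mul_mem h2 e
    · intro e
      apply v2
      have e1 : y * v = (x * y * w) * (x * v * w) := by
        have c1 := h.UU_comm hwU (mul_mem hxU hvU)
        calc y * v = (x * x) * (y * v) * (w * w) := by rw [h.UU_sq hwU, h.UU_sq hxU, mul_one, one_mul]
          _ = x * (x * y) * v * w * w := by group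
          _ = x * (y * x) * v * w * w := by rw [h.UU_comm hxU hyU]
          _ = x * y * (x * v * w) * w := by group
          _ = x * y * (w * (x * v)) * w := by rw [c1]
          _ = _ := by group
      rw [e1]
      exact mul_mem h2 e
  · exact step y w hy hw ⟨hxy, hxw, h1, h2⟩ hd

/-- `d e` is centralised by all `N y` modulo `Z(Q s)`, for `e = 1` or `e = x` -/
theorem stepB (hO : JOpp M r t Q N) (hall : AllOpp M r t N) {s a b c : G} (ha : Adj M r t s a)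
    (hb : Adj M r t s b) (hc : Adj M r t s c) (hi : Ind Q s a b c) {x d : G} (hx : Adj M r t s x)
    (hds : d ∈ Q s) (hdx : d ∈ Q x) (hdU : d ∈ UU M r)
    (hA : ∀ (v : G) (hv : Adj M r t s v), x * v ∉ ZC Q s → d ∈ FF h hv ∨ d * x ∈ FF h hv) :
    ∃ e, (e = 1 ∨ e = x) ∧ ∀ (v : G) (hv : Adj M r t s v), d * e ∈ FF h hv := by
  have hxU := h.Adj_UU hx
  have hsx := h.Adj_mul hx
  have hdxx : d * x ∈ Q x := mul_mem hdx (h.mem_Q (h.Adj_right hx))
  have hdxs : d * x ∈ Q s := mul_mem hds (h.Adj_mem hx)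
  -- on the line of x everything is fine
  have hline : ∀ e, (e = 1 ∨ e = x) → ∀ (v : G) (hv : Adj M r t s v), x * v ∈ ZC Q s → d * e ∈ FF h hv := by
    intro e he v hv hz
    have hde : d * e ∈ Q x ∧ d * e ∈ Q s ∧ d * e ∈ UU M r := by
      rcases he with rfl | rfl
      · simpa using ⟨hdx, hds, hdU⟩
      · exact ⟨hdxx, hdxs, mul_mem hdU hxU⟩
    have h1 := Ky_FF h hx hde.2.2 hde.1
    rcases h.noPar_at hx hv hz with h2 | h2
    · subst h2; exact h1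
    · subst h2; exact FF_sy h hx hv hde.2.1 h1
  obtain ⟨y, hy, hxy, -, -⟩ := exists_out h ha hb hc hi hx hx
  rcases hA y hy hxy with h1 | h1
  · refine ⟨1, Or.inl rfl, fun v hv => ?_⟩
    by_cases h2 : x * v ∈ ZC Q s
    · exact hline 1 (Or.inl rfl) v hv h2
    · rw [mul_one]
      exact stepB2 h hO hall ha hb hc hi hx hy hv hxy h2 hA hds h1
  · refine ⟨x, Or.inr rfl, fun v hv => ?_⟩
    by_cases h2 : x * v ∈ ZC Q s
    · exact hline x (Or.inr rfl) v hv h2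
    · refine stepB2 h hO hall ha hb hc hi hx hy hv hxy h2 ?_ hdxs h1
      intro u hu hxu
      rcases hA u hu hxu with h3 | h3
      · right
        rwa [mul_assoc, h.UU_sq hxU, mul_one]
      · exact Or.inl h3

/-! ### Steps C and D -/

/-- **`K_x ≤ Q s`** -/
theorem stepD (g1 : G1 M r t Q) (hO : JOpp M r t Q N) (hall : AllOpp M r t N) {s a b c : G}
    (ha : Adj M r t s a) (hb : Adj M r t s b) (hc : Adj M r t s c) (hi : Ind Q s a b c) {x n : G}
    (hx : Adj M r t s x) (hn : n ∈ UU M r) (hz : n ∈ ZC Q x) : n ∈ Q s := by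
  obtain ⟨q, n', d, D⟩ := exists_d h hx hn hz
  have hs := hx.left
  have hxO := h.Adj_right hx
  have hsU := Om_le_UU hs
  have hxU := h.Adj_UU hx
  have hA : ∀ (v : G) (hv : Adj M r t s v), x * v ∉ ZC Q s → d ∈ FF h hv ∨ d * x ∈ FF h hv := by
    intro v hv hxv
    exact stepA h hx hv (opp_of h hall hv hx (by rw [h.UU_comm (h.Adj_UU hv) hxU]; exact hxv)) hn hz D
  obtain ⟨e, he, hB⟩ := stepB h hO hall ha hb hc hi hx D.ds D.dx D.dU hA
  obtain ⟨y, hy, hxy, -, -⟩ := exists_out h ha hb hc hi hx hx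
  have oyx : Opp M r t N s y x := opp_of h hall hy hx (by rw [h.UU_comm (h.Adj_UU hy) hxU]; exact hxy)
  -- Step C
  have hC : ∀ g ∈ Q x, g * s = s * g → g * d = d * g := by
    intro g hg hgs
    have hgM := h.Q_le_M hxO hg
    have hgx : g * x = x * g := (h.ZC_comm (h.mem_ZC hxO) hg).symm
    rcases h.comm_Q hxO hg D.dx with h1 | h1
    · calc g * d = (g * d * g⁻¹ * d⁻¹) * d * g := by group
        _ = d * g := by rw [h1, one_mul]
    · exfalso
      -- y' = g⁻¹ y g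
      have hgs' : g⁻¹ * s = s * g⁻¹ := h.inv_comm hgs
      have hy' : Adj M r t s (g⁻¹ * y * g⁻¹⁻¹) := by
        have := hy.conj (M.inv_mem hgM)
        have e1 : g⁻¹ * s * g⁻¹⁻¹ = s := by rw [hgs']; group
        rwa [e1] at this
      have hy'' : Adj M r t s (g * (g⁻¹ * y * g⁻¹⁻¹) * g⁻¹) := by
        have e1 : g * (g⁻¹ * y * g⁻¹⁻¹) * g⁻¹ = y := by group
        rw [e1]; exact hy
      have h2 := FF_conj h hy' hgM hgs hy'' (hB _ hy')
      have e1 : g * (g⁻¹ * y * g⁻¹⁻¹) * g⁻¹ = y := by group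
      rw [FF_congr h e1 hy'' hy] at h2
      have h3 : g * (d * e) * g⁻¹ * (d * e)⁻¹ ∈ FF h hy := mul_mem h2 (inv_mem (hB _ hy))
      have heU : e ∈ UU M r := by
        rcases he with rfl | rfl
        · exact one_mem _
        · exact hxU
      rw [cmul h hgM D.dU heU, h1] at h3
      have h4 : g * e * g⁻¹ * e⁻¹ = 1 := by
        rcases he with rfl | rfl
        · group
        · rw [hgx]; group
      rw [h4, mul_one] at h3
      exact not_FF h hx hy oyx h3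
  -- nondegeneracy of `Q x`
  have hnd : d ∈ ZC Q x ∨ s * d ∈ ZC Q x := by
    obtain ⟨p, hp, e2⟩ := h.Adj_q (h.Adj_symm hx)
    have hps : p * s * p⁻¹ = x * s := e2
    have hxx := h.Om_sq hxO
    have gen : ∀ u ∈ UU M r, u * s = s * u → p * u = u * p →
        (∀ g ∈ Q x, g * s = s * g → g * u = u * g) → u ∈ ZC Q x := by
      intro u hu hus hpu hgu
      rw [Subgroup.mem_centralizer_iff]
      intro g hg
      rcases Qs_act h (h.Adj_symm hx) hg with h1 | h1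
      · exact hgu g hg h1
      · have h2 : p⁻¹ * g * s = s * (p⁻¹ * g) := by
          have e3 : p⁻¹ * (g * s * g⁻¹) * p = s := by rw [h1, ← hps]; group
          calc p⁻¹ * g * s = (p⁻¹ * (g * s * g⁻¹) * p) * (p⁻¹ * g) := by group
            _ = _ := by rw [e3]
        have h3 := hgu _ (mul_mem (inv_mem hp) hg) h2
        calc g * u = p * (p⁻¹ * g * u) := by group
          _ = (p * u) * (p⁻¹ * g) := by rw [h3]; group
          _ = u * g := by rw [hpu]; group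
    have hds : d * s = s * d := h.UU_comm D.dU hsU
    rcases h.comm_Q hxO hp D.dx with h1 | h1
    · left
      refine gen d D.dU hds ?_ hC
      calc p * d = (p * d * p⁻¹ * d⁻¹) * d * p := by group
        _ = _ := by rw [h1, one_mul]
    · right
      refine gen (s * d) (mul_mem hsU D.dU) (by rw [mul_assoc, hds]) ?_ ?_
      · have e3 : p * (s * d) * p⁻¹ = s * d := by
          calc p * (s * d) * p⁻¹ = (p * s * p⁻¹) * ((p * d * p⁻¹ * d⁻¹) * d) := by group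
            _ = x * s * (x * d) := by rw [hps, h1]
            _ = (x * s * x) * d := by group
            _ = s * d := by rw [h.UU_cancel hxU hsU]
        calc p * (s * d) = (p * (s * d) * p⁻¹) * p := by group
          _ = _ := by rw [e3]
      · intro g hg hgs
        have := hC g hg hgs
        calc g * (s * d) = (g * s) * d := by group
          _ = s * (g * d) := by rw [hgs]; group
          _ = _ := by rw [this]; group
  -- so `d ∈ ⟨x⟩ Z(Q s)`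
  have hd : d ∈ ZC Q s ∨ x * d ∈ ZC Q s := by
    rcases hnd with h1 | h1
    · exact h.Adj_ZQ (h.Adj_symm hx) h1 D.ds
    · have h2 := h.Adj_ZQ (h.Adj_symm hx) h1 (mul_mem (h.mem_Q hs) D.ds)
      rcases h2 with h3 | h3
      · left
        exact (mul_mem_cancel_left (h.mem_ZC hs)).1 h3
      · right
        have e3 : x * (s * d) = s * (x * d) := by
          rw [← mul_assoc, h.UU_comm hxU hsU, mul_assoc]
        rw [e3] at h3
        exact (mul_mem_cancel_left (h.mem_ZC hs)).1 h3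
  have h7 := f7 h hx hn hz D hd
  -- G1 at the pair (s, x)
  obtain ⟨m, hm, rfl, rfl⟩ := hx
  have h8 : m⁻¹ * n * m ∈ Q r := by
    apply g1
    · have := UU_conj (r := r) (M.inv_mem hm) hn
      simpa using this
    · have := (h.ZC_conj (g := m⁻¹)).2 hz
      simpa [mul_assoc] using this
    · intro w hw
      have h9 := h7 _ (h.Qc m _ _ hw)
      have h10 := (h.ZC_conj (g := m⁻¹)).2 h9
      have e1 : m⁻¹ * (m * w * m⁻¹ * n * (m * w * m⁻¹)⁻¹ * n⁻¹) * m⁻¹⁻¹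
          = w * (m⁻¹ * n * m) * w⁻¹ * (m⁻¹ * n * m)⁻¹ := by group
      have e2 : m⁻¹ * (m * r * m⁻¹) * m⁻¹⁻¹ = r := by group
      rwa [e1, e2] at h10
  have := h.Qc m _ _ h8
  simpa [mul_assoc] using this

/-! ### Step E = (11) -/

/-- `Ind` is invariant -/
theorem Ind.conj {s a b c g : G} (hi : Ind Q s a b c) :
    Ind Q (g * s * g⁻¹) (g * a * g⁻¹) (g * b * g⁻¹) (g * c * g⁻¹) := by
  obtain ⟨i1, i2, i3, i4⟩ := hi
  have key : ∀ u, u ∉ ZC Q s → ∀ v, v = g * u * g⁻¹ → v ∉ ZC Q (g * s * g⁻¹) := by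
    rintro u hu v rfl h1
    exact hu (h.ZC_conj.1 h1)
  exact ⟨key _ i1 _ (by group), key _ i2 _ (by group), key _ i3 _ (by group), key _ i4 _ (by group)⟩

/-- (E1) -/
theorem stepE1 (g1 : G1 M r t Q) (hO : JOpp M r t Q N) (hall : AllOpp M r t N) {p x b c v y : G}
    (hx : Adj M r t p x) (hb : Adj M r t p b) (hc : Adj M r t p c) (hi : Ind Q p x b c)
    (hv : Adj M r t x v) (hy : y ∈ Q p) (hyx : y * x = x * y) :
    y * v * y⁻¹ * v⁻¹ ∈ ZC Q p ∨ x * (y * v * y⁻¹ * v⁻¹) ∈ ZC Q p := by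
  have hp := hx.left
  have hpU := Om_le_UU hp
  have hxO := h.Adj_right hx
  have hxU := h.Adj_UU hx
  have hvU := h.Adj_UU hv
  have hxp := h.Adj_symm hx
  have hyM := h.Q_le_M hp hy
  have hv' : Adj M r t x (y * v * y⁻¹) := by
    have := hv.conj hyM
    have e : y * x * y⁻¹ = x := by rw [hyx]; group
    rwa [e] at this
  have hv'U := h.Adj_UU hv'
  have hvi := h.UU_inv hvU
  rw [hvi]
  by_cases h1 : v * (y * v * y⁻¹) ∈ ZC Q x
  · rcases h.noPar_at hv hv' h1 with h2 | h2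
    · left; rw [h2, h.UU_sq hvU]; exact one_mem _
    · right
      have e : x * (x * v * v) = 1 := by
        rw [mul_assoc, h.UU_sq hvU, mul_one, h.UU_sq hxU]
      rw [h2, e]; exact one_mem _
  · have ho := opp_of h hall hv hv' h1
    obtain ⟨-, -, -, -, -, c', -, hcU, hcx, -, -, -, hthird, -, -⟩ := hO x v _ ho
    have hcomm : y * v * y⁻¹ * v = v * (y * v * y⁻¹) := h.UU_comm hv'U hvU
    have hQp : v * (y * v * y⁻¹) ∈ Q p := by
      have hvp : v * p = p * v := h.UU_comm hvU hpU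
      have e : v * (y * v * y⁻¹) = (v * y * v⁻¹) * y⁻¹ := by rw [hvi]; group
      rw [e]
      exact mul_mem ((h.Q_fix hvp).2 hy) (inv_mem hy)
    have hF : v * (y * v * y⁻¹) * c' ∈ FF h hxp :=
      mul_mem (Ky_FF h hxp (mul_mem hvU hv'U) hQp) (K_FF h hxp hcU hcx)
    have h2 : p * (v * (y * v * y⁻¹) * c') ∈ ZC Q x := by
      by_contra h3
      exact not_FF h hthird hxp (opp_of h hall hxp hthird h3) hF
    have hcp : c' ∈ Q p := stepD h g1 hO hall hx hb hc hi hx hcU hcx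
    have h3 := h.Adj_ZQ hxp hcx hcp
    -- v v' = p c' or x p c'
    have h4 : v * (y * v * y⁻¹) = p * c' ∨ v * (y * v * y⁻¹) = x * (p * c') := by
      have hcc := h.UU_sq hcU
      rcases h.noPar_at hxp hthird h2 with h5 | h5
      · left
        calc v * (y * v * y⁻¹) = v * (y * v * y⁻¹) * c' * c' := by rw [mul_assoc _ c' c', hcc, mul_one]
          _ = _ := by rw [h5]
      · right
        calc v * (y * v * y⁻¹) = v * (y * v * y⁻¹) * c' * c' := by rw [mul_assoc _ c' c', hcc, mul_one]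
          _ = _ := by rw [h5]; group
    rw [hcomm]
    have hpz := h.mem_ZC hp
    rcases h4 with h4 | h4 <;> rw [h4] <;> rcases h3 with h3 | h3
    · left; exact mul_mem hpz h3
    · right
      have e : x * (p * c') = p * (x * c') := by rw [← mul_assoc, h.UU_comm hxU hpU, mul_assoc]
      rw [e]; exact mul_mem hpz h3
    · right
      rw [← mul_assoc, h.UU_sq hxU, one_mul]; exact mul_mem hpz h3
    · left
      have e : x * (p * c') = p * (x * c') := by rw [← mul_assoc, h.UU_comm hxU hpU, mul_assoc]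
      rw [e]; exact mul_mem hpz h3

/-- (E2): `v` does not act trivially -/
theorem stepE2 (hall : AllOpp M r t N) {p x v : G} (hx : Adj M r t p x) (hv : Adj M r t x v)
    (hpv : p * v ∉ ZC Q x) (htriv : ∀ y ∈ Q p, y * x = x * y → y * v * y⁻¹ * v⁻¹ ∈ ZC Q p) : False := by
  have hp := hx.left
  have hpU := Om_le_UU hp
  have hxO := h.Adj_right hx
  have hxU := h.Adj_UU hx
  have hvU := h.Adj_UU hv
  obtain ⟨q, hq, hqx⟩ := h.Adj_q hx
  have hqM := h.Q_le_M hp hq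
  have hvp : v * p = p * v := h.UU_comm hvU hpU
  set j := q⁻¹ * (v * q * v⁻¹) with hj
  have hjU : j ∈ UU M r := by
    have e : j = (q⁻¹ * v * q⁻¹⁻¹) * v⁻¹ := by rw [hj]; group
    rw [e]; exact mul_mem (UConj h (inv_mem hqM) hvU) (inv_mem hvU)
  have hjQ : j ∈ Q p := mul_mem (inv_mem hq) ((h.Q_fix hvp).2 hq)
  have hvq : v * q * v⁻¹ = q * j := by rw [hj]; group
  have hjj := h.UU_sq hjU
  -- j commutes with C_{Q p}(x)
  have k1 : ∀ y ∈ Q p, y * x = x * y → j * y = y * j := by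
    intro y hy hyx
    have hyx' : y⁻¹ * x = x * y⁻¹ := h.inv_comm hyx
    have h1 := htriv _ (inv_mem hy) hyx'
    rw [inv_inv] at h1
    set k := y⁻¹ * v * y * v⁻¹ with hk
    have hvy : v * y * v⁻¹ = y * k := by rw [hk]; group
    have h2 : v * (q * y * q⁻¹ * y⁻¹) * v⁻¹ = q * y * q⁻¹ * y⁻¹ := by
      rcases h.comm_Q hp hq hy with h3 | h3
      · rw [h3]; group
      · rw [h3, hvp]; group
    have h3 : v * (q * y * q⁻¹ * y⁻¹) * v⁻¹ = (q * j) * (y * k) * (q * j)⁻¹ * (y * k)⁻¹ := by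
      rw [← hvq, ← hvy]; group
    have h4 : (q * j) * (y * k) * (q * j)⁻¹ * (y * k)⁻¹ = (q * j) * y * (q * j)⁻¹ * y⁻¹ := by
      have h5 := h.ZC_comm h1 (inv_mem (mul_mem hq hjQ))
      calc (q * j) * (y * k) * (q * j)⁻¹ * (y * k)⁻¹ = (q * j) * y * (k * (q * j)⁻¹) * k⁻¹ * y⁻¹ := by group
        _ = _ := by rw [h5]; group
    rw [h4] at h3
    rw [h2] at h3
    have h6 : j * y * j⁻¹ * y⁻¹ = 1 := by
      have e : j * y * j⁻¹ * y⁻¹ = q⁻¹ * ((q * j) * y * (q * j)⁻¹ * y⁻¹) * (y * q * y⁻¹) := by group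
      rw [e, ← h3]; group
    calc j * y = (j * y * j⁻¹ * y⁻¹) * y * j := by group
      _ = _ := by rw [h6, one_mul]
  have k2 : j * q = q * j := by
    have h2 : (q * j) * (q * j) = q * q := by
      have e : (q * j) * (q * j) = v * (q * q) * v⁻¹ := by rw [← hvq]; group
      rw [e]
      rcases h.sq_Q hp hq with h3 | h3
      · rw [h3]; group
      · rw [h3, hvp]; group
    have h3 : j * q * j = q := by
      have e : j * q * j = q⁻¹ * ((q * j) * (q * j)) := by group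
      rw [e, h2]; group
    calc j * q = j * q * (j * j) := by rw [hjj, mul_one]
      _ = (j * q * j) * j := by group
      _ = q * j := by rw [h3]
  have hjZ : j ∈ ZC Q p := by
    rw [Subgroup.mem_centralizer_iff]
    intro w hw
    rcases Qs_act h hx hw with h1 | h1
    · exact (k1 w hw h1).symm
    · have hvx : q⁻¹ * w * x = x * (q⁻¹ * w) := by
        have e1 : q⁻¹ * (w * x * w⁻¹) * q = x := by
          rw [h1, ← hqx]; group
        calc q⁻¹ * w * x = (q⁻¹ * (w * x * w⁻¹) * q) * (q⁻¹ * w) := by group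
          _ = _ := by rw [e1]
      have h2 := k1 _ (mul_mem (inv_mem hq) hw) hvx
      calc w * j = q * (q⁻¹ * w * j) := by group
        _ = (q * j) * (q⁻¹ * w) := by rw [← h2]; group
        _ = j * w := by rw [← k2]; group
  -- i = [q, v] = j
  have hi : q * v * q⁻¹ * v⁻¹ = j := by
    have e : q * v * q⁻¹ * v⁻¹ = q * (v * q * v⁻¹)⁻¹ := by group
    rw [e, hvq]
    calc q * (q * j)⁻¹ = q * j⁻¹ * q⁻¹ := by group
      _ = j * q * q⁻¹ := by rw [h.UU_inv hjU, k2]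
      _ = j := by group
  -- the swap
  have hxp := h.Adj_symm hx
  have hpx := h.Adj_mul hx
  obtain ⟨g, hg, hgp⟩ := h.Adj_q (h.Adj_symm hpx)
  have hcpx : p * x = x * p := h.UU_comm hpU hxU
  have hpp := h.UU_sq hpU
  have hxx := h.UU_sq hxU
  have hpxO := h.Adj_right hpx
  have hpxU := h.Adj_UU hpx
  have hgM := h.Q_le_M hpxO hg
  have hgp' : g * p * g⁻¹ = x := by
    rw [hgp, mul_assoc, ← hcpx, ← mul_assoc, hpp, one_mul]
  have hgpx : g * (p * x) * g⁻¹ = p * x := by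
    have := h.ZC_comm (h.mem_ZC hpxO) hg
    rw [← this]; group
  have hgx : g * x * g⁻¹ = p := by
    have e : g * x * g⁻¹ = (g * p * g⁻¹) * (g * (p * x) * g⁻¹) := by
      calc g * x * g⁻¹ = g * (p * p * x) * g⁻¹ := by rw [hpp, one_mul]
        _ = _ := by group
    rw [e, hgp', hgpx, hcpx, ← mul_assoc, hxx, one_mul]
  have hrx : Adj M r t p (g * v * g⁻¹) := by
    have := hv.conj hgM
    rwa [hgx] at this
  have hrxU := h.Adj_UU hrx
  have m1 : v * (g * v * g⁻¹) ∈ Q (p * x) := by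
    have hc : v * (p * x) = (p * x) * v := h.UU_comm hvU hpxU
    have e : v * (g * v * g⁻¹) = (v * g * v⁻¹) * g⁻¹ := by rw [h.UU_inv hvU]; group
    rw [e]
    exact mul_mem ((h.Q_fix hc).2 hg) (inv_mem hg)
  have m2 : q * v * q⁻¹ ∈ Q (p * x) := by
    have := h.Qc q _ _ (h.Adj_mem hv)
    rwa [hqx] at this
  have m3 : j * (g * v * g⁻¹) ∈ Q (p * x) := by
    have := mul_mem m2 m1
    have e : q * v * q⁻¹ * (v * (g * v * g⁻¹)) = j * (g * v * g⁻¹) := by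
      rw [← hi, h.UU_inv hvU]; group
    rwa [e] at this
  have m4 : g * v * g⁻¹ ∈ FF h hpx :=
    (mul_mem_cancel_left (K_FF h hpx hjU hjZ)).1 (Ky_FF h hpx (mul_mem hjU hrxU) m3)
  have m5 : (p * x) * (g * v * g⁻¹) ∈ ZC Q p := by
    by_contra h3
    exact not_FF h hrx hpx (opp_of h hall hpx hrx h3) m4
  apply hpv
  rcases h.noPar_at hpx hrx m5 with h3 | h3
  · have hv1 : v = p * x := by
      calc v = g⁻¹ * (g * v * g⁻¹) * g := by group
        _ = g⁻¹ * (g * (p * x) * g⁻¹) * g := by rw [h3, hgpx]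
        _ = p * x := by group
    rw [hv1, ← mul_assoc, hpp, one_mul]
    exact h.mem_ZC hxO
  · have hv1 : v = p := by
      rw [← mul_assoc, hpp, one_mul] at h3
      calc v = g⁻¹ * (g * v * g⁻¹) * g := by group
        _ = g⁻¹ * (g * p * g⁻¹) * g := by rw [h3, hgp']
        _ = p := by group
    rw [hv1, hpp]
    exact one_mem _

/-- (E3): three independent lines do not exist -/
theorem stepE (g1 : G1 M r t Q) (hO : JOpp M r t Q N) (hall : AllOpp M r t N) {p x b c : G}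
    (hx : Adj M r t p x) (hb : Adj M r t p b) (hc : Adj M r t p c) (hi : Ind Q p x b c) : False := by
  have hp := hx.left
  have hpU := Om_le_UU hp
  have hxO := h.Adj_right hx
  have hxU := h.Adj_UU hx
  have hxp := h.Adj_symm hx
  have hpz := h.mem_ZC hp
  -- the line ⟨x, v⟩
  obtain ⟨v, hv, hpv, -, -⟩ : ∃ v, Adj M r t x v ∧ p * v ∉ ZC Q x ∧ p * v ∉ ZC Q x ∧ p * p * v ∉ ZC Q x := by
    obtain ⟨m, hm, hm'⟩ := hp
    obtain ⟨m', hm1, hm2⟩ := hxO
    have e : (m' * m⁻¹) * p * (m' * m⁻¹)⁻¹ = x := by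
      rw [← hm', ← hm2]; group
    have hg : m' * m⁻¹ ∈ M := mul_mem hm1 (inv_mem hm)
    have a1 := hx.conj hg
    have a2 := hb.conj hg
    have a3 := hc.conj hg
    have hi' := Ind.conj h (g := m' * m⁻¹) hi
    rw [e] at a1 a2 a3 hi'
    exact exists_out h a1 a2 a3 hi' hxp hxp
  have hvU := h.Adj_UU hv
  by_cases htriv : ∀ y ∈ Q p, y * x = x * y → y * v * y⁻¹ * v⁻¹ ∈ ZC Q p
  · exact stepE2 h hall hx hv hpv htriv
  push Not at htriv
  obtain ⟨y0, hy0, hy0x, hy0v⟩ := htriv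
  have E1 := fun (y : G) (hy : y ∈ Q p) (hyx : y * x = x * y) => stepE1 h g1 hO hall hx hb hc hi hv hy hyx
  have hy0t := (E1 y0 hy0 hy0x).resolve_left hy0v
  obtain ⟨q, hq, hqx⟩ := h.Adj_q hx
  have hqM := h.Q_le_M hp hq
  have hqp : q * p = p * q := (h.ZC_comm (h.mem_ZC hp) hq).symm
  have hiU : q * v * q⁻¹ * v⁻¹ ∈ UU M r := UU_comm_mem hqM hvU
  set i := q * v * q⁻¹ * v⁻¹ with hidef
  -- every w in Q p moving x
  have hmov : ∀ w ∈ Q p, w * x * w⁻¹ = p * x → (w * v * w⁻¹ * v⁻¹) * i ∈ ZC Q p ∨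
      x * ((w * v * w⁻¹ * v⁻¹) * i) ∈ ZC Q p := by
    intro w hw hwx
    have hvx : q⁻¹ * w * x = x * (q⁻¹ * w) := by
      have e1 : q⁻¹ * (w * x * w⁻¹) * q = x := by
        rw [hwx, ← hqx]; group
      calc q⁻¹ * w * x = (q⁻¹ * (w * x * w⁻¹) * q) * (q⁻¹ * w) := by group
        _ = _ := by rw [e1]
    have hw' : q⁻¹ * w ∈ Q p := mul_mem (inv_mem hq) hw
    have h1 := E1 _ hw' hvx
    set l := q⁻¹ * w * v * (q⁻¹ * w)⁻¹ * v⁻¹ with hl
    have e2 : w * v * w⁻¹ * v⁻¹ = q * l * q⁻¹ * i := by rw [hl, hidef]; group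
    have e3 : (w * v * w⁻¹ * v⁻¹) * i = q * l * q⁻¹ := by
      rw [e2, mul_assoc, h.UU_sq hiU, mul_one]
    rw [e3]
    rcases h1 with h1 | h1
    · left; exact (h.ZC_fix hqp).2 h1
    · right
      have h2 := (h.ZC_fix hqp).2 h1
      have e4 : q * (x * l) * q⁻¹ = p * (x * (q * l * q⁻¹)) := by
        calc q * (x * l) * q⁻¹ = (q * x * q⁻¹) * (q * l * q⁻¹) := by group
          _ = _ := by rw [hqx]; group
      rw [e4] at h2
      exact (mul_mem_cancel_left hpz).1 h2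
  -- the claim
  have claim : ∀ w, Adj M r t p w → x * w ∉ ZC Q p → w * i ∈ ZC Q p ∨ x * (w * i) ∈ ZC Q p := by
    intro w hw hxw
    have hwU := h.Adj_UU hw
    have hwO := h.Adj_right hw
    have howx : Opp M r t N p w x := opp_of h hall hw hx (by rw [h.UU_comm hwU hxU]; exact hxw)
    obtain ⟨-, -, m, hm, hmx⟩ := howx
    obtain ⟨c', hcU, hcp, hcw, hmx'⟩ := h.mv_c hw hx hm hmx
    have hmM := h.N_le_M hwO hm
    have hmp := h.N_comm hw hm
    -- k = [m, v]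
    have hkU : m * v * m⁻¹ * v⁻¹ ∈ UU M r := UU_comm_mem hmM hvU
    have hkw : m * v * m⁻¹ * v⁻¹ ∈ ZC Q w := by
      have hcvw : v * w = w * v := h.UU_comm hvU hwU
      have e : m * v * m⁻¹ * v⁻¹ = m * (v * m⁻¹ * v⁻¹) := by group
      rw [e]
      exact mul_mem (h.N_le_ZC hwO hm) ((h.ZC_fix hcvw).2 (inv_mem (h.N_le_ZC hwO hm)))
    have hkQ : m * v * m⁻¹ * v⁻¹ ∈ Q p := stepD h g1 hO hall hx hb hc hi hw hkU hkw
    set k := m * v * m⁻¹ * v⁻¹ with hk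
    have hmv : m * v * m⁻¹ = k * v := by rw [hk]; group
    have hy' : m * y0 * m⁻¹ ∈ Q p := (h.Q_fix hmp).2 hy0
    have hy'M := h.Q_le_M hp hy'
    set y' := m * y0 * m⁻¹ with hy'def
    have h1 := (h.ZC_fix hmp).2 hy0t
    have e1 : m * (x * (y0 * v * y0⁻¹ * v⁻¹)) * m⁻¹ = (m * x * m⁻¹) * (y' * (m * v * m⁻¹) * y'⁻¹ * (m * v * m⁻¹)⁻¹) := by
      rw [hy'def]; group
    rw [e1, hmx', hmv, cmul h hy'M hkU hvU] at h1
    have hyk : y' * k * y'⁻¹ * k⁻¹ ∈ ZC Q p := by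
      rcases h.comm_Q hp hy' hkQ with h2 | h2
      · rw [h2]; exact one_mem _
      · rw [h2]; exact hpz
    have hykU : y' * k * y'⁻¹ * k⁻¹ ∈ UU M r := UU_comm_mem hy'M hkU
    have hyvU : y' * v * y'⁻¹ * v⁻¹ ∈ UU M r := UU_comm_mem hy'M hvU
    set l := y' * v * y'⁻¹ * v⁻¹ with hl
    -- w x l ∈ ZC
    have h2 : w * x * l ∈ ZC Q p := by
      have e2 : w * x * c' * (y' * k * y'⁻¹ * k⁻¹ * l) = (c' * (y' * k * y'⁻¹ * k⁻¹)) * (w * x * l) := by
        have c1 := h.UU_comm (mul_mem hwU hxU) (mul_mem hcU hykU)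
        calc w * x * c' * (y' * k * y'⁻¹ * k⁻¹ * l) = ((w * x) * (c' * (y' * k * y'⁻¹ * k⁻¹))) * l := by group
          _ = ((c' * (y' * k * y'⁻¹ * k⁻¹)) * (w * x)) * l := by rw [c1]
          _ = _ := by group
      rw [e2] at h1
      exact (mul_mem_cancel_left (mul_mem hcp hyk)).1 h1
    have hwx : w * x ∉ ZC Q p := by rw [h.UU_comm hwU hxU]; exact hxw
    rcases Qs_act h hx hy' with h3 | h3
    · exfalso
      rcases E1 y' hy' h3 with h4 | h4
      · exact hwx ((mul_mem_cancel_right h4).1 h2)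
      · have e3 : w * x * l = w * (x * l) := by group
        rw [e3] at h2
        exact h.Adj_not_mem hw ((mul_mem_cancel_right h4).1 h2)
    · have hcxl : x * l = l * x := h.UU_comm hxU hyvU
      rcases hmov y' hy' h3 with h4 | h4
      · -- l i ∈ ZC, w x l ∈ ZC → x w i ∈ ZC
        right
        have e3 : x * (w * i) = (w * x * l) * (l * i) := by
          calc x * (w * i) = (x * w) * (l * l) * i := by rw [h.UU_sq hyvU, mul_one]; group
            _ = (w * x) * (l * l) * i := by rw [h.UU_comm hxU hwU]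
            _ = _ := by group
        rw [e3]
        exact mul_mem h2 h4
      · left
        have e3 : w * i = (w * x * l) * (x * (l * i)) := by
          calc w * i = w * (l * l) * i := by rw [h.UU_sq hyvU, mul_one]
            _ = w * (x * x) * (l * l) * i := by rw [h.UU_sq hxU, mul_one]
            _ = w * x * (x * l) * l * i := by group
            _ = w * x * (l * x) * l * i := by rw [hcxl]
            _ = _ := by group
        rw [e3]
        exact mul_mem h2 h4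
  obtain ⟨i1, i2, i3, i4⟩ := hi
  have hbU := h.Adj_UU hb
  have hcU := h.Adj_UU hc
  have hii := h.UU_sq hiU
  have cb := claim b hb i1
  have cc := claim c hc i2
  have e0 : b * c = (b * i) * (c * i) := by
    calc b * c = b * (i * i) * c := by rw [hii, mul_one]
      _ = (b * i) * (i * c) := by group
      _ = _ := by rw [h.UU_comm hiU hcU]
  rcases cb with cb | cb <;> rcases cc with cc | cc
  · apply i3
    rw [e0]; exact mul_mem cb cc
  · apply i4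
    have e1 : x * b * c = (b * i) * (x * (c * i)) := by
      have c1 := h.UU_comm hxU (mul_mem hbU hiU)
      calc x * b * c = x * (b * c) := by group
        _ = (x * (b * i)) * (c * i) := by rw [e0]; group
        _ = (b * i) * x * (c * i) := by rw [c1]
        _ = _ := by group
    rw [e1]; exact mul_mem cb cc
  · apply i4
    have e1 : x * b * c = (x * (b * i)) * (c * i) := by
      calc x * b * c = x * (b * c) := by group
        _ = _ := by rw [e0]; group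
    rw [e1]; exact mul_mem cb cc
  · apply i3
    have e1 : b * c = (x * (b * i)) * (x * (c * i)) := by
      have c1 := h.UU_comm hxU (mul_mem hbU hiU)
      calc b * c = (b * i) * (c * i) := e0
        _ = (b * i) * (x * x) * (c * i) := by rw [h.UU_sq hxU, mul_one]
        _ = ((b * i) * x) * (x * (c * i)) := by group
        _ = _ := by rw [← c1]
    rw [e1]; exact mul_mem cb cc

/-- **(D) of #17185 = (11) of #15959 with variable `c`.** -/
theorem eleven_of (g1 : G1 M r t Q) (hO : JOpp M r t Q N) : JEleven M r t Q N := by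
  intro hall s a b c hab hc
  by_contra hcon
  push Not at hcon
  obtain ⟨n1, n2, n3, n4, n5⟩ := hcon
  obtain ⟨-, -, -, b1, b2, -⟩ := hO s a b hab
  have ha := hab.1
  have hb := hab.2.1
  refine stepE h g1 hO hall ha hb hc ⟨?_, ?_, ?_, n5⟩
  · intro e
    rcases h.noPar_at ha hb e with h1 | h1
    · exact b1 h1
    · exact b2 h1
  · intro e
    rcases h.noPar_at ha hc e with h1 | h1
    · exact n1 h1
    · exact n2 h1
  · intro e
    rcases h.noPar_at hb hc e with h1 | h1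
    · exact n3 h1
    · exact n4 h1

end base

/-- **(D) of #17185.** -/
theorem eleven [Finite G] (h : TvH M r t Q N) (g1 : G1 M r t Q) : JEleven M r t Q N :=
  eleven_of h g1 h.jOpp

end Cfsg.Agent.Omega.HOne.TvE2

end

-- merged: Cfsg.Agent.Mrg.Omega.HTwo.TSMain
section

section


/-!
# II.0h1, `q = 2`: the transvection statement in the position `Pos` (`HOne.Cut.TS0`)

* `g1` : `C_S(Q₁/Z₁) = Q₁`, the input (G1) of `TvE2.eleven` (THEOREM D (iii));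
* `jend` : `Tv.main` for `M = ME V R o E`;
* `hA`, `c_eq` : the BS-trick: the constant `c` is the only involution of `E`;
* `jend_z` : case (alpha)₀; `jend_Z` : case not (alpha)₀;
* `ts0 : TS0`, `stTS : StTS K`.
-/

set_option autoImplicit false
set_option linter.unusedSectionVars false

namespace Cfsg.Agent.Omega.HTwo.TSMain

open Subgroup Cfsg Cfsg.Agent.ZN Cfsg.Agent.Omega.BTwo Cfsg.Agent.Omega.HOneTwo
open Cfsg.Agent.Omega.HTwo.Hat Cfsg.Agent.Omega.HTwo.ThmA Cfsg.Agent.Omega.MinPar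
open Cfsg.Agent.Omega.HOne.TvDef Cfsg.Agent.Omega.HTwo.EntryTv
open Cfsg.Agent.Omega.HTwo.AlphaP (MP)
open Cfsg.Agent.Omega.HTwo.Entry (Pos)
open Cfsg.Agent.Omega.HOne.Cut (TSz TS0)
open Cfsg.Agent.Omega.HOneTwo.Trans (gn gen gn_eq_UU)

universe u v

section main

variable {G : Type u} [Group G] [Finite G] {ι : Type*} {S : Sylow 2 G} {P V : Subgroup G}
  {R : ι → Subgroup G} {o : ι} (b : HT S P V R o) {r : G} (hr : ∀ x, x ∈ R o ↔ x = 1 ∨ x = r) (hr1 : r ≠ 1)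
  {E : Subgroup G} (hE : E ≤ zc (S : Subgroup G) ⊓ centralizer (P : Set G)) (hE1 : E ≠ ⊥)
  {j : ι} (hj : j ≠ o) {t : G} (ht : ∀ x, x ∈ R j ↔ x = 1 ∨ x = t) (ht1 : t ≠ 1)

include b

/-- `C(Q i) ≤ Q i` -/
theorem cen_Q_le (i : ι) : centralizer (QQ (R i) : Set G) ≤ QQ (R i) := by
  intro x hx
  refine b.cenQ i (mem_inf.2 ⟨?_, hx⟩)
  exact centralizer_le_normalizer _ (centralizer_le ((b.R_le i).trans (b.V_Q i)) hx)

include hr hj ht

/-- **(G1)** -/
theorem g1 : HOne.TvE2.G1 (ME V R o E) r t QF := by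
  intro n _ hnt hq
  have hnt' : n ∈ centralizer (QQ (R j) : Set G) := by
    have h1 : n ∈ centralizer (QF t : Set G) := hnt
    rwa [QF_eq b ht] at h1
  have hn : n ∈ ZQ R j := ⟨cen_Q_le b j hnt', hnt'⟩
  have hc : ∀ x ∈ QQ (R o), n * x * n⁻¹ * x⁻¹ ∈ ZQ R o := by
    intro x hx
    have h1 : x * n * x⁻¹ * n⁻¹ ∈ centralizer (QF r : Set G) := hq x (by rw [QF_eq b hr]; exact hx)
    rw [QF_eq b hr] at h1
    have h2 : n * x * n⁻¹ * x⁻¹ ∈ centralizer (QQ (R o) : Set G) := by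
      have := inv_mem h1
      have e : (x * n * x⁻¹ * n⁻¹)⁻¹ = n * x * n⁻¹ * x⁻¹ := by group
      rwa [e] at this
    exact ⟨cen_Q_le b o h2, h2⟩
  obtain ⟨a, ha, h3⟩ := ThmD.D1 b.toBTS (Alpha.HT.le_all b) (fun x hx => (hr x).1 hx) S b.S_V b.S_R hj hn hc
  have h4 : a * n ∈ QQ (R o) := ZQ_le o (cenX_le_ZQ b.toBTS (Alpha.HT.le_all b) o h3)
  rw [QF_eq b hr]
  have h5 := mul_mem (inv_mem (b.V_Q o (b.R_le j ha))) h4
  rwa [inv_mul_cancel_left] at h5

include hr1 hE hE1 ht1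

/-- `Tv.main` for `M = ME V R o E` -/
theorem jend (hbeta : ∃ u ∈ UU (ME V R o E) r, u ∉ QF r)
    (hpar : ∀ x y, Adj (ME V R o E) r t r x → Adj (ME V R o E) r t r y → x * y ∈ ZC QF r → y = x ∨ y = r * x) :
    ∃ c, JConst (ME V R o E) r t QF (NF r E) c ∧ JEnd (ME V R o E) r QF (NF r E) c := by
  have h := tvH b hr hr1 hE hE1 hj ht ht1 hbeta hpar
  exact HOne.Tv.main h (tvS b hr hr1 hE hE1 hj ht ht1) (HOne.TvE2.eleven h (g1 b hr hj ht))

omit ht1 hj ht in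
/-- the 2-local subgroups over `M` -/
theorem hA (f : G) (hf1 : f ≠ 1) (hff : f * f = 1) (hfM : ∀ m ∈ ME V R o E, m * f = f * m) :
    ∃ A : Subgroup G, IsPGroup 2 A ∧ UU (ME V R o E) r ≤ A ∧ centralizer ({f} : Set G) ≤ normalizer (A : Set G) := by
  have hff' : f ^ 2 = 1 := by rw [pow_two, hff]
  have hfS : ∀ s ∈ (S : Subgroup G), s * f = f * s := fun s hs => hfM s (S_le_ME b hE hs)
  have hfmem : f ∈ (S : Subgroup G) := by
    have h1 : zpowers f ≤ (S : Subgroup G) := by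
      refine le_of_le_normalizer S (MinSimple.Basic.isPGroup_zpowers hff') ?_
      rw [MinSimple.Basic.normalizer_zpowers_eq hff']
      intro s hs
      rw [mem_centralizer_singleton_iff]
      exact hfS s hs
    exact h1 (mem_zpowers f)
  have hfz : f ∈ zc (S : Subgroup G) ⊓ centralizer (P : Set G) := by
    rw [b.cz_eq]
    refine mem_inf.2 ⟨mem_zc.2 ⟨hfmem, hfS, hff'⟩, ?_⟩
    rw [mem_centralizer_iff]
    exact fun x hx => hfM x (X_le_ME b hx)
  have d := b.dt hfz hf1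
  refine ⟨UM V (centralizer ({f} : Set G)), ?_, ?_, le_normalizer_cl V _⟩
  · rintro ⟨x, hx⟩
    refine ⟨1, Subtype.ext ?_⟩
    show x ^ 2 ^ 1 = 1
    rw [pow_one, pow_two]
    exact d.U_sq hx
  · rw [UU_eq b hr hr1 hE (X_le_ME b)]
    refine cl_le (le_cl _ _) ?_
    refine le_trans ?_ (le_normalizer_cl V _)
    intro m hm
    rw [mem_centralizer_singleton_iff]
    exact hfM m hm

/-- **the BS-trick** : `c` is the only involution of `E` -/
theorem c_eq (hbeta : ∃ u ∈ UU (ME V R o E) r, u ∉ QF r)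
    (hpar : ∀ x y, Adj (ME V R o E) r t r x → Adj (ME V R o E) r t r y → x * y ∈ ZC QF r → y = x ∨ y = r * x) {c : G}
    (hC : JConst (ME V R o E) r t QF (NF r E) c) (hJ : JEnd (ME V R o E) r QF (NF r E) c) {z : G} (hz : z ∈ E)
    (hz1 : z ≠ 1) : c = z := by
  have h := tvH b hr hr1 hE hE1 hj ht ht1 hbeta hpar
  refine HOne.JunE.c_eq_z h rfl (NF_base hz) ?_ hz1 ?_ (hA b hr hr1 hE hE1) hC hJ
  · rw [← pow_two]; exact (mem_zc.1 (hE hz).1).2.2
  · exact fun m hm => (mem_centralizer_iff.1 (ME_le_cen b hE hm) z hz).symm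

omit hE hE1

/-- case (alpha)₀ -/
theorem jend_z {z₀ : G} (hz₀ : z₀ ∈ zc (S : Subgroup G) ⊓ centralizer (P : Set G)) (hz₀1 : z₀ ≠ 1)
    (hα : UM V (HOne.JunAB.MZ S V R) ≤ QQ (R o)) :
    ∃ z ∈ zc (S : Subgroup G) ⊓ centralizer (P : Set G), z ≠ 1 ∧
      JEnd (ME V R o (zpowers z)) r QF (NF r (zpowers z)) z := by
  obtain ⟨z, hz, hz1, H⟩ := HOne.JunAB.exists_z b hz₀ hz₀1 hα
  have hEz := zpowers_le_cz hz
  have hE1 : zpowers z ≠ ⊥ := fun h => hz1 (zpowers_eq_bot.1 h)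
  have hMz : ME V R o (zpowers z) ≤ centralizer ({z} : Set G) := by
    intro m hm
    rw [mem_centralizer_singleton_iff]
    exact M_z b hz hm
  have hbeta := beta_z b hr hr1 hz hz1
  have hpar := HOne.JunAB.noPar b hr (M := ME V R o (zpowers z)) hMz H hj ((ht t).2 (Or.inr rfl)) ht1
    (Q := QF) (QF_eq b hr)
  obtain ⟨c, hC, hJ⟩ := jend b hr hr1 hEz hE1 hj ht ht1 hbeta hpar
  have hc := c_eq b hr hr1 hEz hE1 hj ht ht1 hbeta hpar hC hJ (mem_zpowers z) hz1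
  rw [hc] at hJ
  exact ⟨z, hz, hz1, hJ⟩

/-- case not (alpha)₀ -/
theorem jend_Z {z : G} (hz : z ∈ zc (S : Subgroup G) ⊓ centralizer (P : Set G)) (hz1 : z ≠ 1)
    (hα : ¬ UM V (HOne.JunAB.MZ S V R) ≤ QQ (R o)) :
    JEnd (ME V R o (zpowers z)) r QF (NF r (zpowers z)) z := by
  set E := zc (S : Subgroup G) ⊓ centralizer (P : Set G) with hEdef
  have hE1 : E ≠ ⊥ := fun h => hz1 (by rw [h] at hz; exact mem_bot.1 hz)
  have hMZ : ME V R o E = HOne.JunAB.MZ S V R := ME_MZ b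
  have hbeta : ∃ u ∈ UU (ME V R o E) r, u ∉ QF r := beta_of b hr hr1 le_rfl (by rw [hMZ]; exact hα)
  have hpar := HOne.JunAB.noPar' b hr (M := ME V R o E)
    (by rw [hMZ]; exact HOne.JunAB.norm_of_par_MZ b hr hz hz1) hj ((ht t).2 (Or.inr rfl)) ht1
    (Q := QF) (QF_eq b hr)
  obtain ⟨c, hC, hJ⟩ := jend b hr hr1 le_rfl hE1 hj ht ht1 hbeta hpar
  have hc : ∀ y ∈ E, y ≠ 1 → c = y := fun y hy hy1 =>
    c_eq b hr hr1 le_rfl hE1 hj ht ht1 hbeta hpar hC hJ hy hy1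
  have hEz : E = zpowers z := by
    apply le_antisymm
    · intro y hy
      by_cases hy1 : y = 1
      · rw [hy1]; exact one_mem _
      · rw [← hc y hy hy1, hc z hz hz1]; exact mem_zpowers z
    · rwa [zpowers_le]
  rw [hc z hz hz1, ← hEdef, hEz] at hJ
  exact hJ

omit hr1 hj ht ht1 in
/-- `TSz` from `JEnd` with the constant `z` -/
theorem tsz {z : G} (hz : z ∈ zc (S : Subgroup G) ⊓ centralizer (P : Set G)) (hz1 : z ≠ 1) (hrr : r * r = 1)
    (hr1 : r ≠ 1) (hJ : JEnd (ME V R o (zpowers z)) r QF (NF r (zpowers z)) z) : TSz V R o r z := by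
  obtain ⟨h1, h2, -⟩ := hJ
  have hzz : z * z = 1 := by rw [← pow_two]; exact (mem_zc.1 hz.1).2.2
  have hzr : z * r = r * z := by
    have h3 : r ∈ (S : Subgroup G) := b.V_le_S (b.R_le o ((hr r).2 (Or.inr rfl)))
    exact ((mem_zc.1 hz.1).2.1 r h3).symm
  rw [NF_gen] at h1
  rw [QF_eq b hr] at h2
  have hU : gn (MP V R o z) r = UU (ME V R o (zpowers z)) r := by rw [gn_eq_UU, ME_z]
  refine ⟨?_, ?_, ?_⟩
  · intro u hu u' hu' h3 h4
    rw [hU] at hu hu'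
    exact h2 u hu u' hu' h3 h4
  · intro u hu n hn
    rw [hU] at hu
    rcases h1 u hu n hn with h3 | h3
    · left
      calc n * u = (u * n * u⁻¹ * n⁻¹)⁻¹ * (u * n) := by group
        _ = u * n := by rw [h3]; group
    · right
      calc n * u = (u * n * u⁻¹ * n⁻¹)⁻¹ * (u * n) := by group
        _ = (r * z)⁻¹ * (u * n) := by rw [h3]
        _ = z * r * (u * n) := by
            rw [mul_inv_rev, inv_eq_of_mul_eq_one_left hzz, inv_eq_of_mul_eq_one_left hrr]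
  · obtain ⟨u, hu, huQ⟩ := beta_z b hr hr1 hz hz1
    obtain ⟨n, hn, hne⟩ : ∃ n ∈ NF r (zpowers z) r, u * n ≠ n * u := by
      by_contra hcon
      push Not at hcon
      apply huQ
      rw [QF_eq b hr]
      exact UN b hr hr1 (zpowers_le_cz hz) (fun h => hz1 (zpowers_eq_bot.1 h)) hu hcon
    refine ⟨u, ?_, n, ?_, fun h3 => hne h3.symm⟩
    · rw [hU]; exact hu
    · rw [← NF_gen]; exact hn

end main

/-- **THE TRANSVECTION STATEMENT in the position `Pos`** -/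
theorem ts0 : TS0.{u, v} := by
  intro G _ _ S P V ι R o r z p
  have b := p.toHT
  obtain ⟨j, -, hj, -, -⟩ := b.one_lt
  obtain ⟨t, ht1, -, ht⟩ := b.exists_gen j
  have key : ∃ z' ∈ zc (S : Subgroup G) ⊓ centralizer (P : Set G), z' ≠ 1 ∧
      JEnd (ME V R o (zpowers z')) r QF (NF r (zpowers z')) z' := by
    by_cases hα : UM V (HOne.JunAB.MZ S V R) ≤ QQ (R o)
    · exact jend_z b p.r_iff p.r_ne hj ht ht1 p.z_mem p.z_ne hα
    · exact ⟨z, p.z_mem, p.z_ne, jend_Z b p.r_iff p.r_ne hj ht ht1 p.z_mem p.z_ne hα⟩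
  obtain ⟨z', hz', hz1', hJ⟩ := key
  exact ⟨z', { p with z_mem := hz', z_ne := hz1' }, tsz b p.r_iff hz' hz1' p.r_sq p.r_ne hJ⟩

/-- the statement `StTS` of the cut -/
theorem stTS (K : Frame.Cls.{u}) : HOne.Cut.StTS K :=
  fun G _ _ _ _ S _ _ _ _ P V ι R o r z p _ _ => ts0 G S P V ι R o r z p

end Cfsg.Agent.Omega.HTwo.TSMain

end

section


/-!
# II.0h1, `q = 2`: HATS (#13303 (2)), part 2: `d_n`, `c_n`, Siegel elements

`ζ i = Z(Q i)`, `J = Q i ∩ Q j = CC R`, `E i = C_{Q i}(V)`, `C_X = C(X)`.  A triple `Tri R i j k n₁ n₂ n₃`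
is `n₁ ∈ ζ i`, `n₂ ∈ ζ j`, `n₃ ∈ ζ k` with `d := n₁ n₂ n₃ ∈ J` (the `X`-conjugates of `n₁`, well defined
modulo `R × C_X`).  Results: `exists_tri`, uniqueness, symmetry (`rot`, `swap`, `conj`), the members
commute, `d ↦` functional (`pair`), `n₂` acts on `Q i / ζ i` as the Siegel element with line
`⟨V, d⟩` (`siegel`, `siegel_E`, `siegel_quad`), `d` is multiplicative (`mul`, `d_mul`).
-/

set_option autoImplicit false

namespace Cfsg.Agent.Omega.HTwo.HatD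

open Subgroup Cfsg.Agent.Omega.BTwo Cfsg.Agent.Omega.HTwo.Par Cfsg.Agent.Omega.HTwo.ThmA
open Cfsg.Agent.Omega.HTwo.Hat

variable {G : Type*} [Group G] {ι : Type*} {V : Subgroup G} {R : ι → Subgroup G}

/-- `n₁ ∈ ζ i`, `n₂ ∈ ζ j`, `n₃ ∈ ζ k` correspond to each other under `X`: `d = n₁ n₂ n₃ ∈ J` -/
structure Tri (R : ι → Subgroup G) (i j k : ι) (n₁ n₂ n₃ : G) : Prop where
  one : n₁ ∈ ZQ R i
  two : n₂ ∈ ZQ R j
  three : n₃ ∈ ZQ R k
  mem : n₁ * n₂ * n₃ ∈ CC R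

section

variable (b : BTS V R)
include b

theorem ZQ_cenV {i : ι} {n : G} (hn : n ∈ ZQ R i) : n ∈ centralizer (V : Set G) := (ZQ_le_EE b.toBT i hn).2

theorem ZQ_N {i : ι} (j : ι) {n : G} (hn : n ∈ ZQ R i) : n ∈ normalizer (R j : Set G) :=
  b.cen_le_N j (ZQ_cenV b hn)

/-- `n ∈ ζ i` commutes with `V` -/
theorem ZQ_V {i : ι} {n v : G} (hn : n ∈ ZQ R i) (hv : v ∈ V) : n * v = v * n :=
  (mem_centralizer_iff.1 (ZQ_cenV b hn) v hv).symm

/-- `n ∈ ζ i` commutes with `C_X` -/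
theorem ZQ_C [Finite G] (h : ∀ i, LE V R i) {i : ι} {n c : G} (hn : n ∈ ZQ R i) (hc : c ∈ CenX V R) :
    n * c = c * n := (cenX_Q b (h i) hc hn.1).symm

/-- `[ζ i, ζ j] ≤ C_X` -/
theorem ZQ_ZQ [Finite G] {i j : ι} {n m : G} (hn : n ∈ ZQ R i) (hm : m ∈ ZQ R j) :
    n * m * n⁻¹ * m⁻¹ ∈ CenX V R := by
  by_cases hij : i = j
  · subst hij
    have e : n * m = m * n := mem_centralizer_iff.1 hm.2 n hn.1
    rw [e]
    have : m * n * n⁻¹ * m⁻¹ = 1 := by group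
    rw [this]
    exact one_mem _
  · exact Comm.cen_cen b.toBT hij (ZQ_le_cenW b.toBT i hn) (ZQ_le_cenW b.toBT j hm)

theorem CenX_le_CC [Finite G] : CenX V R ≤ CC R := b.CenX_le_C

/-- `[q, n] ∈ Q j` for `q ∈ Q j`, `n ∈ ζ i` -/
theorem conj_rel {i j : ι} {q n : G} (hq : q ∈ QQ (R j)) (hn : n ∈ ZQ R i) :
    q * n * q⁻¹ * n⁻¹ ∈ QQ (R j) := by
  have e : q * n * q⁻¹ * n⁻¹ = q * (n * q⁻¹ * n⁻¹) := by group
  rw [e]
  exact mul_mem hq (conj_mem_of_normalizer (le_normalizer_O2 _ (ZQ_N b j hn)) (inv_mem hq))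

theorem conj_ZQ {i k : ι} {q n : G} (hn : n ∈ ZQ R i) (hk : cj q (R i) = R k) :
    q * n * q⁻¹ ∈ ZQ R k := by
  rw [← cj_ZQ b.toBT hk]
  exact conj_mem_cj hn

/-- squares of elements of `ζ i` lie in every `Q j` -/
theorem sq_Q [Finite G] (h : ∀ i, LE V R i) {i : ι} (j : ι) {n : G} (hn : n ∈ ZQ R i) : n * n ∈ QQ (R j) :=
  b.V_Q j (b.R_le i (Q_sq b (h i) hn.1))

/-- from `n₃ n₁⁻¹ ∈ Q j`, `n₂ n₁⁻¹ ∈ Q k` -/
theorem tri_of_rel [Finite G] (h : ∀ i, LE V R i) {i j k : ι} (hjk : j ≠ k) {n₁ n₂ n₃ : G}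
    (h1 : n₁ ∈ ZQ R i) (h2 : n₂ ∈ ZQ R j) (h3 : n₃ ∈ ZQ R k) (h13 : n₃ * n₁⁻¹ ∈ QQ (R j))
    (h12 : n₂ * n₁⁻¹ ∈ QQ (R k)) : Tri R i j k n₁ n₂ n₃ := by
  refine ⟨h1, h2, h3, ?_⟩
  rw [b.C_eq hjk]
  refine mem_inf.2 ⟨?_, ?_⟩
  · have hN := le_normalizer_O2 _ (ZQ_N b j h1)
    have e : n₁ * n₂ * n₃ = (n₁ * n₂ * n₁⁻¹) * (n₁ * (n₃ * n₁⁻¹) * n₁⁻¹) * (n₁ * n₁) := by group
    rw [e]
    exact mul_mem (mul_mem (conj_mem_of_normalizer hN h2.1) (conj_mem_of_normalizer hN h13)) (sq_Q b h j h1)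
  · have hN := le_normalizer_O2 _ (ZQ_N b k h1)
    have e : n₁ * n₂ * n₃ = (n₁ * (n₂ * n₁⁻¹) * n₁⁻¹) * (n₁ * n₁) * n₃ := by group
    rw [e]
    exact mul_mem (mul_mem (conj_mem_of_normalizer hN h12) (sq_Q b h k h1)) h3.1

theorem tri_of [Finite G] (h : ∀ i, LE V R i) {i j k : ι} (hjk : j ≠ k) {n p q : G}
    (hn : n ∈ ZQ R i) (hp : p ∈ QQ (R k)) (hq : q ∈ QQ (R j)) (hpi : cj p (R i) = R j)
    (hqi : cj q (R i) = R k) : Tri R i j k n (p * n * p⁻¹) (q * n * q⁻¹) :=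
  tri_of_rel b h hjk hn (conj_ZQ b hn hpi) (conj_ZQ b hn hqi) (conj_rel b hq hn) (conj_rel b hp hn)

theorem exists_tri [Finite G] (h : ∀ i, LE V R i) {i j k : ι} (hij : i ≠ j) (hik : i ≠ k) (hjk : j ≠ k)
    {n : G} (hn : n ∈ ZQ R i) : ∃ n₂ n₃, Tri R i j k n n₂ n₃ := by
  obtain ⟨p, hp, e1⟩ := b.trans k hik hjk
  obtain ⟨q, hq, e2⟩ := b.trans j hij (Ne.symm hjk)
  exact ⟨_, _, tri_of b h hjk hn (b.W_le_Q k hp) (b.W_le_Q j hq) e1 e2⟩

end

namespace Tri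

variable {i j k : ι} {n₁ n₂ n₃ : G}

section

variable (b : BTS V R)
include b

theorem rot (t : Tri R i j k n₁ n₂ n₃) : Tri R j k i n₂ n₃ n₁ := by
  refine ⟨t.two, t.three, t.one, ?_⟩
  have e : n₂ * n₃ * n₁ = n₁⁻¹ * (n₁ * n₂ * n₃) * n₁ := by group
  rw [e]
  exact conj_inv_mem_of_normalizer (NV_le_NC b.toBT (cen_le_NV V (ZQ_cenV b t.one))) t.mem

theorem swap [Finite G] (t : Tri R i j k n₁ n₂ n₃) : Tri R j i k n₂ n₁ n₃ := by
  refine ⟨t.two, t.one, t.three, ?_⟩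
  have e : n₂ * n₁ * n₃ = (n₂ * n₁ * n₂⁻¹ * n₁⁻¹) * (n₁ * n₂ * n₃) := by group
  rw [e]
  exact mul_mem (b.CenX_le_C (ZQ_ZQ b t.two t.one)) t.mem

/-- `N(V)` acts on the triples -/
theorem conj (t : Tri R i j k n₁ n₂ n₃) {x : G} (hx : x ∈ normalizer (V : Set G)) {i' j' k' : ι}
    (hi : cj x (R i) = R i') (hj : cj x (R j) = R j') (hk : cj x (R k) = R k') :
    Tri R i' j' k' (x * n₁ * x⁻¹) (x * n₂ * x⁻¹) (x * n₃ * x⁻¹) := by
  refine ⟨conj_ZQ b t.one hi, conj_ZQ b t.two hj, conj_ZQ b t.three hk, ?_⟩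
  have e : x * n₁ * x⁻¹ * (x * n₂ * x⁻¹) * (x * n₃ * x⁻¹) = x * (n₁ * n₂ * n₃) * x⁻¹ := by group
  rw [e]
  exact conj_mem_of_normalizer (NV_le_NC b.toBT hx) t.mem

/-- `n₃ n₁⁻¹ ∈ Q j` -/
theorem rel₁₃ [Finite G] (h : ∀ i, LE V R i) (t : Tri R i j k n₁ n₂ n₃) : n₃ * n₁⁻¹ ∈ QQ (R j) := by
  have h1 := mem_iInf.1 (Tri.rot b t).mem j
  have e : n₃ * n₁⁻¹ = n₂⁻¹ * (n₂ * n₃ * n₁) * (n₁ * n₁)⁻¹ := by group
  rw [e]
  exact mul_mem (mul_mem (inv_mem t.two.1) h1) (inv_mem (sq_Q b h j t.one))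

/-- `n₂ n₁⁻¹ ∈ Q k` -/
theorem rel₁₂ [Finite G] (h : ∀ i, LE V R i) (t : Tri R i j k n₁ n₂ n₃) : n₂ * n₁⁻¹ ∈ QQ (R k) := by
  have h1 := mem_iInf.1 (Tri.rot b (Tri.swap b t)).mem k
  -- `n₁ n₃ n₂ ∈ J`
  have h2 : n₂ * n₁ * n₃ ∈ QQ (R k) := mem_iInf.1 (Tri.swap b t).mem k
  have e : n₂ * n₁⁻¹ = (n₂ * n₁ * n₃) * n₃⁻¹ * (n₁ * n₁)⁻¹ := by group
  rw [e]
  exact mul_mem (mul_mem h2 (inv_mem t.three.1)) (inv_mem (sq_Q b h k t.one))

/-- uniqueness: `n₁` determines `n₂` modulo `R j × C_X` -/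
theorem uniq₂ [Finite G] (h : ∀ i, LE V R i) (hjk : j ≠ k) {m₁ m₂ m₃ : G} (t : Tri R i j k n₁ n₂ n₃)
    (t' : Tri R i j k m₁ m₂ m₃) (hq : m₁⁻¹ * n₁ ∈ QQ (R k)) : ∃ a ∈ R j, a * (m₂⁻¹ * n₂) ∈ CenX V R := by
  refine ZQ_Q b hjk (mul_mem (inv_mem t'.two) t.two) ?_
  have h1 := mul_mem (inv_mem (t'.rel₁₂ b h)) (t.rel₁₂ b h)
  have hN := le_normalizer_O2 _ (ZQ_N b k t'.one)
  have e : m₂⁻¹ * n₂ = m₁⁻¹ * ((m₂ * m₁⁻¹)⁻¹ * (n₂ * n₁⁻¹)) * m₁ * (m₁⁻¹ * n₁) := by group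
  rw [e]
  exact mul_mem (conj_inv_mem_of_normalizer hN h1) hq

/-- uniqueness: `n₁` determines `n₃` modulo `R k × C_X` -/
theorem uniq₃ [Finite G] (h : ∀ i, LE V R i) (hjk : j ≠ k) {m₁ m₂ m₃ : G} (t : Tri R i j k n₁ n₂ n₃)
    (t' : Tri R i j k m₁ m₂ m₃) (hq : m₁⁻¹ * n₁ ∈ QQ (R j)) : ∃ a ∈ R k, a * (m₃⁻¹ * n₃) ∈ CenX V R := by
  refine ZQ_Q b (Ne.symm hjk) (mul_mem (inv_mem t'.three) t.three) ?_
  have h1 := mul_mem (inv_mem (t'.rel₁₃ b h)) (t.rel₁₃ b h)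
  have hN := le_normalizer_O2 _ (ZQ_N b j t'.one)
  have e : m₃⁻¹ * n₃ = m₁⁻¹ * ((m₃ * m₁⁻¹)⁻¹ * (n₃ * n₁⁻¹)) * m₁ * (m₁⁻¹ * n₁) := by group
  rw [e]
  exact mul_mem (conj_inv_mem_of_normalizer hN h1) hq

/-- `q ∈ Q j` moving `R i` to `R k` moves `n₁` to `n₃`, modulo `R k × C_X` -/
theorem move [Finite G] (h : ∀ i, LE V R i) (hjk : j ≠ k) (t : Tri R i j k n₁ n₂ n₃) {q : G}
    (hq : q ∈ QQ (R j)) (hk : cj q (R i) = R k) : ∃ a ∈ R k, a * ((q * n₁ * q⁻¹)⁻¹ * n₃) ∈ CenX V R := by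
  refine ZQ_Q b (Ne.symm hjk) (mul_mem (inv_mem (conj_ZQ b t.one hk)) t.three) ?_
  have h1 := mul_mem (inv_mem (conj_rel b hq t.one)) (t.rel₁₃ b h)
  have hN := le_normalizer_O2 _ (ZQ_N b j t.one)
  have e : (q * n₁ * q⁻¹)⁻¹ * n₃ = n₁⁻¹ * ((q * n₁ * q⁻¹ * n₁⁻¹)⁻¹ * (n₃ * n₁⁻¹)) * n₁ := by group
  rw [e]
  exact conj_inv_mem_of_normalizer hN h1

/-- `n₃ = n₁^q a c` -/
theorem move' [Finite G] (h : ∀ i, LE V R i) (hjk : j ≠ k) (t : Tri R i j k n₁ n₂ n₃) {q : G}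
    (hq : q ∈ QQ (R j)) (hk : cj q (R i) = R k) :
    ∃ a ∈ R k, ∃ c ∈ CenX V R, n₃ = (q * n₁ * q⁻¹) * (a * c) := by
  obtain ⟨a, ha, hc⟩ := t.move b h hjk hq hk
  refine ⟨a⁻¹, inv_mem ha, _, hc, ?_⟩
  group

/-- the members of a triple commute -/
theorem comm₁₃ [Finite G] (h : ∀ i, LE V R i) (hij : i ≠ j) (hjk : j ≠ k) (t : Tri R i j k n₁ n₂ n₃)
    (hik : i ≠ k) : n₁ * n₃ = n₃ * n₁ := by
  obtain ⟨w, hw, e⟩ := b.trans j hij (Ne.symm hjk)
  have hw' : w ∉ UU V R j := by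
    intro hu
    have h1 : cj w (R i) = R i := cj_eq_self_iff.2 (b.cen_le_N i (UU_le_cen j hu))
    exact hik (b.R_index (h1.symm.trans e))
  obtain ⟨a, ha, c, hc, e3⟩ := t.move' b h hjk (b.W_le_Q j hw) e
  have h1 := Comm.comm_conj b hij (ZQ_le_cenW b.toBT i t.one) hw hw'
  have h2 := ZQ_V b t.one (b.R_le k ha)
  have h3 := ZQ_C b h t.one hc
  rw [e3]
  calc n₁ * (w * n₁ * w⁻¹ * (a * c)) = (n₁ * (w * n₁ * w⁻¹)) * (a * c) := by group
    _ = (w * n₁ * w⁻¹) * (n₁ * a) * c := by rw [h1]; group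
    _ = (w * n₁ * w⁻¹) * a * (n₁ * c) := by rw [h2]; group
    _ = _ := by rw [h3]; group

end

end Tri

/-! ### the pairing -/

/-- `[u v, y] = [v, y] [u, y]` if `u` commutes with `[v, y]` -/
theorem comm_mul_left {u v y : G} (h : u * (v * y * v⁻¹ * y⁻¹) = (v * y * v⁻¹ * y⁻¹) * u) :
    u * v * y * (u * v)⁻¹ * y⁻¹ = (v * y * v⁻¹ * y⁻¹) * (u * y * u⁻¹ * y⁻¹) := by
  calc u * v * y * (u * v)⁻¹ * y⁻¹ = (u * (v * y * v⁻¹ * y⁻¹)) * y * u⁻¹ * y⁻¹ := by group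
    _ = _ := by rw [h]; group

theorem comm_of_mul {u v y : G} (hv : v * y = y * v) : (u * v) * y * (u * v)⁻¹ * y⁻¹ = u * y * u⁻¹ * y⁻¹ := by
  calc (u * v) * y * (u * v)⁻¹ * y⁻¹ = u * (v * y) * v⁻¹ * u⁻¹ * y⁻¹ := by group
    _ = _ := by rw [hv]; group

section

variable (b : BTS V R)
include b

/-- `[n, y] = a c`, `a ∈ R i`, `c ∈ C_X` -/
theorem ZQ_E' [Finite G] {i j : ι} (hij : i ≠ j) {n y : G} (hn : n ∈ ZQ R i) (hy : y ∈ EE V R j) :
    ∃ a ∈ R i, ∃ c ∈ CenX V R, n * y * n⁻¹ * y⁻¹ = a * c := by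
  obtain ⟨a, ha, hc⟩ := ZQ_E b hij hn hy
  exact ⟨a⁻¹, inv_mem ha, _, hc, by group⟩

/-- `[n^w, y] = [n, y]^w` for `w ∈ Q j`, `y ∈ E j`, `n ∈ ζ i` -/
theorem comm_conj_Q [Finite G] (h : ∀ i, LE V R i) {i j : ι} {n w y : G} (hn : n ∈ ZQ R i)
    (hw : w ∈ QQ (R j)) (hy : y ∈ EE V R j) :
    (w * n * w⁻¹) * y * (w * n * w⁻¹)⁻¹ * y⁻¹ = w * (n * y * n⁻¹ * y⁻¹) * w⁻¹ := by
  -- `w⁻¹ y w = y s`, `s ∈ R j`
  have hs : y⁻¹ * w⁻¹ * y⁻¹⁻¹ * w⁻¹⁻¹ ∈ R j := Q_comm b (h j) (inv_mem hy.1) (inv_mem hw)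
  set s := y⁻¹ * w⁻¹ * y⁻¹⁻¹ * w⁻¹⁻¹ with hsdef
  have e1 : w⁻¹ * y * w = y * s := by rw [hsdef]; group
  have e2 := ZQ_V b hn (b.R_le j hs)
  have e3 : n * s * n⁻¹ = s := by rw [e2, mul_inv_cancel_right]
  have e4 : w * s * w⁻¹ = s := b.conj_R hw hs
  calc (w * n * w⁻¹) * y * (w * n * w⁻¹)⁻¹ * y⁻¹ = w * (n * (w⁻¹ * y * w) * n⁻¹ * (w⁻¹ * y * w)⁻¹) * w⁻¹ := by
        group
    _ = w * (n * y * n⁻¹ * (n * s * n⁻¹) * s⁻¹ * y⁻¹) * w⁻¹ := by rw [e1]; group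
    _ = w * (n * y * n⁻¹ * y⁻¹) * w⁻¹ := by rw [e3]; group

/-- **the pairing**: `[n₁, y] = a c`, `[n₂, y] = 1`, `[n₃, y] = a^w c`, `[d, y] = a a^w` for `y ∈ E j` -/
theorem Tri.pair [Finite G] (h : ∀ i, LE V R i) {i j k : ι} (hij : i ≠ j) (hjk : j ≠ k) {n₁ n₂ n₃ y : G}
    (t : Tri R i j k n₁ n₂ n₃) (hy : y ∈ EE V R j) :
    ∃ a ∈ R i, ∃ c ∈ CenX V R, n₁ * y * n₁⁻¹ * y⁻¹ = a * c ∧
      ∀ w ∈ QQ (R j), cj w (R i) = R k → n₃ * y * n₃⁻¹ * y⁻¹ = (w * a * w⁻¹) * c ∧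
        (n₁ * n₂ * n₃) * y * (n₁ * n₂ * n₃)⁻¹ * y⁻¹ = a * (w * a * w⁻¹) := by
  obtain ⟨a, ha, c, hc, e1⟩ := ZQ_E' b hij t.one hy
  refine ⟨a, ha, c, hc, e1, fun w hw hk => ?_⟩
  obtain ⟨a', ha', c', hc', e3⟩ := t.move' b h hjk hw hk
  have hcw : w * c * w⁻¹ = c := by rw [← cenX_Q b (h j) hc hw, mul_inv_cancel_right]
  have hyV := hy.2
  have k1 : a' * c' * y = y * (a' * c') := by
    have h1 := cenX_Q b (h j) hc' hy.1
    have h2 := mem_centralizer_iff.1 hyV a' (b.R_le k ha')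
    calc a' * c' * y = a' * (c' * y) := by group
      _ = (a' * y) * c' := by rw [h1]; group
      _ = _ := by rw [h2]; group
  have h3 : n₃ * y * n₃⁻¹ * y⁻¹ = (w * a * w⁻¹) * c := by
    rw [e3, comm_of_mul k1, comm_conj_Q b h t.one hw hy, e1]
    calc w * (a * c) * w⁻¹ = (w * a * w⁻¹) * (w * c * w⁻¹) := by group
      _ = _ := by rw [hcw]
  refine ⟨h3, ?_⟩
  have hwa : w * a * w⁻¹ ∈ V := conj_mem_of_normalizer (b.Q_le_NV j hw) (b.R_le i ha)
  -- `n` commutes with `V C_X`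
  have hcom : ∀ {l : ι} {n v x : G}, n ∈ ZQ R l → v ∈ V → x ∈ CenX V R → n * (v * x) = (v * x) * n := by
    intro l n v x hn hv hx
    calc n * (v * x) = (n * v) * x := by group
      _ = v * (n * x) := by rw [ZQ_V b hn hv]; group
      _ = _ := by rw [ZQ_C b h hn hx]; group
  have h2 : n₂ * y * n₂⁻¹ * y⁻¹ = 1 := by
    rw [← mem_centralizer_iff.1 t.two.2 y hy.1]; group
  have h12 : n₁ * n₂ * y * (n₁ * n₂)⁻¹ * y⁻¹ = a * c := by
    rw [comm_of_mul (by rw [mem_centralizer_iff.1 t.two.2 y hy.1]), e1]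
  rw [comm_mul_left (u := n₁ * n₂) (v := n₃) (by
    rw [h3, mul_assoc n₁ n₂, hcom t.two hwa hc, ← mul_assoc, hcom t.one hwa hc, mul_assoc]), h3, h12]
  have hcc := cenX_sq b (h j) hc
  have hVc : c * a = a * c := by
    have := mem_centralizer_iff.1 (b.CenX_le_cen hc) a (b.R_le i ha)
    exact this.symm
  calc w * a * w⁻¹ * c * (a * c) = (w * a * w⁻¹) * (c * a) * c := by group
    _ = ((w * a * w⁻¹) * a) * (c * c) := by rw [hVc]; group
    _ = _ := by rw [hcc, mul_one, b.V_comm _ hwa _ (b.R_le i ha)]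

/-- `[d, y] = 1` iff `[n₁, y] ∈ C_X` (`y ∈ E j`) -/
theorem Tri.pair_one_iff [Finite G] (h : ∀ i, LE V R i) {i j k : ι} (hij : i ≠ j) (hjk : j ≠ k)
    (hik : i ≠ k) {n₁ n₂ n₃ y : G} (t : Tri R i j k n₁ n₂ n₃) (hy : y ∈ EE V R j) :
    (n₁ * n₂ * n₃) * y * (n₁ * n₂ * n₃)⁻¹ * y⁻¹ = 1 ↔ n₁ * y * n₁⁻¹ * y⁻¹ ∈ CenX V R := by
  obtain ⟨a, ha, c, hc, e1, H⟩ := t.pair b h hij hjk hy
  obtain ⟨w, hw, e⟩ := b.trans j hij (Ne.symm hjk)
  obtain ⟨-, e2⟩ := H w (b.W_le_Q j hw) e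
  have hwa : w * a * w⁻¹ ∈ R k := by rw [← e]; exact conj_mem_cj ha
  rw [e2, e1]
  constructor
  · intro h1
    have h2 : a ∈ R k := by
      rw [eq_inv_of_mul_eq_one_left h1]
      exact inv_mem hwa
    rw [b.eq_one hik ha h2, one_mul]
    exact hc
  · intro h1
    have h2 : a ∈ CenX V R := (mul_mem_cancel_right hc).1 h1
    rw [b.cen_VX (b.R_le i ha) h2]
    group

/-! ### symmetry of `d` -/

theorem Tri.comm₁₂ [Finite G] (h : ∀ i, LE V R i) {i j k : ι} (hij : i ≠ j) (hjk : j ≠ k)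
    (hik : i ≠ k) {n₁ n₂ n₃ : G} (t : Tri R i j k n₁ n₂ n₃) : n₁ * n₂ = n₂ * n₁ := by
  have t' := Tri.swap b (Tri.rot b t)
  -- `Tri k j i n₃ n₂ n₁`
  have t'' := Tri.rot b (Tri.rot b t')
  exact (Tri.comm₁₃ b h hjk (Ne.symm hik) (t.rot b) (Ne.symm hij)).symm

theorem Tri.comm₂₃ [Finite G] (h : ∀ i, LE V R i) {i j k : ι} (hij : i ≠ j) (hjk : j ≠ k)
    (hik : i ≠ k) {n₁ n₂ n₃ : G} (t : Tri R i j k n₁ n₂ n₃) : n₂ * n₃ = n₃ * n₂ :=
  Tri.comm₁₂ b h hjk (Ne.symm hik) (Ne.symm hij) (t.rot b)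

theorem Tri.d_swap [Finite G] (h : ∀ i, LE V R i) {i j k : ι} (hij : i ≠ j) (hjk : j ≠ k)
    (hik : i ≠ k) {n₁ n₂ n₃ : G} (t : Tri R i j k n₁ n₂ n₃) : n₂ * n₁ * n₃ = n₁ * n₂ * n₃ := by
  rw [t.comm₁₂ b h hij hjk hik]

theorem Tri.d_rot [Finite G] (h : ∀ i, LE V R i) {i j k : ι} (hij : i ≠ j) (hjk : j ≠ k)
    (hik : i ≠ k) {n₁ n₂ n₃ : G} (t : Tri R i j k n₁ n₂ n₃) : n₂ * n₃ * n₁ = n₁ * n₂ * n₃ := by
  rw [mul_assoc, ← t.comm₁₃ b h hij hjk hik, ← mul_assoc, t.comm₁₂ b h hij hjk hik]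

/-- `n₁² n₂² n₃² = 1` -/
theorem Tri.sq_mul [Finite G] (h : ∀ i, LE V R i) {i j k : ι} (hij : i ≠ j) (hjk : j ≠ k)
    (hik : i ≠ k) {n₁ n₂ n₃ : G} (t : Tri R i j k n₁ n₂ n₃) :
    (n₁ * n₁) * (n₂ * n₂) * (n₃ * n₃) = 1 := by
  have c12 : Commute n₁ n₂ := t.comm₁₂ b h hij hjk hik
  have c13 : Commute n₁ n₃ := t.comm₁₃ b h hij hjk hik
  have c23 : Commute n₂ n₃ := t.comm₂₃ b h hij hjk hik
  have h1 := C_sq_one b h t.mem
  rw [← h1]
  calc (n₁ * n₁) * (n₂ * n₂) * (n₃ * n₃) = n₁ * (n₁ * n₂) * (n₂ * n₃) * n₃ := by group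
    _ = n₁ * (n₂ * n₁) * (n₃ * n₂) * n₃ := by rw [c12.eq, c23.eq]
    _ = n₁ * n₂ * (n₁ * n₃) * n₂ * n₃ := by group
    _ = n₁ * n₂ * (n₃ * n₁) * n₂ * n₃ := by rw [c13.eq]
    _ = _ := by group

/-- `n₃² = (n₁²)^q` -/
theorem Tri.sq_move [Finite G] (h : ∀ i, LE V R i) {i j k : ι} (hjk : j ≠ k)
    {n₁ n₂ n₃ : G} (t : Tri R i j k n₁ n₂ n₃) {q : G} (hq : q ∈ QQ (R j)) (hk : cj q (R i) = R k) :
    n₃ * n₃ = q * (n₁ * n₁) * q⁻¹ := by
  obtain ⟨a, ha, c, hc, e3⟩ := t.move' b h hjk hq hk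
  have hn := conj_ZQ b t.one hk
  have h1 := ZQ_V b hn (b.R_le k ha)
  have h2 := ZQ_C b h hn hc
  have h3 : c * a = a * c := (mem_centralizer_iff.1 (b.CenX_le_cen hc) a (b.R_le k ha)).symm
  have h4 : a * a = 1 := b.V_sq a (b.R_le k ha)
  have h5 : c * c = 1 := cenX_sq b (h j) hc
  rw [e3]
  set n := q * n₁ * q⁻¹ with hndef
  calc n * (a * c) * (n * (a * c)) = n * a * (c * n) * a * c := by group
    _ = n * (a * n) * (c * a) * c := by rw [← h2]; group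
    _ = n * n * (a * a) * (c * c) := by rw [← h1, h3]; group
    _ = q * (n₁ * n₁) * q⁻¹ := by rw [h4, h5, hndef]; group

/-! ### the Siegel statement: the action of `n₂ ∈ ζ j` on `Q i / ζ i` -/

/-- **Siegel**: `[q, n₂] ∈ d V ζ i` for `q ∈ Q i` moving `R j` to `R k` -/
theorem Tri.siegel [Finite G] (h : ∀ i, LE V R i) {i j k : ι} (hij : i ≠ j) (hjk : j ≠ k)
    (hik : i ≠ k) {n₁ n₂ n₃ : G} (t : Tri R i j k n₁ n₂ n₃) {q : G} (hq : q ∈ QQ (R i))
    (hk : cj q (R j) = R k) :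
    ∃ a ∈ R k, ∃ c ∈ CenX V R, q * n₂ * q⁻¹ * n₂⁻¹ =
      (n₁ * n₂ * n₃) * ((n₂ * n₂)⁻¹ * a) * (n₁⁻¹ * c) := by
  obtain ⟨a, ha, c, hc, e3⟩ := (t.swap b).move' b h hik hq hk
  have ha' := inv_mem ha
  have hc' := inv_mem hc
  refine ⟨a⁻¹, ha', c⁻¹, hc', ?_⟩
  have haV := b.R_le k ha'
  have k0 : c⁻¹ * a⁻¹ = a⁻¹ * c⁻¹ := (mem_centralizer_iff.1 (b.CenX_le_cen hc') _ haV).symm
  have k1 := ZQ_V b t.two haV
  have k2 := ZQ_C b h t.two hc'
  have k3 : n₁⁻¹ * a⁻¹ = a⁻¹ * n₁⁻¹ := ZQ_V b (inv_mem t.one) haV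
  have hs : (n₂ * n₂)⁻¹ ∈ V := b.R_le j (inv_mem (Q_sq b (h j) t.two.1))
  have k4 : n₁⁻¹ * (n₂ * n₂)⁻¹ = (n₂ * n₂)⁻¹ * n₁⁻¹ := ZQ_V b (inv_mem t.one) hs
  have k5 := t.comm₂₃ b h hij hjk hik
  have k6 : (n₁ * n₂ * n₃) * n₁⁻¹ = n₁⁻¹ * (n₁ * n₂ * n₃) :=
    (mem_centralizer_iff.1 (inv_mem t.one.2) _ (mem_iInf.1 t.mem i))
  have e1 : q * n₂ * q⁻¹ = n₃ * (c⁻¹ * a⁻¹) := by rw [e3]; group
  have e2 : a⁻¹ * n₂⁻¹ = n₂⁻¹ * a⁻¹ := (ZQ_V b (inv_mem t.two) haV).symm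
  have e4 : c⁻¹ * n₂⁻¹ = n₂⁻¹ * c⁻¹ := (ZQ_C b h (inv_mem t.two) hc').symm
  calc q * n₂ * q⁻¹ * n₂⁻¹ = n₃ * c⁻¹ * (a⁻¹ * n₂⁻¹) := by rw [e1]; group
    _ = n₃ * (c⁻¹ * n₂⁻¹) * a⁻¹ := by rw [e2]; group
    _ = (n₃ * n₂) * (n₂ * n₂)⁻¹ * (c⁻¹ * a⁻¹) := by rw [e4]; group
    _ = n₁⁻¹ * (n₁ * n₂ * n₃) * (n₂ * n₂)⁻¹ * (a⁻¹ * c⁻¹) := by rw [← k5, k0]; group
    _ = (n₁ * n₂ * n₃) * (n₁⁻¹ * (n₂ * n₂)⁻¹) * a⁻¹ * c⁻¹ := by rw [← k6]; group
    _ = (n₁ * n₂ * n₃) * (n₂ * n₂)⁻¹ * (n₁⁻¹ * a⁻¹) * c⁻¹ := by rw [k4]; group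
    _ = _ := by rw [k3]; group

/-- **Siegel** on `E i`: `[n₂, y] = a c` where `[d, y] = a a^w` -/
theorem Tri.siegel_E [Finite G] (h : ∀ i, LE V R i) {i j k : ι} (hij : i ≠ j) (hjk : j ≠ k)
    (hik : i ≠ k) {n₁ n₂ n₃ : G} (t : Tri R i j k n₁ n₂ n₃) {y : G} (hy : y ∈ EE V R i) :
    ∃ a ∈ R j, ∃ c ∈ CenX V R, n₂ * y * n₂⁻¹ * y⁻¹ = a * c ∧
      ∀ w ∈ QQ (R i), cj w (R j) = R k → n₃ * y * n₃⁻¹ * y⁻¹ = (w * a * w⁻¹) * c ∧
        (n₁ * n₂ * n₃) * y * (n₁ * n₂ * n₃)⁻¹ * y⁻¹ = a * (w * a * w⁻¹) := by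
  have h1 := (t.swap b).pair b h (Ne.symm hij) hik hy
  rwa [t.d_swap b h hij hjk hik] at h1

/-- `[q, [q, n₂]] = n₂² ((n₂²)⁻¹)^q`: `= 1` if `n₂² = 1` -/
theorem Tri.siegel_quad [Finite G] (h : ∀ i, LE V R i) {i j k : ι} (hij : i ≠ j) (hjk : j ≠ k)
    (hik : i ≠ k) {n₁ n₂ n₃ : G} (t : Tri R i j k n₁ n₂ n₃) {q : G} (hq : q ∈ QQ (R i))
    (hk : cj q (R j) = R k) :
    q * (q * n₂ * q⁻¹ * n₂⁻¹) * q⁻¹ * (q * n₂ * q⁻¹ * n₂⁻¹)⁻¹ =
      (n₂ * n₂) * (q * (n₂ * n₂) * q⁻¹)⁻¹ := by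
  obtain ⟨a, ha, c, hc, e3⟩ := (t.swap b).move' b h hik hq hk
  -- `n₂` commutes with `n₂^q`
  have hcom : n₂ * (q * n₂ * q⁻¹) = (q * n₂ * q⁻¹) * n₂ := by
    have e1 : q * n₂ * q⁻¹ = n₃ * (c⁻¹ * a⁻¹) := by rw [e3]; group
    have k1 := ZQ_V b t.two (b.R_le k (inv_mem ha))
    have k2 := ZQ_C b h t.two (inv_mem hc)
    rw [e1]
    calc n₂ * (n₃ * (c⁻¹ * a⁻¹)) = (n₂ * n₃) * (c⁻¹ * a⁻¹) := by group
      _ = n₃ * (n₂ * c⁻¹) * a⁻¹ := by rw [t.comm₂₃ b h hij hjk hik]; group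
      _ = n₃ * c⁻¹ * (n₂ * a⁻¹) := by rw [k2]; group
      _ = _ := by rw [k1]; group
  have hqq : q * q * n₂ = n₂ * (q * q) := (ZQ_V b t.two (b.R_le i (Q_sq b (h i) hq))).symm
  set m := q * n₂ * q⁻¹ with hm
  have e1 : q * m * q⁻¹ = n₂ := by
    calc q * m * q⁻¹ = (q * q * n₂) * (q * q)⁻¹ := by rw [hm]; group
      _ = n₂ := by rw [hqq]; group
  have e2 : q * (m * n₂⁻¹) * q⁻¹ = n₂ * m⁻¹ := by
    calc q * (m * n₂⁻¹) * q⁻¹ = (q * m * q⁻¹) * (q * n₂ * q⁻¹)⁻¹ := by group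
      _ = _ := by rw [e1]
  have e3 : m⁻¹ * n₂ = n₂ * m⁻¹ := by
    rw [inv_mul_eq_iff_eq_mul, ← mul_assoc, ← hcom, mul_inv_cancel_right]
  calc q * (m * n₂⁻¹) * q⁻¹ * (m * n₂⁻¹)⁻¹ = n₂ * m⁻¹ * (n₂ * m⁻¹) := by rw [e2]; group
    _ = n₂ * (m⁻¹ * n₂) * m⁻¹ := by group
    _ = (n₂ * n₂) * (m * m)⁻¹ := by rw [e3]; group
    _ = (n₂ * n₂) * (q * (n₂ * n₂) * q⁻¹)⁻¹ := by rw [hm]; group

/-! ### multiplicativity -/

theorem Tri.mul [Finite G] (h : ∀ i, LE V R i) {i j k : ι} (hjk : j ≠ k) {n₁ n₂ n₃ m₁ m₂ m₃ : G}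
    (t : Tri R i j k n₁ n₂ n₃) (t' : Tri R i j k m₁ m₂ m₃) :
    Tri R i j k (n₁ * m₁) (n₂ * m₂) (n₃ * m₃) := by
  refine tri_of_rel b h hjk (mul_mem t.one t'.one) (mul_mem t.two t'.two) (mul_mem t.three t'.three) ?_ ?_
  · have e : n₃ * m₃ * (n₁ * m₁)⁻¹ = n₃ * (m₃ * m₁⁻¹) * n₃⁻¹ * (n₃ * n₁⁻¹) := by group
    rw [e]
    exact mul_mem (conj_mem_of_normalizer (le_normalizer_O2 _ (ZQ_N b j t.three)) (t'.rel₁₃ b h))
      (t.rel₁₃ b h)
  · have e : n₂ * m₂ * (n₁ * m₁)⁻¹ = n₂ * (m₂ * m₁⁻¹) * n₂⁻¹ * (n₂ * n₁⁻¹) := by group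
    rw [e]
    exact mul_mem (conj_mem_of_normalizer (le_normalizer_O2 _ (ZQ_N b k t.two)) (t'.rel₁₂ b h))
      (t.rel₁₂ b h)

/-- `d_{n m} = d_n d_m` modulo `C_X` -/
theorem Tri.d_mul [Finite G] (h : ∀ i, LE V R i) {i j k : ι} {n₁ n₂ n₃ m₁ m₂ m₃ : G}
    (t : Tri R i j k n₁ n₂ n₃) (t' : Tri R i j k m₁ m₂ m₃) : ∃ c ∈ CenX V R,
      (n₁ * m₁) * (n₂ * m₂) * (n₃ * m₃) = c * ((n₁ * n₂ * n₃) * (m₁ * m₂ * m₃)) := by
  have c1 := ZQ_ZQ b t'.one t.two
  have c2 := ZQ_ZQ b t'.two t.three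
  have c3 := ZQ_ZQ b t'.one t.three
  set x1 := m₁ * n₂ * m₁⁻¹ * n₂⁻¹ with hx1
  set x2 := m₂ * n₃ * m₂⁻¹ * n₃⁻¹ with hx2
  set x3 := m₁ * n₃ * m₁⁻¹ * n₃⁻¹ with hx3
  refine ⟨x1 * x2 * x3, mul_mem (mul_mem c1 c2) c3, ?_⟩
  have e1 : m₁ * n₂ = x1 * (n₂ * m₁) := by rw [hx1]; group
  have e2 : m₂ * n₃ = x2 * (n₃ * m₂) := by rw [hx2]; group
  have e3 : m₁ * n₃ = x3 * (n₃ * m₁) := by rw [hx3]; group
  have k1 := ZQ_C b h t.one c1
  have k2 := ZQ_C b h t.one c2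
  have k3 := ZQ_C b h t.one c3
  have k4 := ZQ_C b h t.two c2
  have k5 := ZQ_C b h t.two c3
  have k6 := ZQ_C b h t'.one c2
  calc (n₁ * m₁) * (n₂ * m₂) * (n₃ * m₃) = n₁ * (m₁ * n₂) * (m₂ * n₃) * m₃ := by group
    _ = (n₁ * x1) * n₂ * (m₁ * x2) * n₃ * m₂ * m₃ := by rw [e1, e2]; group
    _ = x1 * n₁ * (n₂ * x2) * (m₁ * n₃) * m₂ * m₃ := by rw [k1, k6]; group
    _ = x1 * (n₁ * x2) * (n₂ * x3) * n₃ * m₁ * m₂ * m₃ := by rw [k4, e3]; group
    _ = x1 * x2 * (n₁ * x3) * n₂ * n₃ * m₁ * m₂ * m₃ := by rw [k2, k5]; group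
    _ = _ := by rw [k3]; group

/-- `d` modulo `V C_X` depends only on `n₁` modulo `R i × C_X` -/
theorem Tri.d_uniq [Finite G] (h : ∀ i, LE V R i) {i j k : ι} (hij : i ≠ j) (hjk : j ≠ k)
    {n₁ n₂ n₃ m₁ m₂ m₃ : G}
    (t : Tri R i j k n₁ n₂ n₃) (t' : Tri R i j k m₁ m₂ m₃) (hj : m₁⁻¹ * n₁ ∈ QQ (R j)) :
    ∃ v ∈ V, v * ((m₁ * m₂ * m₃)⁻¹ * (n₁ * n₂ * n₃)) ∈ CenX V R := by
  have hJ : m₁⁻¹ * n₁ ∈ CC R := by
    rw [b.C_eq hij]
    exact mem_inf.2 ⟨mul_mem (inv_mem t'.one.1) t.one.1, hj⟩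
  obtain ⟨a1, ha1, hc1⟩ := ZQ_Q b hij (mul_mem (inv_mem t'.one) t.one) hj
  obtain ⟨a2, ha2, hc2⟩ := t.uniq₂ b h hjk t' (mem_iInf.1 hJ k)
  obtain ⟨a3, ha3, hc3⟩ := t.uniq₃ b h hjk t' hj
  set c1 := a1 * (m₁⁻¹ * n₁) with h1
  set c2 := a2 * (m₂⁻¹ * n₂) with h2
  set c3 := a3 * (m₃⁻¹ * n₃) with h3
  have e1 : n₁ = m₁ * a1⁻¹ * c1 := by rw [h1]; group
  have e2 : n₂ = m₂ * a2⁻¹ * c2 := by rw [h2]; group
  have e3 : n₃ = m₃ * a3⁻¹ * c3 := by rw [h3]; group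
  have v1 := b.R_le i (inv_mem ha1)
  have v2 := b.R_le j (inv_mem ha2)
  have v3 := b.R_le k (inv_mem ha3)
  have cV : ∀ {c v : G}, c ∈ CenX V R → v ∈ V → c * v = v * c := fun hc hv =>
    (mem_centralizer_iff.1 (b.CenX_le_cen hc) _ hv).symm
  have key : n₁ * n₂ * n₃ = (m₁ * m₂ * m₃) * ((a1⁻¹ * a2⁻¹ * a3⁻¹) * (c1 * c2 * c3)) := by
    rw [e1, e2, e3]
    generalize a1⁻¹ = v1' at *
    generalize a2⁻¹ = v2' at *
    generalize a3⁻¹ = v3' at *
    calc m₁ * v1' * c1 * (m₂ * v2' * c2) * (m₃ * v3' * c3)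
        = m₁ * v1' * (c1 * m₂) * v2' * (c2 * m₃) * v3' * c3 := by group
      _ = m₁ * (v1' * m₂) * (c1 * v2') * m₃ * (c2 * v3') * c3 := by
          rw [← ZQ_C b h t'.two hc1, ← ZQ_C b h t'.three hc2]; group
      _ = m₁ * m₂ * v1' * v2' * (c1 * m₃) * v3' * c2 * c3 := by
          rw [← ZQ_V b t'.two v1, cV hc1 v2, cV hc2 v3]; group
      _ = m₁ * m₂ * v1' * (v2' * m₃) * (c1 * v3') * c2 * c3 := by
          rw [← ZQ_C b h t'.three hc1]; group
      _ = m₁ * m₂ * (v1' * m₃) * v2' * v3' * c1 * c2 * c3 := by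
          rw [← ZQ_V b t'.three v2, cV hc1 v3]; group
      _ = _ := by rw [← ZQ_V b t'.three v1]; group
  refine ⟨(a1⁻¹ * a2⁻¹ * a3⁻¹)⁻¹, inv_mem (mul_mem (mul_mem v1 v2) v3), ?_⟩
  rw [key]
  have e : (a1⁻¹ * a2⁻¹ * a3⁻¹)⁻¹ * ((m₁ * m₂ * m₃)⁻¹ * (m₁ * m₂ * m₃ * (a1⁻¹ * a2⁻¹ * a3⁻¹ *
      (c1 * c2 * c3)))) = c1 * c2 * c3 := by group
  rw [e]
  exact mul_mem (mul_mem hc1 hc2) hc3

/-! ### `c_n(y)` -/

/-- `R i × C_X` is centralised by `C(V) ∩ Q l` -/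
theorem RC_comm [Finite G] (h : ∀ i, LE V R i) {l : ι} {a c y : G} (ha : a ∈ V)
    (hc : c ∈ CenX V R) (hy : y ∈ EE V R l) : (a * c) * y = y * (a * c) := by
  have h1 := cenX_Q b (h l) hc hy.1
  have h2 := mem_centralizer_iff.1 hy.2 a ha
  calc a * c * y = a * (c * y) := by group
    _ = (a * y) * c := by rw [h1]; group
    _ = _ := by rw [h2]; group

/-- `[ζ i, E j, E l] = 1` -/
theorem ZQ_E_E [Finite G] (h : ∀ i, LE V R i) {i j l : ι} (hij : i ≠ j) {n y y' : G} (hn : n ∈ ZQ R i)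
    (hy : y ∈ EE V R j) (hy' : y' ∈ EE V R l) :
    (n * y * n⁻¹ * y⁻¹) * y' = y' * (n * y * n⁻¹ * y⁻¹) := by
  obtain ⟨a, ha, c, hc, e⟩ := ZQ_E' b hij hn hy
  rw [e]
  exact RC_comm b h (b.R_le i ha) hc hy'

/-- `[n, y y'] = [n, y] [n, y']` for `n ∈ ζ i`, `y, y' ∈ E j` -/
theorem ZQ_mul_right [Finite G] (h : ∀ i, LE V R i) {i j : ι} (hij : i ≠ j) {n y y' : G}
    (hn : n ∈ ZQ R i) (hy : y ∈ EE V R j) (hy' : y' ∈ EE V R j) :
    n * (y * y') * n⁻¹ * (y * y')⁻¹ = (n * y * n⁻¹ * y⁻¹) * (n * y' * n⁻¹ * y'⁻¹) := by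
  have h1 := ZQ_E_E b h hij hn hy' hy
  calc n * (y * y') * n⁻¹ * (y * y')⁻¹ = (n * y * n⁻¹) * (n * y' * n⁻¹ * y'⁻¹) * y⁻¹ := by group
    _ = (n * y * n⁻¹ * y⁻¹) * (y * (n * y' * n⁻¹ * y'⁻¹)) * y⁻¹ := by group
    _ = _ := by rw [← h1]; group

/-- `[n n', y] = [n, y] [n', y]` for `n, n' ∈ ζ i`, `y ∈ E j` -/
theorem ZQ_mul_left [Finite G] (h : ∀ i, LE V R i) {i j : ι} (hij : i ≠ j) {n n' y : G}
    (hn : n ∈ ZQ R i) (hn' : n' ∈ ZQ R i) (hy : y ∈ EE V R j) :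
    n * n' * y * (n * n')⁻¹ * y⁻¹ = (n * y * n⁻¹ * y⁻¹) * (n' * y * n'⁻¹ * y⁻¹) := by
  have h1 := ZQ_E_E b h hij hn' hy (ZQ_le_EE b.toBT i hn)
  rw [comm_mul_left h1.symm]
  obtain ⟨a, ha, c, hc, e⟩ := ZQ_E' b hij hn hy
  obtain ⟨a', ha', c', hc', e'⟩ := ZQ_E' b hij hn' hy
  rw [e, e']
  have k1 := b.V_comm _ (b.R_le i ha) _ (b.R_le i ha')
  have k2 := cenX_comm b (h i) hc hc'
  have k3 : c' * a = a * c' := (mem_centralizer_iff.1 (b.CenX_le_cen hc') a (b.R_le i ha)).symm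
  have k4 : c * a' = a' * c := (mem_centralizer_iff.1 (b.CenX_le_cen hc) a' (b.R_le i ha')).symm
  calc a' * c' * (a * c) = a' * (c' * a) * c := by group
    _ = (a' * a) * (c' * c) := by rw [k3]; group
    _ = a * (a' * c) * c' := by rw [← k1, ← k2]; group
    _ = _ := by rw [← k4]; group

/-- `q = 2`: `[d, y] = 1`, `[n₁, y] = [n₃, y] = c`, or `[d, y] = r_j`, `[n₁, y] = r_i c`, `[n₃, y] = r_k c` -/
theorem Tri.pair_two [Finite G] (h : ∀ i, LE V R i) {r : ι → G} (hr : ∀ l, ∀ x ∈ R l, x = 1 ∨ x = r l)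
    {i j k : ι} (hij : i ≠ j) (hjk : j ≠ k) (hik : i ≠ k) {n₁ n₂ n₃ y : G}
    (t : Tri R i j k n₁ n₂ n₃) (hy : y ∈ EE V R j) : ∃ c ∈ CenX V R,
      ((n₁ * n₂ * n₃) * y * (n₁ * n₂ * n₃)⁻¹ * y⁻¹ = 1 ∧ n₁ * y * n₁⁻¹ * y⁻¹ = c ∧
        n₃ * y * n₃⁻¹ * y⁻¹ = c) ∨
      ((n₁ * n₂ * n₃) * y * (n₁ * n₂ * n₃)⁻¹ * y⁻¹ = r j ∧ n₁ * y * n₁⁻¹ * y⁻¹ = r i * c ∧
        n₃ * y * n₃⁻¹ * y⁻¹ = r k * c) := by
  obtain ⟨a, ha, c, hc, e1, H⟩ := t.pair b h hij hjk hy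
  obtain ⟨w, hw, e⟩ := b.trans j hij (Ne.symm hjk)
  obtain ⟨e3, e2⟩ := H w (b.W_le_Q j hw) e
  refine ⟨c, hc, ?_⟩
  rcases hr i a ha with rfl | rfl
  · left
    rw [e2, e1, e3]
    exact ⟨by group, by group, by group⟩
  · right
    have hwa : w * r i * w⁻¹ ∈ R k := by rw [← e]; exact conj_mem_cj ha
    have hr1 : r i ≠ 1 := by
      intro h1
      obtain ⟨x, hx, hx1⟩ := b.exists_ne i
      rcases hr i x hx with rfl | rfl
      · exact hx1 rfl
      · exact hx1 h1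
    have hwa1 : w * r i * w⁻¹ ≠ 1 := by
      intro h1
      rw [mul_inv_eq_one] at h1
      exact hr1 (mul_left_cancel (a := w) (by rw [h1, mul_one]))
    have hk : w * r i * w⁻¹ = r k := (hr k _ hwa).resolve_left hwa1
    have hj : r i * (w * r i * w⁻¹) ∈ R j := by
      have h1 := b.QV j w (b.W_le_Q j hw) (r i) (b.R_le i ha)
      rw [b.inv_eq (b.R_le i ha)] at h1
      rwa [b.V_comm _ (b.R_le i ha) _ (b.R_le k hwa)]
    have hj1 : r i * (w * r i * w⁻¹) ≠ 1 := by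
      intro h1
      have h2 : r i ∈ R k := by
        rw [eq_inv_of_mul_eq_one_left h1]
        exact inv_mem hwa
      exact hr1 (b.eq_one hik ha h2)
    rw [e2, e1, e3, hk]
    exact ⟨by rw [← hk]; exact (hr j _ hj).resolve_left hj1, rfl, rfl⟩

/-- the subgroup generated by the `c_n(y)` -/
def CS (V : Subgroup G) (R : ι → Subgroup G) : Subgroup G :=
  closure {c | c ∈ CenX V R ∧ ∃ i j, i ≠ j ∧ ∃ n ∈ ZQ R i, ∃ y ∈ EE V R j, ∃ a ∈ R i,
    n * y * n⁻¹ * y⁻¹ = a * c}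

omit b in
theorem CS_le : CS V R ≤ CenX V R := (closure_le _).2 fun _ hc => hc.1

/-- `N(V)` normalises `⟨c_n(y)⟩` -/
theorem NV_le_NCS : normalizer (V : Set G) ≤ normalizer (CS V R : Set G) := by
  have key : ∀ g ∈ normalizer (V : Set G), cj g (CS V R) ≤ CS V R := by
    intro g hg
    rw [cj, map_le_iff_le_comap, CS, closure_le]
    rintro c ⟨hc, i, j, hij, n, hn, y, hy, a, ha, e⟩
    obtain ⟨i', hi'⟩ := b.perm g hg i
    obtain ⟨j', hj'⟩ := b.perm g hg j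
    refine subset_closure ⟨conj_mem_of_normalizer (b.NV_le_NCenX hg) hc, i', j', ?_, g * n * g⁻¹, ?_,
      g * y * g⁻¹, ?_, g * a * g⁻¹, ?_, ?_⟩
    · rintro rfl
      exact hij (b.R_index (cj_injective (hi'.trans hj'.symm)))
    · exact conj_ZQ b hn hi'
    · rw [← cj_EE b.toBT hg hj']
      exact conj_mem_cj hy
    · rw [← hi']
      exact conj_mem_cj ha
    · change g * n * g⁻¹ * (g * y * g⁻¹) * (g * n * g⁻¹)⁻¹ * (g * y * g⁻¹)⁻¹ = g * a * g⁻¹ * (g * c * g⁻¹)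
      calc g * n * g⁻¹ * (g * y * g⁻¹) * (g * n * g⁻¹)⁻¹ * (g * y * g⁻¹)⁻¹
          = g * (n * y * n⁻¹ * y⁻¹) * g⁻¹ := by group
        _ = _ := by rw [e]; group
  intro g hg
  rw [← cj_eq_self_iff]
  apply le_antisymm (key g hg)
  have h3 := cj_mono (g := g) (key g⁻¹ (inv_mem hg))
  rwa [cj_cj_inv] at h3

end

end Cfsg.Agent.Omega.HTwo.HatD

end

end

-- merged: Cfsg.Agent.Mrg.Omega.HTwo.TSPos
section

/-!
# II.0h1, `q = 2`: the position `Pos` and the transvection statement `TSz` give `TS` and `Eight.Res`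

`p : Pos S P V R o r z`, `h : TSz V R o r z`, `M = MP V R o z = ⟨N(R o) ∩ C(z), X⟩`:

* `TSPos.gg p i` : the involution of `R i`, `gg_o : gg p o = r`, `N_gg : N(R i) = C(gg p i)`;
* `TSPos.S_M`, `TSPos.isLoc_M`, `TSPos.char2`, `TSPos.gn_eq`, `TSPos.U_zc` : `U = ⟨r^M⟩ ≤ Ω₁(Z(O₂(M)))`;
* `TSPos.ts p h : TS G` with `z, M, r 0 = r, Q = Qp, C = CenX V R`; `TSPos.res p h : Res z M U Δ f tz`.
-/

set_option autoImplicit false
set_option linter.unusedSectionVars false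

namespace Cfsg.Agent.Omega.HTwo.TSPos

open Subgroup Cfsg Cfsg.Agent.ZN Cfsg.Agent.Omega.MinPar
open Cfsg.Agent.Omega.BTwo Cfsg.Agent.Omega.HOneTwo Cfsg.Agent.Omega.HTwo.Hat
open Cfsg.Agent.Omega.HTwo.Entry (Pos)
open Cfsg.Agent.Omega.HTwo.AlphaP (MP)
open Cfsg.Agent.Omega.HOne.Cut (TSz)
open Cfsg.Agent.Omega.HOneTwo.Trans
open Cfsg.Agent.Omega.HTwo.Eight (Qp Cp Res)

universe u v

variable {G : Type u} [Group G] [Finite G] {S : Sylow 2 G} {P V : Subgroup G} {ι : Type v}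
  {R : ι → Subgroup G} {o : ι} {r z : G}

section

variable (p : Pos S P V R o r z)
include p

/-! ### the involutions of the points -/

theorem exists_gg (i : ι) : ∃ g, g ≠ 1 ∧ g * g = 1 ∧ ∀ x, x ∈ R i ↔ x = 1 ∨ x = g := p.toHT.exists_gen i

/-- the involution of `R i` -/
noncomputable def gg (i : ι) : G := (exists_gg p i).choose

theorem gg_ne (i : ι) : gg p i ≠ 1 := (exists_gg p i).choose_spec.1

theorem gg_sq (i : ι) : gg p i * gg p i = 1 := (exists_gg p i).choose_spec.2.1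

theorem gg_iff (i : ι) (x : G) : x ∈ R i ↔ x = 1 ∨ x = gg p i := (exists_gg p i).choose_spec.2.2 x

theorem gg_mem (i : ι) : gg p i ∈ R i := (gg_iff p i _).2 (Or.inr rfl)

theorem gg_V (i : ι) : gg p i ∈ V := p.R_le i (gg_mem p i)

theorem gg_o : gg p o = r := ((p.r_iff _).1 (gg_mem p o)).resolve_left (gg_ne p o)

/-- `N(R i) = C(gg i)` -/
theorem N_gg (i : ι) : normalizer (R i : Set G) = Cp (gg p i) := by
  apply le_antisymm
  · intro x hx
    rw [mem_centralizer_singleton_iff]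
    exact (mem_centralizer_iff.1 (normalizer_le_cen_of_card (p.card_R i) hx) _ (gg_mem p i)).symm
  · intro x hx
    rw [mem_centralizer_singleton_iff] at hx
    refine centralizer_le_normalizer _ ?_
    rw [mem_centralizer_iff]
    intro y hy
    rcases (gg_iff p i y).1 hy with rfl | rfl
    · rw [one_mul, mul_one]
    · exact hx.symm

theorem QQ_eq (i : ι) : QQ (R i) = Qp (gg p i) := by
  unfold Qp
  rw [← N_gg p i]

theorem QQ_o : QQ (R o) = Qp r := by rw [QQ_eq p, gg_o]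

theorem ZQ_eq (i : ι) : ZQ R i = zt (Qp (gg p i)) := by
  unfold ZQ zt
  rw [QQ_eq p i]

/-! ### `M` -/

theorem z_zc : z ∈ zc (S : Subgroup G) := p.z_mem.1

theorem S_M : (S : Subgroup G) ≤ MP V R o z :=
  (le_inf p.S_R fun s hs => mem_centralizer_singleton_iff.2 ((mem_zc.1 (z_zc p)).2.1 s hs)).trans le_sup_left

theorem M_cz : MP V R o z ≤ centralizer ({z} : Set G) := AlphaP.MP_le p.toHT p.r_iff p.z_mem p.z_ne

theorem isLoc_M : IsLoc (S : Subgroup G) (MP V R o z) :=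
  (p.isLoc_cen (z_zc p) p.z_ne).of_le S (S_M p) (M_cz p)

theorem X_M : XX V R ≤ MP V R o z := le_sup_right

theorem K_M : normalizer (R o : Set G) ⊓ centralizer ({z} : Set G) ≤ MP V R o z := le_sup_left

/-- `C_M(O₂(M)) ≤ O₂(M)` -/
theorem char2_M : MP V R o z ⊓ centralizer (O2 (MP V R o z) : Set G) ≤ O2 (MP V R o z) :=
  (isLoc_M p).char2 S p.char2

theorem gn_eq : gn (MP V R o z) r = cl (R o) (MP V R o z) := by
  apply le_antisymm
  · unfold gn
    rw [closure_le]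
    rintro _ ⟨m, hm, rfl⟩
    exact cj_le_cl hm (conj_mem_cj p.r_mem)
  · refine cl_le ?_ ?_
    · intro x hx
      rcases (p.r_iff x).1 hx with rfl | rfl
      · exact one_mem _
      · exact self_mem_gn _ _
    · intro g hg
      exact mem_normalizer_of_conj fun x hx => gn_inv hg hx

theorem U_zc : gn (MP V R o z) r ≤ zc (O2 (MP V R o z)) := by
  rw [gn_eq p, p.cl_R_eq (p.trans_of_X (X_M p))]
  exact p.cl_V_le (isLoc_M p) (p.trans_of_X (X_M p))

theorem V_U : V ≤ gn (MP V R o z) r := by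
  rw [gn_eq p, p.cl_R_eq (p.trans_of_X (X_M p))]
  exact le_cl _ _

theorem cen_iff {X : Subgroup G} {b : G} : b ∈ centralizer (X : Set G) ↔ ∀ u ∈ X, b * u = u * b := by
  rw [mem_centralizer_iff]
  exact ⟨fun h u hu => (h u hu).symm, fun h u hu => (h u hu).symm⟩

/-- `O₂(M / C_M(U)) = 1` -/
theorem o2_M (B : Subgroup G) (hB : B ≤ MP V R o z) (hn : ∀ m ∈ MP V R o z, ∀ b ∈ B, m * b * m⁻¹ ∈ B)
    (hc : ∀ b ∈ B, ∀ u ∈ gn (MP V R o z) r, b * b * u = u * (b * b)) :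
    ∀ b ∈ B, ∀ u ∈ gn (MP V R o z) r, b * u = u * b := by
  have h1 := AlphaOne.core_of_sylow (U := gn (MP V R o z) r) (O := B) (p := r) S (S_M p)
    (fun g hg => mem_normalizer_of_conj fun x hx => gn_inv hg hx) (self_mem_gn _ _)
    (fun t ht => (mem_centralizer_singleton_iff.1 (by rw [← p.normalizer_eq]; exact p.S_R ht)).symm)
    (by
      unfold gn
      rw [closure_le]
      rintro _ ⟨m, hm, rfl⟩
      exact subset_closure ⟨m, hm, rfl⟩) hB
    (fun g hg => mem_normalizer_of_conj fun x hx => hn g hg x hx)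
    (fun x hx => ⟨1, by rw [pow_one, pow_two]; exact (cen_iff p).2 (hc x hx)⟩)
  exact fun b hb => (cen_iff p).1 (h1 hb)

/-! ### the three points -/

theorem exists_rho : ∃ ρ : Fin 3 → ι, ρ 0 = o ∧ Function.Injective ρ := by
  obtain ⟨j, k, hj, hk, hjk⟩ := p.toHT.one_lt
  refine ⟨![o, j, k], rfl, ?_⟩
  intro a b hab
  fin_cases a <;> fin_cases b <;> first
    | rfl
    | exact absurd hab hj
    | exact absurd hab hk
    | exact absurd hab hjk
    | exact absurd hab.symm hj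
    | exact absurd hab.symm hk
    | exact absurd hab.symm hjk

/-- an enumeration of the points with `ρ 0 = o` -/
noncomputable def rho : Fin 3 → ι := (exists_rho p).choose

theorem rho_zero : rho p 0 = o := (exists_rho p).choose_spec.1

theorem rho_inj : Function.Injective (rho p) := (exists_rho p).choose_spec.2

theorem rho_ne {i j : Fin 3} (h : i ≠ j) : rho p i ≠ rho p j := fun e => h (rho_inj p e)

theorem gg_prod {i j k : ι} (hij : i ≠ j) (hik : i ≠ k) (hjk : j ≠ k) : gg p i * gg p j * gg p k = 1 := by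
  have h1 := AlphaOne.mul_mem_third p.toHT hij hik hjk (gg_mem p j) (gg_ne p j) (gg_mem p k) (gg_ne p k)
  have hk : (gg p k)⁻¹ = gg p k := inv_eq_of_mul_eq_one_left (gg_sq p k)
  rw [hk] at h1
  have h2 : gg p j * gg p k = gg p i := by
    refine ((gg_iff p i _).1 h1).resolve_left fun e => ?_
    rw [mul_eq_one_iff_eq_inv, hk] at e
    exact gg_ne p j (p.eq_one hjk (gg_mem p j) (by rw [e]; exact gg_mem p k))
  rw [mul_assoc, h2, gg_sq]

/-! ### the structure `TS` -/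

theorem gg_Dl (i : ι) : gg p i ∈ Dl (MP V R o z) r := by
  obtain ⟨c, hc, e⟩ := AlphaP.exists_conj_X p.toHT p.r_iff (gg_V p i) (gg_ne p i)
  exact ⟨c, X_M p hc, e.symm⟩

/-- **`Pos` and `TSz` give `TS`** -/
noncomputable def ts (h : TSz V R o r z) : TS G where
  z := z
  M := MP V R o z
  r := fun i => gg p (rho p i)
  Q := Qp
  C := CenX V R
  z_sq := p.z_sq
  z_ne := p.z_ne
  r_prod := gg_prod p (rho_ne p (by decide)) (rho_ne p (by decide)) (rho_ne p (by decide))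
  M_z := fun m hm => mem_centralizer_singleton_iff.1 (M_cz p hm)
  M_r := by
    intro g h1 h2
    rw [rho_zero, gg_o] at h1
    refine K_M p ⟨?_, mem_centralizer_singleton_iff.2 h2⟩
    rw [p.normalizer_eq]
    exact mem_centralizer_singleton_iff.2 h1
  r_Δ := by
    intro i
    rw [rho_zero, gg_o]
    exact gg_Dl p _
  U_sq := by
    intro u hu
    rw [rho_zero, gg_o] at hu
    rw [← pow_two]
    exact (mem_zc.1 (U_zc p hu)).2.2
  Q_conj := by
    intro g q x hx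
    rw [← Eight.cj_Qp]
    exact conj_mem_cj hx
  Q_cent := by
    intro x hx
    rw [rho_zero, gg_o] at hx ⊢
    exact Eight.mem_Cp.1 (Eight.Q_le _ hx)
  Q_der := by
    intro x hx y hy
    rw [rho_zero, gg_o, ← QQ_o p] at hx hy
    rw [rho_zero, gg_o]
    have h1 := ThmA.Q_comm p.toHT.toBTS (p.le_all o) hx hy
    rcases (p.r_iff _).1 h1 with h2 | h2
    · left
      calc x * y = x * y * x⁻¹ * y⁻¹ * (y * x) := by group
        _ = y * x := by rw [h2, one_mul]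
    · right
      calc x * y = x * y * x⁻¹ * y⁻¹ * (y * x) := by group
        _ = r * (y * x) := by rw [h2]
  r_Q := by
    intro i j
    rw [← QQ_eq p]
    exact p.V_Q _ (gg_V p _)
  C_le := by
    intro i
    rw [← ZQ_eq p]
    exact cenX_le_ZQ p.toHT.toBTS p.le_all _
  le_C := by
    intro i j hij
    rw [← ZQ_eq p, ← ZQ_eq p]
    exact (ZQ_inf p.toHT.toBTS p.le_all (rho_ne p hij)).le
  z_C := p.z_cenX
  r_C := by
    intro i hi
    have h1 : gg p (rho p i) ∈ CenX V R ⊓ V := ⟨hi, gg_V p _⟩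
    rw [p.CenX_inf_V, mem_bot] at h1
    exact gg_ne p _ h1
  a := by
    intro i j hij x hx hxj
    rw [← ZQ_eq p] at hx
    rw [← QQ_eq p] at hxj
    obtain ⟨a, ha, h1⟩ := ZQ_Q p.toHT.toBTS (rho_ne p hij) hx hxj
    rcases (gg_iff p _ a).1 ha with h2 | h2
    · left; rwa [h2, one_mul] at h1
    · right; rwa [h2] at h1
  b := by
    intro i j _ x hx y hy
    rw [← ZQ_eq p] at hx hy
    exact HatD.ZQ_ZQ p.toHT.toBTS hx hy
  ts_idx := by
    intro u hu u' hu' h1 h2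
    rw [rho_zero, gg_o] at hu hu' h1 h2 ⊢
    rw [← QQ_o p] at h1 h2 ⊢
    exact h.idx u hu u' hu' h1 h2
  ts_act := by
    intro u hu n hn
    rw [rho_zero, gg_o] at hu hn ⊢
    exact h.act u hu n hn
  ts_ne := by
    obtain ⟨u, hu, n, hn, h1⟩ := h.ne
    refine ⟨u, ?_, n, ?_, h1⟩
    · rw [rho_zero, gg_o]; exact hu
    · rw [rho_zero, gg_o]; exact hn
  o2 := by
    rw [rho_zero, gg_o]
    exact o2_M p

variable (h : TSz V R o r z)

theorem ts_z : (ts p h).z = z := rfl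

theorem ts_M : (ts p h).M = MP V R o z := rfl

theorem ts_r : (ts p h).r 0 = r := by
  change gg p (rho p 0) = r
  rw [rho_zero, gg_o]

theorem ts_U : (ts p h).U = gn (MP V R o z) r := by
  change gn (ts p h).M ((ts p h).r 0) = _
  rw [ts_r, ts_M]

theorem ts_Δ : (ts p h).Δ = Dl (MP V R o z) r := by
  change Dl (ts p h).M ((ts p h).r 0) = _
  rw [ts_r, ts_M]

/-- **`Pos` and `TSz` give `Res`** -/
theorem res : Res z (MP V R o z) (gn (MP V R o z) r) (Dl (MP V R o z) r) (ts p h).f (ts p h).tz := by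
  have h1 := (ts p h).res (fun _ => rfl) (by
    intro c hc u hu
    rw [ts_U] at hu
    exact (mem_zc.1 (U_zc p hu)).2.1 c hc) (by
    rw [ts_U]
    exact (U_zc p).trans (zc_le _))
  rw [ts_U, ts_Δ] at h1
  exact h1

end

end Cfsg.Agent.Omega.HTwo.TSPos

end

-- merged: Cfsg.Agent.Mrg.Omega.HTwo.EightPos
section

/-!
# II.0h1, `q = 2`, `|N_r| = 8`: from the position `Pos` and `TSz` to the output of (6) of #15507

* `TSPos.tb p h : (ts p h).TB S` (helper205);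
* `TSPos.three p h hc : Three ..`, `TSPos.inp p : Inp ..`, `TSPos.out p h hc : Out ..`.
-/

set_option autoImplicit false
set_option linter.unusedSectionVars false

namespace Cfsg.Agent.Omega.HTwo.TSPos

open Subgroup Cfsg Cfsg.Agent.ZN Cfsg.Agent.Omega.MinPar
open Cfsg.Agent.Omega.BTwo Cfsg.Agent.Omega.HOneTwo Cfsg.Agent.Omega.HTwo.Hat
open Cfsg.Agent.Omega.HTwo.Entry (Pos)
open Cfsg.Agent.Omega.HTwo.AlphaP (MP)
open Cfsg.Agent.Omega.HOne.Cut (TSz)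
open Cfsg.Agent.Omega.HOneTwo.Trans
open Cfsg.Agent.Omega.HTwo.Eight (Qp Cp Zp Np Res Three Inp Out)

universe u v

variable {G : Type u} [Group G] [Finite G] {S : Sylow 2 G} {P V : Subgroup G} {ι : Type v}
  {R : ι → Subgroup G} {o : ι} {r z : G}

section

variable (p : Pos S P V R o r z)
include p

theorem char2_S : HTwo.Par.Char2 (S : Subgroup G) := by
  intro e he he2 hs
  have hM : IsLoc (S : Subgroup G) (centralizer ({e} : Set G)) :=
    isLoc_centralizer S (by rw [pow_two]; exact he2) he fun s h => mem_centralizer_singleton_iff.2 (hs s h).symm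
  exact hM.char2 S p.char2

theorem S_r : ∀ s ∈ (S : Subgroup G), s * r = r * s := fun s hs => by
  have h1 := p.S_R hs
  rw [p.normalizer_eq] at h1
  exact mem_centralizer_singleton_iff.1 h1

theorem S_z : ∀ s ∈ (S : Subgroup G), s * z = z * s := fun s hs => (mem_zc.1 (z_zc p)).2.1 s hs

/-- helper205's data -/
theorem tb (h : TSz V R o r z) : (ts p h).TB (S : Subgroup G) :=
  TS.TB.of S rfl (fun s hs => by rw [ts_r]; exact S_r p s hs) (fun s hs => S_z p s hs) (char2_S p)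

/-- `z r` is not conjugate to `z` in `C(r)` -/
theorem not_conj_zr (h : TSz V R o r z) {g : G} (hg : g * r = r * g) : g * z * g⁻¹ ≠ z * r := by
  intro e
  have h1 := (tb p h).ZZ_not_both ((ts p h).zHs)
  apply h1
  change z * (ts p h).r 0 ∈ Delta ((ts p h).r 0) z
  rw [ts_r]
  exact ⟨g, hg, e.symm⟩

/-- `|N_r| = 8`, for `r` -/
theorem three_r (h : TSz V R o r z) (hc : Nat.card (gen r z) = 8) {t : G} (ht : t ∈ gen r z)
    (htU : ¬ ∀ u ∈ gn (MP V R o z) r, t * u = u * t) {g : G} (hg : g * r = r * g)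
    (htz : ∃ k, k * r = r * k ∧ t = k * z * k⁻¹) :
    g * z * g⁻¹ = z ∨ g * z * g⁻¹ = t ∨ g * z * g⁻¹ = r * z * t := by
  have A := res p h
  have hrΔ : r ∈ Dl (MP V R o z) r := self_mem_Dl _ _
  have hrU : r ∈ gn (MP V R o z) r := self_mem_gn _ _
  have hN : ∀ x, x ∈ Np z r ↔ x ∈ gen r z := fun x => by rw [TS.Np_eq]
  have hrN : r ∈ gen r z := by rw [← hN]; exact A.p_N hrΔ
  have hzN : z ∈ gen r z := self_mem_gen _ _
  have hf : Finite (gen r z) := Nat.finite_of_card_ne_zero (by rw [hc]; decide)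
  have hNsq : ∀ n ∈ gen r z, n * n = 1 := fun n hn => A.N_sq r hrΔ n ((hN n).2 hn)
  have hNc : ∀ n ∈ gen r z, ∀ m ∈ gen r z, n * m = m * n := fun n hn m hm =>
    A.N_comm hrΔ ((hN n).2 hn) ((hN m).2 hm)
  -- the eight elements
  let F : ZMod 2 × ZMod 2 × ZMod 2 → gen r z := fun c =>
    ⟨Eight.pw r c.1 * Eight.pw z c.2.1 * Eight.pw t c.2.2,
      mul_mem (mul_mem (Eight.pw_mem hrN _) (Eight.pw_mem hzN _)) (Eight.pw_mem ht _)⟩
  have hU : ∀ a b : ZMod 2, Eight.pw r a * Eight.pw z b ∈ gn (MP V R o z) r := fun a b =>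
    mul_mem (Eight.pw_mem hrU _) (Eight.pw_mem A.z_U _)
  have htU' : t ∉ gn (MP V R o z) r := fun h' => htU fun u hu => A.U_comm _ h' u hu
  have hinj : Function.Injective F := by
    rintro ⟨a, b, c⟩ ⟨a', b', c'⟩ he
    have h1 : Eight.pw r a * Eight.pw z b * Eight.pw t c = Eight.pw r a' * Eight.pw z b' * Eight.pw t c' :=
      congrArg Subtype.val he
    have hcc : c = c' := by
      by_contra hne
      apply htU'
      rcases Eight.z2 c with hc | hc <;> rcases Eight.z2 c' with hc' | hc'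
      · exact absurd (hc.trans hc'.symm) hne
      · rw [hc, hc', Eight.pw_zero, Eight.pw_one, mul_one] at h1
        have e : t = (Eight.pw r a' * Eight.pw z b')⁻¹ * (Eight.pw r a * Eight.pw z b) := by rw [h1]; group
        rw [e]; exact mul_mem (inv_mem (hU _ _)) (hU _ _)
      · rw [hc, hc', Eight.pw_zero, Eight.pw_one, mul_one] at h1
        have e : t = (Eight.pw r a * Eight.pw z b)⁻¹ * (Eight.pw r a' * Eight.pw z b') := by rw [← h1]; group
        rw [e]; exact mul_mem (inv_mem (hU _ _)) (hU _ _)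
      · exact absurd (hc.trans hc'.symm) hne
    subst hcc
    have h2 := mul_right_cancel h1
    have ha : a = a' := by
      by_contra hne
      have key : ∀ b b' : ZMod 2, r * Eight.pw z b = Eight.pw z b' → False := by
        intro b b' h
        have e : r = Eight.pw z (b' + b) := by
          rw [Eight.pw_add A.zz, ← h, mul_assoc, Eight.pw_sq A.zz, mul_one]
        rcases Eight.z2 (b' + b) with h0 | h0
        · rw [h0, Eight.pw_zero] at e; exact A.p_ne_one hrΔ e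
        · rw [h0, Eight.pw_one] at e; exact A.p_ne_z hrΔ e
      rcases Eight.z2 a with ha | ha <;> rcases Eight.z2 a' with ha' | ha'
      · exact absurd (ha.trans ha'.symm) hne
      · rw [ha, ha', Eight.pw_zero, Eight.pw_one, one_mul] at h2
        exact key _ _ h2.symm
      · rw [ha, ha', Eight.pw_zero, Eight.pw_one, one_mul] at h2
        exact key _ _ h2
      · exact absurd (ha.trans ha'.symm) hne
    subst ha
    rw [Eight.pw_inj A.z1 (mul_left_cancel h2)]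
  have hbij : Function.Bijective F := by
    refine (Nat.bijective_iff_injective_and_card F).2 ⟨hinj, ?_⟩
    rw [hc, Nat.card_prod, Nat.card_prod, Nat.card_zmod]
  -- `z^g ∈ N_r`
  have hy : g * z * g⁻¹ ∈ gen r z := subset_closure ⟨g, hg, rfl⟩
  -- exclusions
  have hzr : z * r = r * z := hNc z hzN r hrN
  have ex1 : ∀ k, k * r = r * k → k * z * k⁻¹ ≠ 1 := fun k _ he => A.z1 (conj_eq_one_iff.1 he)
  have ex2 : ∀ k, k * r = r * k → k * z * k⁻¹ ≠ r := by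
    intro k hk he
    apply A.p_ne_z hrΔ
    have e1 : z = k⁻¹ * r * k := by rw [← he]; group
    rw [e1, mul_assoc, ← hk]; group
  have ex3 : ∀ k, k * r = r * k → k * z * k⁻¹ ≠ r * z := fun k hk he =>
    not_conj_zr p h hk (by rw [he, hzr])
  obtain ⟨k, hk, ek⟩ := htz
  have ex4 : ∀ g, g * r = r * g → g * z * g⁻¹ ≠ r * t := by
    intro g hg he
    apply ex3 (k⁻¹ * g)
    · calc k⁻¹ * g * r = k⁻¹ * (g * r) := by group
        _ = k⁻¹ * r * g := by rw [hg]; group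
        _ = k⁻¹ * (r * k) * k⁻¹ * g := by group
        _ = r * (k⁻¹ * g) := by rw [← hk]; group
    · have hkr : k⁻¹ * r * k = r := by rw [mul_assoc, ← hk]; group
      calc k⁻¹ * g * z * (k⁻¹ * g)⁻¹ = k⁻¹ * (g * z * g⁻¹) * k := by group
        _ = k⁻¹ * (r * (k * z * k⁻¹)) * k := by rw [he, ek]
        _ = (k⁻¹ * r * k) * z := by group
        _ = r * z := by rw [hkr]
  have ex5 : ∀ g, g * r = r * g → g * z * g⁻¹ ≠ z * t := by
    intro g hg he
    obtain ⟨w, hw, hw1⟩ := A.exists_f1 hrΔ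
    -- `w t w⁻¹ = t r z`
    have h5 : w * t * w⁻¹ = t * (r * z) := by
      have h6 := (A.act_or hrΔ ((hN t).2 ht)).resolve_left htU w hw
      rw [hw1, Eight.pw_one] at h6
      have hti : t⁻¹ = t := inv_eq_of_mul_eq_one_left (hNsq t ht)
      have h7 : t⁻¹ * w * t = w * (r * z) := by rw [hti] at h6 ⊢; exact h6
      calc w * t * w⁻¹ = t * (t⁻¹ * w * t) * w⁻¹ := by group
        _ = t * (w * (r * z)) * w⁻¹ := by rw [h7]
        _ = t * ((r * z) * w) * w⁻¹ := by rw [A.U_comm w hw _ (A.pz_U hrΔ)]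
        _ = t * (r * z) := by group
    have hwr : w * r = r * w := A.U_comm w hw r hrU
    have hwz : w * z * w⁻¹ = z := by rw [A.U_comm w hw z A.z_U, mul_inv_cancel_right]
    apply ex4 (w * g)
    · rw [mul_assoc, hg, ← mul_assoc, hwr, mul_assoc]
    · calc w * g * z * (w * g)⁻¹ = w * (g * z * g⁻¹) * w⁻¹ := by group
        _ = (w * z * w⁻¹) * (w * t * w⁻¹) := by rw [he]; group
        _ = z * (t * (r * z)) := by rw [hwz, h5]
        _ = z * (z * r * t) := by rw [hNc t ht _ (mul_mem hrN hzN), hzr]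
        _ = r * t := by rw [← mul_assoc, ← mul_assoc, A.zz, one_mul]
  obtain ⟨⟨a, b, c⟩, hF⟩ := hbij.2 ⟨_, hy⟩
  have hF' : Eight.pw r a * Eight.pw z b * Eight.pw t c = g * z * g⁻¹ := congrArg Subtype.val hF
  rcases Eight.z2 a with ha | ha <;> rcases Eight.z2 b with hb | hb <;> rcases Eight.z2 c with hc | hc <;>
    rw [ha, hb, hc] at hF' <;> simp only [Eight.pw_zero, Eight.pw_one, one_mul, mul_one] at hF'
  · exact absurd hF'.symm (ex1 g hg)
  · exact Or.inr (Or.inl hF'.symm)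
  · exact Or.inl hF'.symm
  · exact absurd hF'.symm (ex5 g hg)
  · exact absurd hF'.symm (ex2 g hg)
  · exact absurd hF'.symm (ex4 g hg)
  · exact absurd hF'.symm (ex3 g hg)
  · exact Or.inr (Or.inr hF'.symm)

/-- **`|N_r| = 8` gives `Three`** -/
theorem three (h : TSz V R o r z) (hc : Nat.card (gen r z) = 8) :
    Three z (Dl (MP V R o z) r) (ts p h).tz := by
  have A := res p h
  rintro q ⟨m, hm, rfl⟩ g hg
  set q := m * r * m⁻¹ with hq
  have hqΔ : q ∈ Dl (MP V R o z) r := ⟨m, hm, rfl⟩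
  have hrΔ : r ∈ Dl (MP V R o z) r := self_mem_Dl _ _
  have hgq := Eight.mem_Cp.1 hg
  obtain ⟨k, hk, ek⟩ := A.t_ZZ q hqΔ
  have hkq := Eight.mem_Cp.1 hk
  have hmz : m * z = z * m := A.mz hm
  have hmz' : m⁻¹ * z * m = z := by rw [mul_assoc, ← hmz]; group
  -- conjugation to `r`
  have tr : ∀ g, g * q = q * g → (m⁻¹ * g * m) * r = r * (m⁻¹ * g * m) := by
    intro g hg
    calc (m⁻¹ * g * m) * r = m⁻¹ * (g * (m * r * m⁻¹)) * m := by group
      _ = m⁻¹ * (m * r * m⁻¹ * g) * m := by rw [← hq, hg]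
      _ = r * (m⁻¹ * g * m) := by group
  have tz : ∀ g, (m⁻¹ * g * m) * z * (m⁻¹ * g * m)⁻¹ = m⁻¹ * (g * z * g⁻¹) * m := by
    intro g
    calc (m⁻¹ * g * m) * z * (m⁻¹ * g * m)⁻¹ = m⁻¹ * g * (m * z) * m⁻¹ * g⁻¹ * m := by group
      _ = m⁻¹ * (g * z * g⁻¹) * m := by rw [hmz]; group
  set t := m⁻¹ * (ts p h).tz q * m with ht
  have htk : t = (m⁻¹ * k * m) * z * (m⁻¹ * k * m)⁻¹ := by rw [tz, ← ek, ht]
  have htN : t ∈ gen r z := by
    rw [htk]
    exact subset_closure ⟨_, tr k hkq, rfl⟩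
  have htU : ¬ ∀ u ∈ gn (MP V R o z) r, t * u = u * t := by
    have h1 := A.conj_mv (inv_mem hm) (A.t_mv hqΔ)
    rwa [inv_inv] at h1
  have h1 := three_r p h hc htN htU (tr g hgq) ⟨_, tr k hkq, htk⟩
  rw [tz] at h1
  have back : ∀ x : G, m⁻¹ * (g * z * g⁻¹) * m = x → g * z * g⁻¹ = m * x * m⁻¹ := by
    intro x hx
    rw [← hx]; group
  rcases h1 with h1 | h1 | h1
  · left
    rw [back _ h1, hmz, mul_inv_cancel_right]
  · right; left
    rw [back _ h1, ht]; group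
  · right; right
    rw [back _ h1, ht, hq]
    calc m * (r * z * (m⁻¹ * (ts p h).tz (m * r * m⁻¹) * m)) * m⁻¹
        = m * r * (z * m⁻¹) * (ts p h).tz (m * r * m⁻¹) := by group
      _ = m * r * (m⁻¹ * z) * (ts p h).tz (m * r * m⁻¹) := by
          have : z * m⁻¹ = m⁻¹ * z := by
            calc z * m⁻¹ = (m⁻¹ * z * m) * m⁻¹ := by rw [hmz']
              _ = m⁻¹ * z := by group
          rw [this]
      _ = m * r * m⁻¹ * z * (ts p h).tz (m * r * m⁻¹) := by group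

/-- the input of (6) at `r` -/
theorem inp : Inp z (MP V R o z) (gn (MP V R o z) r) (Dl (MP V R o z) r) r where
  r_Δ := self_mem_Dl _ _
  cc := by
    intro K hK hn k hk
    have h1 : K ≤ R o := by
      refine p.le_all o K ?_ ?_
      · intro l hl
        have h2 : (⨅ q ∈ Dl (MP V R o z) r, Zp q) ⊔ zpowers r ≤ HTwo.Par.RC p.toBT o := by
          refine sup_le ?_ ?_
          · intro x hx
            refine ⟨1, one_mem _, ?_⟩
            rw [one_mul]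
            simp only [mem_iInf] at hx
            obtain ⟨j, k, hj, hk, hjk⟩ := p.toHT.one_lt
            have h3 := hx _ (gg_Dl p o)
            have h4 := hx _ (gg_Dl p j)
            rw [← ZQ_inf p.toHT.toBTS p.le_all (Ne.symm hj)]
            refine ⟨?_, ?_⟩
            · show x ∈ ZQ R o
              unfold ZQ
              rw [QQ_eq p]; exact h3
            · show x ∈ ZQ R j
              unfold ZQ
              rw [QQ_eq p]; exact h4
          · rw [zpowers_le]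
            refine ⟨r⁻¹, inv_mem p.r_mem, ?_⟩
            rw [inv_mul_cancel]; exact one_mem _
        exact h2 (hK l hl)
      · intro g hg
        rw [p.normalizer_eq] at hg
        exact mem_normalizer_of_conj fun x hx => hn g hg x hx
    exact (p.r_iff k).1 (h1 hk)
  nab := by
    obtain ⟨h, hh, a, ha, c, hc, hne⟩ := AlphaFive.exists_h p.toHT p.r_iff
    obtain ⟨v, hv, rfl⟩ := hc
    refine ⟨h, ?_, a, ⟨V_U p ha, ?_⟩, v, ⟨V_U p hv, ?_⟩, hne⟩
    · rw [p.normalizer_eq] at hh; exact hh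
    · show a ∈ Qp r
      rw [← QQ_o p]; exact p.V_Q o ha
    · show v ∈ Qp r
      rw [← QQ_o p]; exact p.V_Q o hv
  char2 := by
    intro g hg hc
    exact char2_M p ⟨hg, (cen_iff p).2 hc⟩

/-- **the output of (6) of #15507 from `Pos`, `TSz` and `|N_r| = 8`** -/
theorem out (h : TSz V R o r z) (hc : Nat.card (gen r z) = 8) :
    Out z (MP V R o z) (gn (MP V R o z) r) (Dl (MP V R o z) r) (ts p h).f (ts p h).tz r :=
  (res p h).out (three p h hc) (inp p)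

end

end Cfsg.Agent.Omega.HTwo.TSPos

end
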